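import Cfsg.Agent.Lib.BlockReg.Height
import Cfsg.Agent.Lib.Char.Conj
import Cfsg.Prelude.Def_BlockRank
import Mathlib.LinearAlgebra.Trace
import Mathlib.LinearAlgebra.FiniteDimensional.Lemmas

/-!
# The `p`-regular rank of a block (number of irreducible Brauer characters)
-/

set_option autoImplicit false

open scoped ComplexConjugate
open Module

namespace CfsgLib.BlockRank

universe u

variable {G : Type u} [Group G] {p : ℕ}

open scoped Classical in
theorem pRegularPart_apply (f : G → ℂ) (g : G) :
    Cfsg.pRegularPart p f g = if Cfsg.IsPRegular p g then f g else 0 := rfl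

theorem isPRegular_conj (g x : G) : Cfsg.IsPRegular p (x * g * x⁻¹) ↔ Cfsg.IsPRegular p g := by
  rw [Cfsg.IsPRegular, Cfsg.IsPRegular,
    show orderOf (x * g * x⁻¹) = orderOf g from MulEquiv.orderOf_eq (MulAut.conj x) g]

theorem isPRegular_of_isConj {g h : G} (hgh : IsConj g h) :
    Cfsg.IsPRegular p g ↔ Cfsg.IsPRegular p h := by
  obtain ⟨x, rfl⟩ := isConj_iff.mp hgh
  exact (isPRegular_conj g x).symm

theorem isPRegular_inv (g : G) : Cfsg.IsPRegular p g⁻¹ ↔ Cfsg.IsPRegular p g := by
  rw [Cfsg.IsPRegular, Cfsg.IsPRegular, orderOf_inv]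

theorem isClassFunction_pRegularPart {f : G → ℂ} (hf : Cfsg.IsClassFunction G f) :
    Cfsg.IsClassFunction G (Cfsg.pRegularPart p f) := fun g x => by
  classical
  rw [pRegularPart_apply, pRegularPart_apply, hf g x]
  exact if_congr (isPRegular_conj g x) rfl rfl

theorem pRegularPart_idem (f : G → ℂ) :
    Cfsg.pRegularPart p (Cfsg.pRegularPart p f) = Cfsg.pRegularPart p f := by
  classical
  funext g
  simp only [pRegularPart_apply]
  split_ifs <;> rfl

/-- Restriction to the `p`-regular elements as a linear map. -/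
noncomputable def regLin (p : ℕ) : (G → ℂ) →ₗ[ℂ] (G → ℂ) where
  toFun := Cfsg.pRegularPart p
  map_add' a b := by
    classical
    funext g
    simp only [Pi.add_apply, pRegularPart_apply]
    split_ifs <;> simp
  map_smul' c a := by
    classical
    funext g
    simp only [Pi.smul_apply, pRegularPart_apply, RingHom.id_apply, smul_eq_mul]
    split_ifs <;> simp

theorem regLin_apply (f : G → ℂ) : regLin p f = Cfsg.pRegularPart p f := rfl

theorem classInner_pRegularPart_left [Fintype G] (f g : G → ℂ) :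
    Cfsg.classInner (Cfsg.pRegularPart p f) g =
      Cfsg.classInner (Cfsg.pRegularPart p f) (Cfsg.pRegularPart p g) := by
  classical
  simp only [Cfsg.classInner]
  refine congrArg _ (Finset.sum_congr rfl fun x _ => ?_)
  simp only [pRegularPart_apply]
  split_ifs <;> simp

/-- Irreducible characters in `B` and outside `B` are orthogonal on the regular elements. -/
def RegClosed [Fintype G] (p : ℕ) (B : Set (Cfsg.IrrCharacter G)) : Prop :=
  ∀ χ ∈ B, ∀ ψ ∉ B, Cfsg.classInner (Cfsg.pRegularPart p (χ : G → ℂ)) (ψ : G → ℂ) = 0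

variable [Fintype G]

theorem regClosed_univ : RegClosed p (Set.univ : Set (Cfsg.IrrCharacter G)) :=
  fun _ _ _ h => absurd trivial h

theorem regClosed_of_isPBlock [Fact p.Prime] {M : Ideal Cfsg.AlgInt} (hM : Cfsg.IsPModular p M)
    {B : Set (Cfsg.IrrCharacter G)} (hB : Cfsg.IsPBlock M B) : RegClosed p B := by
  classical
  intro χ hχ ψ hψ
  have h := CfsgLib.BlockReg.classInner_tilde_eq_zero hM hB hχ hψ
  have he : CfsgLib.BlockReg.tilde p (χ : G → ℂ) =
      ((p ^ (Nat.card G).factorization p : ℕ) : ℂ) • Cfsg.pRegularPart p (χ : G → ℂ) := by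
    funext x
    by_cases hx : p ∣ orderOf x <;>
      simp [CfsgLib.BlockReg.tilde, pRegularPart_apply, Cfsg.IsPRegular, hx]
  rw [he, CfsgLib.Char.classInner_smul_left] at h
  exact (mul_eq_zero.mp h).resolve_left
    (Nat.cast_ne_zero.mpr (pow_ne_zero _ (Fact.out : p.Prime).ne_zero))

/-- The regular part of a member of a closed set is a combination of the set. -/
theorem pRegularPart_eq_sum {B : Set (Cfsg.IrrCharacter G)} [Fintype B] (hB : RegClosed p B)
    {χ : Cfsg.IrrCharacter G} (hχ : χ ∈ B) :
    Cfsg.pRegularPart p (χ : G → ℂ) =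
      ∑ ψ : B, Cfsg.classInner (Cfsg.pRegularPart p (χ : G → ℂ)) ((ψ : Cfsg.IrrCharacter G) : G → ℂ) •
        ((ψ : Cfsg.IrrCharacter G) : G → ℂ) := by
  classical
  conv_lhs => rw [CfsgLib.Char.IsClassFunction.eq_sum_classInner
    (isClassFunction_pRegularPart (p := p) (CfsgLib.Char.IsIrrCharacter.isClassFunction χ.2))]
  rw [Finset.sum_subtype B.toFinset (fun x => Set.mem_toFinset)
    (fun ψ : Cfsg.IrrCharacter G =>
      Cfsg.classInner (Cfsg.pRegularPart p (χ : G → ℂ)) (ψ : G → ℂ) • (ψ : G → ℂ)) |>.symm]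
  refine (Finset.sum_subset (Finset.subset_univ _) fun ψ _ hψ => ?_).symm
  rw [hB χ hχ ψ (fun h => hψ (Set.mem_toFinset.mpr h)), zero_smul]

/-- Combinations of the regular parts of a set of irreducible characters. -/
noncomputable def regSpanMap (p : ℕ) (B : Set (Cfsg.IrrCharacter G)) [Fintype B] :
    (B → ℂ) →ₗ[ℂ] (G → ℂ) :=
  Fintype.linearCombination ℂ
    fun χ : B => Cfsg.pRegularPart p ((χ : Cfsg.IrrCharacter G) : G → ℂ)

/-- Coefficients along a set of irreducible characters. -/
noncomputable def coeffMap (B : Set (Cfsg.IrrCharacter G)) : (G → ℂ) →ₗ[ℂ] (B → ℂ) where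
  toFun f χ := Cfsg.classInner f ((χ : Cfsg.IrrCharacter G) : G → ℂ)
  map_add' a b := funext fun χ => CfsgLib.Char.classInner_add_left a b _
  map_smul' c a := funext fun χ => CfsgLib.Char.classInner_smul_left c a _

/-- **The rank of a closed set is the average norm on the regular elements.** -/
theorem cast_blockRank_eq (B : Set (Cfsg.IrrCharacter G)) [Fintype B] (hB : RegClosed p B) :
    (Cfsg.blockRank p B : ℂ) = ∑ χ : B, Cfsg.classInner
      (Cfsg.pRegularPart p ((χ : Cfsg.IrrCharacter G) : G → ℂ))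
      ((χ : Cfsg.IrrCharacter G) : G → ℂ) := by
  classical
  set T := regSpanMap p B with hT
  set S := coeffMap (G := G) B with hS
  have hTS : ∀ c : B → ℂ, T (S (T c)) = T c := by
    have h1 : ∀ χ : B, T (S (Cfsg.pRegularPart p ((χ : Cfsg.IrrCharacter G) : G → ℂ))) =
        Cfsg.pRegularPart p ((χ : Cfsg.IrrCharacter G) : G → ℂ) := fun χ => by
      simp only [hT, hS, regSpanMap, Fintype.linearCombination_apply, coeffMap, LinearMap.coe_mk,
        AddHom.coe_mk]
      have h2 := congrArg (regLin p) (pRegularPart_eq_sum hB χ.2)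
      simp only [map_sum, map_smul, regLin_apply, pRegularPart_idem] at h2
      exact h2.symm
    intro c
    have hTc : T c = ∑ χ : B, c χ • Cfsg.pRegularPart p ((χ : Cfsg.IrrCharacter G) : G → ℂ) := by
      simp only [hT, regSpanMap, Fintype.linearCombination_apply]
    rw [hTc]
    simp only [map_sum, map_smul, h1]
  set Q : Module.End ℂ (B → ℂ) := S ∘ₗ T with hQ
  have hidem : IsIdempotentElem Q := LinearMap.ext fun c => by
    simp only [hQ, Module.End.mul_apply, LinearMap.comp_apply, hTS]
  have hker : LinearMap.ker Q = LinearMap.ker T := by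
    refine le_antisymm (fun c hc => ?_) (fun c hc => ?_)
    · rw [LinearMap.mem_ker] at hc ⊢
      rw [← hTS c]
      simp only [hQ, LinearMap.comp_apply] at hc
      rw [hc, map_zero]
    · rw [LinearMap.mem_ker] at hc ⊢
      simp only [hQ, LinearMap.comp_apply, hc, map_zero]
  have hrank : finrank ℂ (LinearMap.range Q) = finrank ℂ (LinearMap.range T) := by
    have h1 := LinearMap.finrank_range_add_finrank_ker Q
    have h2 := LinearMap.finrank_range_add_finrank_ker T
    rw [hker] at h1
    omega
  have hspan : Cfsg.blockRank p B = finrank ℂ (LinearMap.range T) := by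
    unfold Cfsg.blockRank
    rw [hT, regSpanMap, Fintype.range_linearCombination, Set.image_eq_range]
  rw [hspan, ← hrank, ← (LinearMap.IsIdempotentElem.isProj_range Q hidem).trace,
    LinearMap.trace_eq_matrix_trace ℂ (Pi.basisFun ℂ B), Matrix.trace]
  refine Finset.sum_congr rfl fun χ _ => ?_
  rw [Matrix.diag_apply, LinearMap.toMatrix_apply, Pi.basisFun_repr, Pi.basisFun_apply]
  simp [hQ, hT, hS, regSpanMap, coeffMap, Fintype.linearCombination_apply, Pi.single_apply]

/-- The number of `p`-regular classes is the rank of all irreducible characters. -/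
theorem blockRank_univ :
    Cfsg.blockRank p (Set.univ : Set (Cfsg.IrrCharacter G)) =
      Nat.card {C : ConjClasses G // ∀ g : G, ConjClasses.mk g = C → Cfsg.IsPRegular p g} := by
  classical
  have : Finite (ConjClasses G) := Finite.of_surjective ConjClasses.mk Quotient.mk_surjective
  have := Fintype.ofFinite (ConjClasses G)
  have hG : (Nat.card G : ℂ) ≠ 0 := Nat.cast_ne_zero.mpr Nat.card_pos.ne'
  have h := cast_blockRank_eq (p := p) (Set.univ : Set (Cfsg.IrrCharacter G)) regClosed_univ
  replace h := h.trans (Fintype.sum_equiv (Equiv.Set.univ (Cfsg.IrrCharacter G)) _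
    (fun χ => Cfsg.classInner (Cfsg.pRegularPart p (χ : G → ℂ)) (χ : G → ℂ)) (fun χ => rfl))
  simp only [Cfsg.classInner, ← Finset.mul_sum] at h
  rw [Finset.sum_comm] at h
  have hcol : ∀ g : G, ∑ χ : Cfsg.IrrCharacter G,
      Cfsg.pRegularPart p (χ : G → ℂ) g * conj ((χ : G → ℂ) g) =
      (Nat.card (Subgroup.centralizer ({g} : Set G)) : ℂ) *
        if (∀ x : G, ConjClasses.mk x = ConjClasses.mk g → Cfsg.IsPRegular p x) then 1 else 0 := by
    intro g
    by_cases hg : Cfsg.IsPRegular p g
    · have hall : ∀ x : G, ConjClasses.mk x = ConjClasses.mk g → Cfsg.IsPRegular p x :=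
        fun x hx => (isPRegular_of_isConj (ConjClasses.mk_eq_mk_iff_isConj.mp hx)).mpr hg
      simp only [pRegularPart_apply, if_pos hg, if_pos hall, mul_one]
      rw [CfsgLib.Char.sum_mul_conj g g, if_pos (IsConj.refl g)]
    · have hall : ¬ ∀ x : G, ConjClasses.mk x = ConjClasses.mk g → Cfsg.IsPRegular p x :=
        fun hh => hg (hh g rfl)
      simp [pRegularPart_apply, hg, hall]
  rw [Finset.sum_congr rfl fun g _ => hcol g, CfsgLib.Char.sum_centralizer_mul (fun C =>
    if (∀ x : G, ConjClasses.mk x = C → Cfsg.IsPRegular p x) then (1 : ℂ) else 0), ← mul_assoc,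
    inv_mul_cancel₀ hG, one_mul, Finset.sum_boole] at h
  rw [Nat.card_eq_fintype_card, Fintype.card_subtype]
  exact_mod_cast h

/-- The ranks of the blocks add up to the number of `p`-regular classes. -/
theorem sum_blockRank [Fact p.Prime] {M : Ideal Cfsg.AlgInt} (hM : Cfsg.IsPModular p M)
    [Fintype {B : Set (Cfsg.IrrCharacter G) // Cfsg.IsPBlock M B}] :
    ∑ B : {B : Set (Cfsg.IrrCharacter G) // Cfsg.IsPBlock M B}, Cfsg.blockRank p B.1 =
      Nat.card {C : ConjClasses G // ∀ g : G, ConjClasses.mk g = C → Cfsg.IsPRegular p g} := by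
  classical
  rw [← blockRank_univ]
  let F : Cfsg.IrrCharacter G → ℂ := fun χ =>
    Cfsg.classInner (Cfsg.pRegularPart p (χ : G → ℂ)) (χ : G → ℂ)
  let β : Cfsg.IrrCharacter G → {B : Set (Cfsg.IrrCharacter G) // Cfsg.IsPBlock M B} := fun χ =>
    ⟨Cfsg.blockOf M (χ : G → ℂ), χ, rfl⟩
  have hfib : ∀ B : {B : Set (Cfsg.IrrCharacter G) // Cfsg.IsPBlock M B},
      (Cfsg.blockRank p B.1 : ℂ) = ∑ χ ∈ Finset.univ.filter (fun χ => β χ = B), F χ := by
    intro B
    rw [cast_blockRank_eq B.1 (regClosed_of_isPBlock hM B.2)]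
    refine (Finset.sum_subtype _ (fun χ => ?_) F).symm
    simp only [Finset.mem_filter, Finset.mem_univ, true_and]
    constructor
    · intro h
      rw [← h]
      exact CfsgLib.BlockReg.sameBlock_refl hM _
    · intro h
      exact Subtype.ext (CfsgLib.BlockReg.block_eq_blockOf hM B.2 h).symm
  have h1 : ((∑ B : {B : Set (Cfsg.IrrCharacter G) // Cfsg.IsPBlock M B},
      Cfsg.blockRank p B.1 : ℕ) : ℂ) =
      (Cfsg.blockRank p (Set.univ : Set (Cfsg.IrrCharacter G)) : ℂ) := by
    rw [Nat.cast_sum, Finset.sum_congr rfl fun B _ => hfib B, Finset.sum_fiberwise,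
      cast_blockRank_eq _ regClosed_univ]
    exact (Fintype.sum_equiv (Equiv.Set.univ (Cfsg.IrrCharacter G)) _ F fun χ => rfl).symm
  exact_mod_cast h1

omit [Fintype G] in
/-- The rank is at most the number of characters. -/
theorem blockRank_le_card [Finite G] (B : Set (Cfsg.IrrCharacter G)) :
    Cfsg.blockRank p B ≤ Nat.card B := by
  classical
  have := Fintype.ofFinite B
  unfold Cfsg.blockRank
  rw [Set.image_eq_range, Nat.card_eq_fintype_card]
  exact finrank_range_le_card _

omit [Fintype G] in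
/-- A nonempty set has positive rank. -/
theorem blockRank_pos [Finite G] (hp : p ≠ 1) {B : Set (Cfsg.IrrCharacter G)}
    (hB : B.Nonempty) : 0 < Cfsg.blockRank p B := by
  classical
  obtain ⟨χ, hχ⟩ := hB
  have hne : Cfsg.pRegularPart p (χ : G → ℂ) ≠ 0 := fun h => by
    have h1 := congrFun h 1
    rw [pRegularPart_apply, if_pos] at h1
    · exact CfsgLib.Char.IsIrrCharacter.apply_one_ne_zero χ.2 h1
    · rw [Cfsg.IsPRegular, orderOf_one]
      exact fun h => hp (Nat.dvd_one.mp h)
  cases nonempty_fintype G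
  exact Submodule.one_le_finrank_iff.mpr fun hbot => hne ((Submodule.mem_bot ℂ).mp
    (hbot ▸ Submodule.subset_span ⟨χ, hχ, rfl⟩))

end CfsgLib.BlockRank
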