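import Cfsg.Agent.Lib.BlockRank.Major
import Cfsg.Agent.Lib.Blocks.Defect
import Cfsg.Agent.Lib.Blocks.HeightZero
import Mathlib.Algebra.GCDMonoid.Finset
import Mathlib.LinearAlgebra.LinearIndependent.Lemmas

/-!
# Blocks of rank one, blocks with a central defect group
-/

set_option autoImplicit false

open scoped ComplexConjugate
open Module

namespace CfsgLib.BlockRank

universe u

theorem exists_int_sum_eq_gcd {ι : Type*} (s : Finset ι) (f : ι → ℕ) :
    ∃ n : ι → ℤ, ∑ i ∈ s, n i * (f i : ℤ) = ((s.gcd f : ℕ) : ℤ) := by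
  classical
  induction s using Finset.induction_on with
  | empty => exact ⟨0, by simp⟩
  | insert a s ha ih =>
    obtain ⟨n, hn⟩ := ih
    refine ⟨fun i => if i = a then Nat.gcdA (f a) (s.gcd f) else
      n i * Nat.gcdB (f a) (s.gcd f), ?_⟩
    rw [Finset.sum_insert ha]
    beta_reduce
    rw [if_pos rfl, Finset.gcd_insert,
      show GCDMonoid.gcd (f a) (s.gcd f) = Nat.gcd (f a) (s.gcd f) from rfl, Nat.gcd_eq_gcd_ab]
    have : ∑ i ∈ s, (if i = a then Nat.gcdA (f a) (s.gcd f) else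
        n i * Nat.gcdB (f a) (s.gcd f)) * (f i : ℤ) =
        Nat.gcdB (f a) (s.gcd f) * ((s.gcd f : ℕ) : ℤ) := by
      rw [← hn, Finset.mul_sum]
      exact Finset.sum_congr rfl fun i hi => by
        rw [if_neg (fun h => ha (by rwa [← h]))]; ring
    rw [this]
    ring

variable {G : Type u} [Group G] [Fintype G] {p : ℕ} {M : Ideal Cfsg.AlgInt}

open CfsgLib.BlockReg in
/-- In a block of rank one the regular restrictions are natural multiples of one function and
their squares add up to the order of a defect group. -/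
theorem exists_rankOne_data [Fact p.Prime] (hM : Cfsg.IsPModular p M)
    {B : Set (Cfsg.IrrCharacter G)} [Fintype B] (hB : Cfsg.IsPBlock M B)
    (hl : Cfsg.blockRank p B = 1) :
    ∃ (φ : G → ℂ) (n : Cfsg.IrrCharacter G → ℤ) (d : Cfsg.IrrCharacter G → ℕ),
      (φ = fun x => ∑ ψ ∈ B.toFinset, (n ψ : ℂ) * (ψ : G → ℂ) x) ∧
      (∀ χ ∈ B, ∀ x : G, Cfsg.IsPRegular p x → (χ : G → ℂ) x = (d χ : ℂ) * φ x) ∧
      ∑ χ ∈ B.toFinset, d χ ^ 2 = p ^ Cfsg.blockDefect p B := by
  classical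
  have hp : p.Prime := Fact.out
  obtain ⟨θ, hθ⟩ := block_nonempty hM hB
  have h1reg : Cfsg.IsPRegular p (1 : G) := by
    simp [Cfsg.IsPRegular, hp.ne_one]
  have hratio : ∀ χ ∈ B, ∀ x : G, Cfsg.IsPRegular p x →
      (χ : G → ℂ) x * (θ : G → ℂ) 1 = (χ : G → ℂ) 1 * (θ : G → ℂ) x := by
    intro χ hχ x hx
    let W := Submodule.span ℂ
      ((fun χ : Cfsg.IrrCharacter G => Cfsg.pRegularPart p (χ : G → ℂ)) '' B)
    let vθ : W := ⟨Cfsg.pRegularPart p (θ : G → ℂ), Submodule.subset_span ⟨θ, hθ, rfl⟩⟩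
    let vχ : W := ⟨Cfsg.pRegularPart p (χ : G → ℂ), Submodule.subset_span ⟨χ, hχ, rfl⟩⟩
    have hne : vθ ≠ 0 := fun h => by
      have h' := congrFun (congrArg Subtype.val h) 1
      simp only [vθ, pRegularPart_apply, if_pos h1reg] at h'
      exact deg_ne_zero θ h'
    obtain ⟨c, hc⟩ := exists_smul_eq_of_finrank_eq_one (K := ℂ) (V := W) hl hne vχ
    have hev : ∀ y : G, Cfsg.IsPRegular p y → (χ : G → ℂ) y = c * (θ : G → ℂ) y := fun y hy => by
      have h := congrFun (congrArg Subtype.val hc) y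
      simpa [vθ, vχ, pRegularPart_apply, hy] using h.symm
    rw [hev x hx, hev 1 h1reg]
    ring
  set g := B.toFinset.gcd fun χ : Cfsg.IrrCharacter G => Cfsg.charDegree (χ : G → ℂ) with hg
  obtain ⟨n, hn⟩ := exists_int_sum_eq_gcd B.toFinset
    (fun χ : Cfsg.IrrCharacter G => Cfsg.charDegree (χ : G → ℂ))
  have hgpos : 0 < g := Nat.pos_of_ne_zero fun h =>
    (deg_pos θ).ne' (Finset.gcd_eq_zero_iff.mp h θ (Set.mem_toFinset.mpr hθ))
  let d : Cfsg.IrrCharacter G → ℕ := fun χ => Cfsg.charDegree (χ : G → ℂ) / g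
  let φ : G → ℂ := fun x => ∑ ψ ∈ B.toFinset, (n ψ : ℂ) * (ψ : G → ℂ) x
  have hdg : ∀ χ ∈ B, Cfsg.charDegree (χ : G → ℂ) = d χ * g := fun χ hχ =>
    (Nat.div_mul_cancel (Finset.gcd_dvd
      (f := fun χ : Cfsg.IrrCharacter G => Cfsg.charDegree (χ : G → ℂ))
      (Set.mem_toFinset.mpr hχ))).symm
  have hnC : ∑ ψ ∈ B.toFinset, (n ψ : ℂ) * (ψ : G → ℂ) 1 = (g : ℂ) := by
    have h := congrArg (fun z : ℤ => (z : ℂ)) hn
    simp only [Int.cast_sum, Int.cast_mul, Int.cast_natCast, deg_cast] at h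
    exact h
  have hφ : ∀ x : G, Cfsg.IsPRegular p x →
      φ x * (θ : G → ℂ) 1 = (g : ℂ) * (θ : G → ℂ) x := by
    intro x hx
    rw [← hnC]
    simp only [φ, Finset.sum_mul]
    refine Finset.sum_congr rfl fun ψ hψ => ?_
    rw [mul_assoc, hratio ψ (Set.mem_toFinset.mp hψ) x hx, mul_assoc]
  have hd : ∀ χ ∈ B, ∀ x : G, Cfsg.IsPRegular p x → (χ : G → ℂ) x = (d χ : ℂ) * φ x := by
    intro χ hχ x hx
    refine mul_right_cancel₀ (deg_ne_zero θ) ?_
    rw [hratio χ hχ x hx, mul_assoc, hφ x hx, ← deg_cast χ, hdg χ hχ]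
    push_cast
    ring
  refine ⟨φ, n, d, rfl, hd, ?_⟩
  set S := ∑ χ ∈ B.toFinset, d χ ^ 2 with hS
  let w : ℂ := (Nat.card G : ℂ)⁻¹ * regPair p φ φ
  have hinner : ∀ χ ∈ B, ∀ ψ ∈ B, (Nat.card G : ℂ)⁻¹ * regPair p (χ : G → ℂ) (ψ : G → ℂ) =
      (d χ : ℂ) * (d ψ : ℂ) * w := by
    intro χ hχ ψ hψ
    simp only [w, regPair, Finset.mul_sum]
    refine Finset.sum_congr rfl fun s hs => ?_
    rw [hd χ hχ s (Finset.mem_filter.mp hs).2, hd ψ hψ s (Finset.mem_filter.mp hs).2, map_mul,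
      map_natCast]
    ring
  have hSw : (S : ℂ) * w = 1 := by
    have h := cast_blockRank_eq B (regClosed_of_isPBlock hM hB)
    rw [hl, Nat.cast_one, ← Finset.sum_subtype B.toFinset (fun x => Set.mem_toFinset)
      (fun χ : Cfsg.IrrCharacter G =>
        Cfsg.classInner (Cfsg.pRegularPart p (χ : G → ℂ)) (χ : G → ℂ))] at h
    rw [h, hS, Nat.cast_sum, Finset.sum_mul]
    refine Finset.sum_congr rfl fun χ hχ => ?_
    rw [classInner_pRegularPart_eq, hinner χ (Set.mem_toFinset.mp hχ) χ (Set.mem_toFinset.mp hχ)]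
    push_cast
    ring
  set a := (Nat.card G).factorization p with ha
  have hint : ∀ χ ∈ B, ∀ ψ ∈ B, ∃ z : ℤ, ((p ^ a * (d χ * d ψ) : ℕ) : ℤ) = (S : ℤ) * z := by
    intro χ hχ ψ hψ
    obtain ⟨z, hz⟩ := exists_int_classInner_tilde (p := p) hp χ ψ
    refine ⟨z, ?_⟩
    rw [classInner_tilde_eq, hinner χ hχ ψ hψ] at hz
    have h2 : ((p ^ a * (d χ * d ψ) : ℕ) : ℂ) = (S : ℂ) * (z : ℂ) := by
      rw [← hz]
      push_cast
      calc (p : ℂ) ^ a * ((d χ : ℂ) * d ψ) = (p : ℂ) ^ a * ((d χ : ℂ) * d ψ) * ((S : ℂ) * w) := by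
            rw [hSw, mul_one]
        _ = _ := by ring
    exact_mod_cast h2
  have hsum1 : ∑ ψ ∈ B.toFinset, n ψ * (d ψ : ℤ) = 1 := by
    refine mul_right_cancel₀ (b := (g : ℤ)) (by exact_mod_cast hgpos.ne') ?_
    rw [one_mul, Finset.sum_mul]
    refine Eq.trans (Finset.sum_congr rfl fun ψ hψ => ?_) hn
    rw [mul_assoc, hdg ψ (Set.mem_toFinset.mp hψ), Nat.cast_mul]
  have hdvd : (S : ℤ) ∣ ((p ^ a : ℕ) : ℤ) := by
    have h2 : ((p ^ a : ℕ) : ℤ) = ∑ χ ∈ B.toFinset, ∑ ψ ∈ B.toFinset,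
        n χ * n ψ * ((p ^ a * (d χ * d ψ) : ℕ) : ℤ) := by
      calc ((p ^ a : ℕ) : ℤ) = (∑ χ ∈ B.toFinset, n χ * (d χ : ℤ)) *
            (∑ ψ ∈ B.toFinset, n ψ * (d ψ : ℤ)) * ((p ^ a : ℕ) : ℤ) := by
            rw [hsum1, one_mul, one_mul]
        _ = _ := by
            rw [Finset.sum_mul_sum, Finset.sum_mul]
            refine Finset.sum_congr rfl fun χ _ => ?_
            rw [Finset.sum_mul]
            exact Finset.sum_congr rfl fun ψ _ => by push_cast; ring
    rw [h2]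
    refine Finset.dvd_sum fun χ hχ => Finset.dvd_sum fun ψ hψ => Dvd.dvd.mul_left ?_ _
    obtain ⟨z, hz⟩ := hint χ (Set.mem_toFinset.mp hχ) ψ (Set.mem_toFinset.mp hψ)
    exact ⟨z, hz⟩
  obtain ⟨s, -, hs⟩ := (Nat.dvd_prime_pow hp).1 (Int.natCast_dvd_natCast.mp hdvd)
  have hgm : g.factorization p = minExp p B := by
    refine le_antisymm ?_ ?_
    · obtain ⟨χ, hχ, hm⟩ := exists_minExp (p := p) (block_nonempty hM hB)
      rw [← hm]
      exact (Nat.factorization_le_iff_dvd hgpos.ne' (deg_pos χ).ne').mpr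
        (Finset.gcd_dvd (Set.mem_toFinset.mpr hχ)) p
    · refine (hp.pow_dvd_iff_le_factorization hgpos.ne').mp (Finset.dvd_gcd fun χ hχ => ?_)
      exact (hp.pow_dvd_iff_le_factorization (deg_pos χ).ne').mpr
        (minExp_le (Set.mem_toFinset.mp hχ))
  have hfac := factorization_sum_sq hM hB
  have hsq : (∑ᶠ χ ∈ B, Cfsg.charDegree (χ : G → ℂ) ^ 2) = g ^ 2 * p ^ s := by
    rw [finsum_mem_eq_toFinset_sum, ← hs, hS, Finset.mul_sum]
    exact Finset.sum_congr rfl fun χ hχ => by rw [hdg χ (Set.mem_toFinset.mp hχ)]; ring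
  rw [hsq, Nat.factorization_mul (pow_ne_zero _ hgpos.ne') (pow_ne_zero _ hp.ne_zero),
    Nat.factorization_pow, Nat.factorization_pow, hp.factorization] at hfac
  simp only [Finsupp.add_apply, Finsupp.smul_apply, smul_eq_mul, Finsupp.single_eq_same,
    hgm, mul_one] at hfac
  rw [hs, CfsgLib.BlockReg.blockDefect_eq]
  congr 1
  omega

open CfsgLib.BlockReg in
/-- A block with a central defect group has rank one. -/
theorem blockRank_eq_one_of_central [Fact p.Prime] (hM : Cfsg.IsPModular p M)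
    {B : Set (Cfsg.IrrCharacter G)} (hB : Cfsg.IsPBlock M B) {P : Subgroup G}
    (hD : Cfsg.IsDefectGroup p M B P) (hPZ : P ≤ Subgroup.center G) :
    Cfsg.blockRank p B = 1 := by
  classical
  have hp : p.Prime := Fact.out
  have hmax : M.IsMaximal := hM.2.1
  have := Fintype.ofFinite B
  have hcard := CfsgLib.Blocks.card_defectGroup hM hB hD
  have hPp := CfsgLib.Blocks.isPGroup_defectGroup hD
  obtain ⟨g, hg, S, hS⟩ := hD
  -- the defect group is the only Sylow subgroup of the centralizer of its defect class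
  have hz : ∀ z : G, (∃ k : ℕ, orderOf z = p ^ k) → Commute g z → z ∈ P := by
    intro z hzp hcomm
    obtain ⟨k, hk⟩ := hzp
    obtain ⟨T, hT⟩ := CfsgLib.Blocks.exists_mem_sylow_centralizer (p := p) hk hcomm
    have : (S : Subgroup (Subgroup.centralizer ({g} : Set G))).Normal := by
      refine ⟨fun a ha b => ?_⟩
      have hac : (a : G) ∈ Subgroup.center G := hPZ (hS ▸ Subgroup.mem_map_of_mem _ ha)
      have : b * a * b⁻¹ = a := Subtype.ext (by
        simp only [Subgroup.coe_mul, InvMemClass.coe_inv]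
        rw [Subgroup.mem_center_iff.1 hac (b : G), mul_inv_cancel_right])
      rwa [this]
    have hle := S.3 (IsPGroup.to_sup_of_normal_right T.2 S.2) le_sup_right
    rw [hS]
    exact Subgroup.map_mono (le_sup_left.trans hle.le) hT
  -- characters vanish off the sections of `P`
  have hvan : ∀ χ ∈ B, ∀ h z : G, Cfsg.IsPPart p h z → z ∉ P → (χ : G → ℂ) h = 0 := by
    intro χ hχ h z hhz hzP
    refine CfsgLib.Blocks.char_eq_zero_of_forall_not_commute hp hM.2.2 hB hχ hg hhz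
      fun g' hg' hcomm => hzP ?_
    obtain ⟨c, hc⟩ := isConj_iff.1 hg'
    obtain ⟨-, -, -, hzp, -⟩ := hhz
    have hz' : c⁻¹ * z * c ∈ P := by
      refine hz _ ?_ ?_
      · obtain ⟨k, hk⟩ := hzp
        exact ⟨k, by
          rw [← hk, show c⁻¹ * z * c = MulAut.conj c⁻¹ z by simp]
          exact MulEquiv.orderOf_eq _ z⟩
      · have h2 := hcomm.map (MulAut.conj c⁻¹)
        rw [← hc] at h2
        simpa [mul_assoc] using h2
    have h3 : c * (c⁻¹ * z * c) * c⁻¹ = c⁻¹ * z * c := by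
      rw [Subgroup.mem_center_iff.1 (hPZ hz') c, mul_inv_cancel_right]
    rw [← show c * (c⁻¹ * z * c) * c⁻¹ = z by group, h3]
    exact hz'
  -- the scalars by which `P` acts
  set N := Nat.card G with hN
  have hN0 : 0 < N := Nat.card_pos
  let ζ := Complex.exp (2 * Real.pi * Complex.I / N)
  have hζ : IsPrimitiveRoot ζ N := Complex.isPrimitiveRoot_exp N hN0.ne'
  choose e he using fun (χ : Cfsg.IrrCharacter G) (z : P) =>
    exists_central_root hN0 hζ (hPZ z.2) (pow_card_eq_one' (x := (z : G))) χ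
  let lam : Cfsg.IrrCharacter G → P →* ℂ := fun χ =>
    { toFun := fun z => ζ ^ e χ z
      map_one' := by
        have h := he χ 1 1
        rw [OneMemClass.coe_one, one_mul] at h
        exact (mul_eq_right₀ (deg_ne_zero χ)).mp h.symm
      map_mul' := fun a b => by
        have h1 := he χ (a * b) 1
        rw [Subgroup.coe_mul, mul_assoc, he χ a, he χ b, ← mul_assoc] at h1
        exact (mul_right_cancel₀ (deg_ne_zero χ) h1).symm }
  have hlam : ∀ (χ : Cfsg.IrrCharacter G) (z : P) (x : G),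
      (χ : G → ℂ) ((z : G) * x) = lam χ z * (χ : G → ℂ) x := fun χ z x => he χ z x
  have hunit : ∀ (χ : Cfsg.IrrCharacter G) (z : P), lam χ z * conj (lam χ z) = 1 := fun χ z => by
    rw [Complex.mul_conj, Complex.normSq_eq_norm_sq,
      Complex.norm_eq_one_of_pow_eq_one (n := N) (by
        show (ζ ^ e χ z) ^ N = 1
        rw [← pow_mul, mul_comm, pow_mul, hζ.pow_eq_one, one_pow]) hN0.ne']
    simp
  -- inner products
  have hinner : ∀ χ ∈ B, ∀ ψ : Cfsg.IrrCharacter G,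
      ∑ x : G, (χ : G → ℂ) x * conj ((ψ : G → ℂ) x) =
        (∑ z : P, lam χ z * conj (lam ψ z)) * regPair p (χ : G → ℂ) (ψ : G → ℂ) := by
    intro χ hχ ψ
    rw [regPair, Finset.sum_mul_sum, ← Finset.sum_product']
    have hpart : ∀ (z : P) (y : G), Cfsg.IsPRegular p y → Cfsg.IsPPart p ((z : G) * y) z := by
      intro z y hy
      obtain ⟨k, hk⟩ := IsPGroup.iff_orderOf.1 hPp z
      exact CfsgLib.Blocks.isPPart_of_commute (Subgroup.mem_center_iff.1 (hPZ z.2) y).symm
        (by rw [Subgroup.orderOf_coe, hk]) hy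
    symm
    refine Finset.sum_bij_ne_zero (fun a _ _ => (a.1 : G) * a.2) (fun a _ _ => Finset.mem_univ _)
      (fun a ha _ b hb _ hab => ?_) (fun x _ hx => ?_) (fun a _ _ => ?_)
    · have h1 := hpart a.1 a.2 (Finset.mem_filter.mp (Finset.mem_product.mp ha).2).2
      have h2 := hpart b.1 b.2 (Finset.mem_filter.mp (Finset.mem_product.mp hb).2).2
      rw [hab] at h1
      have h3 := CfsgLib.Blocks.IsPPart.unique hp h1 h2
      refine Prod.ext (Subtype.ext h3) ?_
      rw [h3] at hab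
      exact mul_left_cancel hab
    · obtain ⟨z, hz'⟩ := CfsgLib.Blocks.exists_isPPart hp x
      by_cases hzP : z ∈ P
      · obtain ⟨y, hzy, -, -, hy⟩ := hz'
        refine ⟨(⟨z, hzP⟩, y), Finset.mem_product.mpr ⟨Finset.mem_univ _,
          Finset.mem_filter.mpr ⟨Finset.mem_univ _, hy⟩⟩, ?_, hzy⟩
        rw [← hzy, show z * y = ((⟨z, hzP⟩ : P) : G) * y from rfl, hlam, hlam, map_mul] at hx
        intro h0
        exact hx (by rw [← h0]; ring)
      · exact absurd (by rw [hvan χ hχ x z hz' hzP, zero_mul]) hx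
    · show _ = (χ : G → ℂ) ((a.1 : G) * a.2) * conj ((ψ : G → ℂ) ((a.1 : G) * a.2))
      rw [hlam, hlam, map_mul]
      ring
  have horth : ∀ χ ψ : Cfsg.IrrCharacter G,
      ∑ x : G, (χ : G → ℂ) x * conj ((ψ : G → ℂ) x) = if χ = ψ then (N : ℂ) else 0 := by
    intro χ ψ
    have h := CfsgLib.Char.classInner_irrCharacter χ ψ
    rw [Cfsg.classInner, inv_mul_eq_iff_eq_mul₀ (Nat.cast_ne_zero.mpr Nat.card_pos.ne')] at h
    rw [h]
    split_ifs <;> simp [hN]
  have hsame : ∀ χ ψ : Cfsg.IrrCharacter G, lam χ = lam ψ →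
      ∑ z : P, lam χ z * conj (lam ψ z) = (Nat.card P : ℂ) := fun χ ψ h => by
    rw [← h, Finset.sum_congr rfl fun z _ => hunit χ z, Finset.sum_const, nsmul_eq_mul, mul_one,
      Finset.card_univ, Nat.card_eq_fintype_card]
  have hP0 : (Nat.card P : ℂ) ≠ 0 := Nat.cast_ne_zero.mpr Nat.card_pos.ne'
  have hNC : (N : ℂ) ≠ 0 := Nat.cast_ne_zero.mpr hN0.ne'
  have hself : ∀ χ ∈ B, regPair p (χ : G → ℂ) (χ : G → ℂ) = (N : ℂ) / (Nat.card P : ℂ) := by
    intro χ hχ
    have h := hinner χ hχ χ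
    rw [horth, if_pos rfl, hsame χ χ rfl] at h
    rw [h]
    field_simp
  have hh0 : ∀ χ ∈ B, (Cfsg.charDegree (χ : G → ℂ)).factorization p = minExp p B := by
    intro χ hχ
    obtain ⟨z, hz'⟩ := exists_int_classInner_tilde (p := p) hp χ χ
    obtain ⟨θ, hθ, hθm⟩ := exists_minExp (p := p) (block_nonempty hM hB)
    have hle := factorization_deg_le (p := p) θ
    have hdd : minExp p B + Cfsg.blockDefect p B = N.factorization p := by
      rw [CfsgLib.BlockReg.blockDefect_eq]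
      simp only [hN] at *
      omega
    have hzeq : z = ((p ^ minExp p B : ℕ) : ℤ) := by
      rw [classInner_tilde_eq, hself χ hχ, ← hN, hcard, ← hdd, pow_add] at hz'
      push_cast at hz'
      have hp0 : (p : ℂ) ≠ 0 := Nat.cast_ne_zero.mpr hp.ne_zero
      have : ((z : ℤ) : ℂ) = (((p ^ minExp p B : ℕ) : ℤ) : ℂ) := by
        rw [← hz']
        push_cast
        field_simp
      exact_mod_cast this
    have hdvd := (dvd_coeff_iff hM χ χ z hz').1
    rw [hzeq, Int.natCast_dvd_natCast] at hdvd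
    exact le_antisymm ((Nat.pow_dvd_pow_iff_le_right hp.one_lt).mp hdvd) (minExp_le hχ)
  have hinj : ∀ χ ψ : B, lam (χ : Cfsg.IrrCharacter G) = lam (ψ : Cfsg.IrrCharacter G) → χ = ψ := by
    rintro ⟨χ, hχ⟩ ⟨ψ, hψ⟩ h
    by_contra hne
    have h1 := hinner χ hχ ψ
    rw [horth, if_neg (fun h' => hne (Subtype.ext h')), hsame χ ψ h] at h1
    refine rInner_not_memIdeal hM hB hχ hψ (hh0 χ hχ) ?_
    rw [rInner, classInner_tilde_eq, (mul_eq_zero.mp h1.symm).resolve_left hP0]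
    simpa using memIdeal_zero hM
  have hk : Nat.card B ≤ Nat.card P := by
    have h := (linearIndependent_monoidHom P ℂ).comp
      (fun χ : B => lam (χ : Cfsg.IrrCharacter G)) (fun χ ψ h => hinj χ ψ h)
    simpa [Nat.card_eq_fintype_card] using h.fintype_card_le_finrank
  have hl : (Cfsg.blockRank p B : ℂ) * Nat.card P = Nat.card B := by
    rw [cast_blockRank_eq B (regClosed_of_isPBlock hM hB), Finset.sum_mul,
      Finset.sum_congr rfl fun χ _ => by
        rw [classInner_pRegularPart_eq, hself χ.1 χ.2, ← hN, ← mul_div_assoc,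
          inv_mul_cancel₀ hNC, div_mul_cancel₀ _ hP0],
      Finset.sum_const, nsmul_eq_mul, mul_one, Finset.card_univ, Nat.card_eq_fintype_card]
  have hl' : Cfsg.blockRank p B * Nat.card P = Nat.card B := by exact_mod_cast hl
  have hpos := blockRank_pos hp.ne_one (CfsgLib.Blocks.IsPBlock.nonempty hB)
  have hle : Cfsg.blockRank p B ≤ 1 := by
    refine Nat.le_of_mul_le_mul_right ?_ (Nat.card_pos (α := P))
    rw [hl', one_mul]
    exact hk
  omega

end CfsgLib.BlockRank
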