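import Cfsg.Agent.Lib.BlockRank.Contribution
import Cfsg.Agent.Lib.BlockRank.RankOne

/-!
Major subsections: no character of the block vanishes there, and a rank one major subsection bounds
the number of characters by the order of the defect group.
-/

set_option autoImplicit false
set_option maxHeartbeats 2000000
set_option synthInstance.maxHeartbeats 400000

open scoped Classical
open Polynomial
open scoped ComplexConjugate

namespace CfsgLib.BlockRank

universe u

open CfsgLib.BlockReg

variable {G : Type u} [Group G] [Fintype G] {p : ℕ} [Fact p.Prime] {M : Ideal Cfsg.AlgInt}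

/-- Pairing on regular elements with a block part only sees the block part. -/
theorem regPair_blockPart (hM : Cfsg.IsPModular p M) {e : Set (Cfsg.IrrCharacter G)}
    (he : Cfsg.IsPBlock M e) {f : G → ℂ} (hf : Cfsg.IsClassFunction G f) (g : G → ℂ) :
    regPair p f (Cfsg.blockPart e g) = regPair p (Cfsg.blockPart e f) (Cfsg.blockPart e g) := by
  haveI := Fintype.ofFinite e
  have hzero : ∀ θ ∈ e, ∀ φ ∉ e, regPair p (φ : G → ℂ) (θ : G → ℂ) = 0 := by
    intro θ hθ φ hφ
    have h := regClosed_of_isPBlock hM he θ hθ φ hφ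
    rw [classInner_pRegularPart_eq] at h
    have h' := (mul_eq_zero.1 h).resolve_left (inv_ne_zero (Nat.cast_ne_zero.2 Nat.card_pos.ne'))
    have h2 := congrArg conj h'
    simp only [regPair, map_sum, map_mul, Complex.conj_conj, map_zero] at h2
    rw [regPair, ← h2]
    exact Finset.sum_congr rfl fun s _ => by ring
  have hf' : f = fun s => ∑ φ : Cfsg.IrrCharacter G,
      Cfsg.classInner f (φ : G → ℂ) * (φ : G → ℂ) s := by
    conv_lhs => rw [CfsgLib.Char.IsClassFunction.eq_sum_classInner hf]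
    funext s
    simp [Finset.sum_apply]
  unfold regPair
  simp only [blockPart_apply]
  conv_lhs => rw [hf']
  simp only [map_sum, map_mul, Finset.mul_sum, Finset.sum_mul]
  rw [Finset.sum_comm]
  conv_rhs => rw [Finset.sum_comm]
  refine Finset.sum_congr rfl fun θ hθ => ?_
  rw [Finset.sum_comm]
  conv_rhs => rw [Finset.sum_comm]
  refine (Finset.sum_subset (Finset.subset_univ e.toFinset) fun φ _ hφ => ?_).symm
  have h0 := hzero θ (Set.mem_toFinset.1 hθ) φ (fun h => hφ (Set.mem_toFinset.2 h))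
  rw [regPair] at h0
  rw [← mul_zero (Cfsg.classInner f (φ : G → ℂ) * conj (Cfsg.classInner g (θ : G → ℂ))), ← h0,
    Finset.mul_sum]
  exact Finset.sum_congr rfl fun s _ => by ring

omit [Fintype G] in
/-- The centralizer of `x * s` for `s` regular in the centralizer of the `p`-element `x`. -/
theorem index_centralizer_translate [Finite G] {C : Subgroup G} {x : G}
    (hC : C = Subgroup.centralizer {x}) (hx : ∃ k : ℕ, orderOf x = p ^ k) (s : C)
    (hs : Cfsg.IsPRegular p s) :
    (Subgroup.centralizer ({x * (s : G)} : Set G)).index =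
      C.index * (Subgroup.centralizer ({s} : Set C)).index := by
  obtain ⟨k, hk⟩ := hx
  have hmem : ∀ y : G, y ∈ C ↔ y * x = x * y := fun y => by
    rw [hC, Subgroup.mem_centralizer_singleton_iff]
  have hxs : Commute x (s : G) := ((hmem s).1 s.2).symm
  have hpart := CfsgLib.Blocks.isPPart_of_commute hxs hk
    (by rwa [Subgroup.orderOf_coe] : ¬ p ∣ orderOf (s : G))
  have heq : Subgroup.centralizer ({x * (s : G)} : Set G) =
      (Subgroup.centralizer ({s} : Set C)).map C.subtype := by
    ext g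
    rw [Subgroup.mem_centralizer_singleton_iff]
    constructor
    · intro hg
      have h1 := CfsgLib.Blocks.IsPPart.conj hpart g
      rw [hg, mul_inv_cancel_right] at h1
      have h2 := CfsgLib.Blocks.IsPPart.unique Fact.out h1 hpart
      have hgC : g ∈ C := (hmem g).2 (mul_inv_eq_iff_eq_mul.1 h2)
      refine ⟨⟨g, hgC⟩, Subgroup.mem_centralizer_singleton_iff.2 (Subtype.ext ?_), rfl⟩
      show g * (s : G) = (s : G) * g
      rw [← mul_assoc g, (hmem g).1 hgC, mul_assoc, mul_assoc] at hg
      exact mul_left_cancel hg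
    · rintro ⟨t, ht, rfl⟩
      have h1 : (t : G) * s = s * t := congrArg Subtype.val (Subgroup.mem_centralizer_singleton_iff.1 ht)
      show (t : G) * (x * s) = x * s * t
      rw [← mul_assoc, (hmem t).1 t.2, mul_assoc, h1, mul_assoc]
  rw [heq, Subgroup.index_map_subtype, mul_comm]

/-- At a major subsection every character of the block has nonzero contribution with the characters of
height zero. -/
theorem contrib_ne_zero (hM : Cfsg.IsPModular p M) {C : Subgroup G} {x : G}
    (hC : C = Subgroup.centralizer {x}) (hx : ∃ k : ℕ, orderOf x = p ^ k) [Fintype C]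
    {e : Set (Cfsg.IrrCharacter C)} {B : Set (Cfsg.IrrCharacter G)}
    (hind : Cfsg.IsInducedBlock M C e B)
    (hdef : Cfsg.blockDefect p e = Cfsg.blockDefect p B) {χ ψ : Cfsg.IrrCharacter G} (hχ : χ ∈ B)
    (hψ : ψ ∈ B) (hh : (Cfsg.charDegree (ψ : G → ℂ)).factorization p = minExp p B) :
    contrib p (Cfsg.blockDefect p B) x e χ ψ ≠ 0 := by
  haveI := Fintype.ofFinite e
  haveI : Fintype (ConjClasses C) := Fintype.ofFinite _
  set d := Cfsg.blockDefect p B with hd
  have hp : p.Prime := hM.1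
  have hcd : ∀ {H : Type u} [Group H] [Finite H] (S : Set (Cfsg.IrrCharacter H)),
      Cfsg.IsPBlock M S → Cfsg.blockDefect p S + minExp p S = (Nat.card H).factorization p := by
    intro H _ _ S hS
    haveI := Fintype.ofFinite H
    rw [CfsgLib.BlockReg.blockDefect_eq]
    obtain ⟨φ, hφ, hm⟩ := exists_minExp (p := p) (block_nonempty hM hS)
    have : minExp p S ≤ (Nat.card H).factorization p := hm ▸
      (Nat.factorization_le_iff_dvd (deg_pos φ).ne' Nat.card_pos.ne').2 (deg_dvd_card φ) p
    omega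
  set f := Cfsg.blockPart e (fun c : C => (ψ : G → ℂ) (x * c)) with hf
  have hfc : ∀ u s : C, f (u * s * u⁻¹) = f s := fun u s => by
    rw [hf, blockPart_apply, blockPart_apply]
    exact Finset.sum_congr rfl fun φ _ => by
      rw [CfsgLib.Char.IsIrrCharacter.isClassFunction φ.2 s u]
  let U : Cfsg.IrrCharacter G → ℂ := fun φ => ∑ K : ConjClasses C,
    (if Cfsg.IsPRegular p (Quotient.out K) then conj (f (Quotient.out K)) *
      Cfsg.centralChar (φ : G → ℂ) (x * (Quotient.out K : C)) else 0)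
  have hform : ∀ φ : Cfsg.IrrCharacter G, contrib p d x e φ ψ =
      ((p ^ d * Cfsg.charDegree (φ : G → ℂ) : ℕ) : ℂ) / (Nat.card G : ℂ) * U φ := by
    intro φ
    have hC0 : (Nat.card C : ℂ) ≠ 0 := Nat.cast_ne_zero.mpr Nat.card_pos.ne'
    have hI0 : (C.index : ℂ) ≠ 0 := Nat.cast_ne_zero.mpr Subgroup.index_ne_zero_of_finite
    have h1 : regPair p (Cfsg.blockPart e (fun c : C => (φ : G → ℂ) (x * c))) f =
        (φ : G → ℂ) 1 / (C.index : ℂ) * U φ := by
      rw [hf, ← regPair_blockPart hM hind.1 (isClassFunction_translate hC φ), regPair, regSet,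
        Finset.sum_filter,
        CfsgLib.Blocks.sum_eq_sum_classes _ (fun u s => by
          have hreg : Cfsg.IsPRegular p (u * s * u⁻¹) ↔ Cfsg.IsPRegular p s := isPRegular_conj s u
          have hval := (isClassFunction_translate hC φ) s u
          simp only at hval
          show (if _ then _ else _) = (if _ then _ else _)
          rw [← hf, hfc u s]
          by_cases h : Cfsg.IsPRegular p s
          · rw [if_pos (hreg.2 h), if_pos h, hval]
          · rw [if_neg (mt hreg.1 h), if_neg h]),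
        Finset.mul_sum]
      refine Finset.sum_congr (by ext; simp) fun K _ => ?_
      by_cases hK : Cfsg.IsPRegular p (Quotient.out K)
      · rw [if_pos hK, if_pos hK, nsmul_eq_mul, Cfsg.centralChar,
          index_centralizer_translate hC hx _ hK, ← hf]
        push_cast
        have := deg_ne_zero φ
        field_simp
      · rw [if_neg hK, if_neg hK, smul_zero, mul_zero]
    rw [contrib, h1, ← Subgroup.card_mul_index C]
    push_cast
    rw [deg_cast]
    field_simp
  have hn0 : 0 < orderOf x := orderOf_pos x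
  obtain ⟨k, hk⟩ := hx
  set ζ := Complex.exp (2 * Real.pi * Complex.I / (orderOf x : ℕ)) with hζdef
  have hζ : IsPrimitiveRoot ζ (orderOf x) := Complex.isPrimitiveRoot_exp _ hn0.ne'
  have hω : ∀ j : ℕ, Cfsg.MemLocalIdeal M (ζ ^ j - 1) := by
    intro j
    have hint : IsIntegral ℤ (ζ ^ j) := (hζ.isIntegral hn0).pow j
    have : M.IsPrime := hM.2.1.isPrime
    have hR : ζ ^ j ∈ CfsgLib.Blocks.locRing M := memRing_algInt hM hint
    have : M.IsMaximal := hM.2.1
    rw [← OneMemClass.coe_one (CfsgLib.Blocks.locRing M),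
      CfsgLib.Blocks.memLocalIdeal_sub_iff (x := ⟨ζ ^ j, hR⟩), map_one]
    refine CfsgLib.Blocks.red_eq_one_of_pow_prime_pow hM.1 hM.2.2 (k := k) (Subtype.ext ?_)
    show (ζ ^ j) ^ p ^ k = 1
    rw [← pow_mul, mul_comm, pow_mul, ← hk, hζ.pow_eq_one, one_pow]
  obtain ⟨m, i, Z, -, hcon, hnd⟩ := exists_contrib_form hM hC hζ hind (d := d)
    (by rw [← hdef]; exact hcd e hind.1)
  -- the contribution of `ψ` with itself is a unit
  have hunit : ¬ Cfsg.MemLocalIdeal M (contrib p d x e ψ ψ) := by
    intro h0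
    apply hnd ψ hψ ψ hψ hh hh
    rw [← memIdeal_intCast_iff hM]
    have hdiff : Cfsg.MemLocalIdeal M (cycloForm e.toFinset Z (m ψ) (m ψ) (i ψ) (i ψ) ζ -
        ((∑ φ ∈ e.toFinset, ∑ θ ∈ e.toFinset, (m ψ φ : ℤ) * (m ψ θ : ℤ) * Z φ θ : ℤ) : ℂ)) := by
      simp only [cycloForm, Int.cast_sum, ← Finset.sum_sub_distrib]
      refine memIdeal_sum hM _ fun φ _ => memIdeal_sum hM _ fun θ _ => ?_
      have hinv : conj (ζ ^ i ψ θ) = ζ ^ ((orderOf x - 1) * i ψ θ) := by
        rw [pow_mul, map_pow]
        congr 1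
        rw [← Complex.inv_eq_conj (Complex.norm_eq_one_of_pow_eq_one hζ.pow_eq_one hn0.ne')]
        refine (eq_inv_of_mul_eq_one_left ?_).symm
        rw [← pow_succ, Nat.sub_add_cancel hn0, hζ.pow_eq_one]
      rw [hinv, ← pow_add]
      have h3 := memIdeal_mul_left hM
        (memRing_intCast hM ((m ψ φ : ℤ) * (m ψ θ : ℤ) * Z φ θ)) (hω (i ψ φ + (orderOf x - 1) * i ψ θ))
      convert h3 using 1
      push_cast
      ring
    rw [← hcon] at hdiff
    have := memIdeal_sub hM h0 hdiff
    rwa [sub_sub_cancel] at this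
  have ha : Cfsg.MemLocalRing M
      (((p ^ d * Cfsg.charDegree (ψ : G → ℂ) : ℕ) : ℂ) / (Nat.card G : ℂ)) :=
    natCast_div_memRing hM Nat.card_pos.ne' (Or.inr (by
      rw [Nat.factorization_mul (pow_ne_zero _ hp.ne_zero) (deg_pos ψ).ne', Finsupp.add_apply,
        hp.factorization_pow, Finsupp.single_eq_same, hh, hd, hcd B hind.2.1]))
  have hfR : ∀ s : C, Cfsg.MemLocalRing M (conj (f s)) := by
    intro s
    obtain ⟨m', i', -, hm'⟩ := exists_blockPart_translate (G := G) hC hζ ψ
    rw [hf, hm' e s, map_sum]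
    refine memRing_sum hM _ fun φ _ => ?_
    rw [map_mul, map_mul, map_natCast, map_pow, ← char_inv]
    refine memRing_mul hM (memRing_mul hM (memRing_natCast hM _) (memRing_pow hM ?_ _))
      (memRing_char hM φ _)
    rw [← Complex.inv_eq_conj (Complex.norm_eq_one_of_pow_eq_one hζ.pow_eq_one hn0.ne')]
    exact memRing_algInt hM (hζ.inv.isIntegral hn0)
  have hU : ∀ φ, Cfsg.MemLocalRing M (U φ) := fun φ => memRing_sum hM _ fun K _ => by
    by_cases hK : Cfsg.IsPRegular p (Quotient.out K)
    · rw [if_pos hK]; exact memRing_mul hM (hfR _) (memRing_centralChar hM φ _)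
    · rw [if_neg hK]; exact memRing_zero hM
  have hUd : Cfsg.MemLocalIdeal M (U χ - U ψ) := by
    simp only [U, ← Finset.sum_sub_distrib]
    refine memIdeal_sum hM _ fun K _ => ?_
    by_cases hK : Cfsg.IsPRegular p (Quotient.out K)
    · rw [if_pos hK, if_pos hK, ← mul_sub]
      exact memIdeal_mul_left hM (hfR _) (block_congr hM hind.2.1 hχ hψ _)
    · rw [if_neg hK, if_neg hK, sub_zero]; exact memIdeal_zero hM
  have hUψ : ¬ Cfsg.MemLocalIdeal M (U ψ) := fun h => hunit (by
    rw [hform ψ]; exact memIdeal_mul_left hM ha h)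
  have hUχ : ¬ Cfsg.MemLocalIdeal M (U χ) := fun h => hUψ ((memIdeal_iff_of_sub hM hUd).1 h)
  rw [hform χ]
  exact mul_ne_zero (div_ne_zero (Nat.cast_ne_zero.2 (Nat.mul_ne_zero (pow_ne_zero _ hp.ne_zero)
    (deg_pos χ).ne')) (Nat.cast_ne_zero.2 Nat.card_pos.ne')) (ne_zero_of_not_memIdeal hM hUχ)

/-- A rank one major subsection bounds the number of characters. -/
theorem card_le_of_rankOne_major (hM : Cfsg.IsPModular p M) {C : Subgroup G} {x : G}
    (hC : C = Subgroup.centralizer {x}) (hx : ∃ k : ℕ, orderOf x = p ^ k) [Fintype C]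
    {e : Set (Cfsg.IrrCharacter C)} {B : Set (Cfsg.IrrCharacter G)}
    (hind : Cfsg.IsInducedBlock M C e B)
    (hdef : Cfsg.blockDefect p e = Cfsg.blockDefect p B) (hl : Cfsg.blockRank p e = 1) :
    Nat.card B ≤ p ^ Cfsg.blockDefect p B := by
  haveI := Fintype.ofFinite e
  haveI := Fintype.ofFinite B
  set d := Cfsg.blockDefect p B with hd
  obtain ⟨φ₀, -, dd, -, hdd, hsum⟩ := exists_rankOne_data hM hind.1 hl
  set n := orderOf x with hn
  have hn0 : 0 < n := orderOf_pos x
  set ζ := Complex.exp (2 * Real.pi * Complex.I / (n : ℕ)) with hζdef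
  have hζ : IsPrimitiveRoot ζ n := Complex.isPrimitiveRoot_exp _ hn0.ne'
  choose m i hmi using exists_blockPart_translate (G := G) hC hζ
  let P : Cfsg.IrrCharacter G → ℤ[X] := fun χ =>
    ∑ φ ∈ e.toFinset, Polynomial.C ((m χ φ : ℤ) * (dd φ : ℤ)) * X ^ i χ φ
  have hP : ∀ χ : Cfsg.IrrCharacter G, ∀ s : C, Cfsg.IsPRegular p s →
      Cfsg.blockPart e (fun c : C => (χ : G → ℂ) (x * c)) s = aeval ζ (P χ) * φ₀ s := by
    intro χ s hs
    rw [(hmi χ).2 e s]
    simp only [P, map_sum, map_mul, aeval_X_pow, eq_intCast, map_intCast, Finset.sum_mul]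
    refine Finset.sum_congr rfl fun φ hφ => ?_
    rw [hdd φ (Set.mem_toFinset.1 hφ) s hs]
    push_cast
    ring
  have hcontrib : ∀ χ ψ : Cfsg.IrrCharacter G, contrib p d x e χ ψ =
      aeval ζ (P χ) * conj (aeval ζ (P ψ)) *
        (((p ^ d : ℕ) : ℂ) * ((Nat.card C : ℂ)⁻¹ * regPair p φ₀ φ₀)) := by
    intro χ ψ
    rw [contrib, show regPair p (Cfsg.blockPart e (fun c : C => (χ : G → ℂ) (x * c)))
        (Cfsg.blockPart e (fun c : C => (ψ : G → ℂ) (x * c))) =
        aeval ζ (P χ) * conj (aeval ζ (P ψ)) * regPair p φ₀ φ₀ by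
      rw [regPair, regPair, Finset.mul_sum]
      refine Finset.sum_congr rfl fun s hs => ?_
      rw [hP χ s (Finset.mem_filter.1 hs).2, hP ψ s (Finset.mem_filter.1 hs).2, map_mul]
      ring]
    ring
  have hnorm : ((p ^ d : ℕ) : ℂ) * ((Nat.card C : ℂ)⁻¹ * regPair p φ₀ φ₀) = 1 := by
    have h := cast_blockRank_eq e (regClosed_of_isPBlock hM hind.1)
    rw [hl, Nat.cast_one, ← Finset.sum_subtype e.toFinset (fun y => Set.mem_toFinset)
      (fun φ : Cfsg.IrrCharacter C =>
        Cfsg.classInner (Cfsg.pRegularPart p (φ : C → ℂ)) (φ : C → ℂ))] at h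
    rw [h, ← hdef, ← hsum, Nat.cast_sum, Finset.sum_mul]
    refine Finset.sum_congr rfl fun φ hφ => ?_
    rw [classInner_pRegularPart_eq, regPair, regPair]
    push_cast
    simp only [Finset.mul_sum]
    refine Finset.sum_congr rfl fun s hs => ?_
    rw [hdd φ (Set.mem_toFinset.1 hφ) s (Finset.mem_filter.1 hs).2, map_mul, map_natCast]
    ring
  simp only [hnorm, mul_one] at hcontrib
  obtain ⟨ψ, hψ, hh⟩ := exists_minExp (p := p) (block_nonempty hM hind.2.1)
  have hne : ∀ χ ∈ B, aeval ζ (P χ) ≠ 0 := fun χ hχ h0 =>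
    contrib_ne_zero hM hC hx hind hdef hχ hψ hh (by rw [← hd, hcontrib, h0, zero_mul])
  have htot := sum_contrib_self hM hC hx hind d
  rw [hl, Nat.cast_one, mul_one] at htot
  simp only [hcontrib] at htot
  have hb := card_le_of_sum_normSq hn0 hζ (fun a : B => P (a : Cfsg.IrrCharacter G))
    (fun a => hne _ a.2) ((p ^ d : ℕ) : ℚ) (by
      rw [Rat.cast_natCast, ← htot]
      exact (Finset.sum_subtype B.toFinset (fun y => Set.mem_toFinset)
        (fun χ : Cfsg.IrrCharacter G => aeval ζ (P χ) * conj (aeval ζ (P χ)))).symm)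
  rw [← Nat.card_eq_fintype_card] at hb
  exact_mod_cast hb

end CfsgLib.BlockRank
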