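import Cfsg.Agent.Lib.BlockRank.RankOneMajor
import Cfsg.Agent.Lib.Blocks.Pairs.Inertial

/-!
Blocks with abelian defect group and trivial inertial quotient have rank one and as many characters
as the order of the defect group.
-/

set_option autoImplicit false
set_option maxHeartbeats 1600000
set_option synthInstance.maxHeartbeats 400000

open Cfsg CfsgLib.Blocks CfsgLib.Blocks.Pairs
open scoped Classical

namespace CfsgLib.BlockRank

universe u

section Transport

variable {G H : Type u} [Group G] [Group H] {p : ℕ}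

theorem blockRank_pullSet (φ : H ≃* G) (B : Set (Cfsg.IrrCharacter G)) :
    Cfsg.blockRank p (pullSet φ B) = Cfsg.blockRank p B := by
  unfold Cfsg.blockRank
  let L : (G → ℂ) ≃ₗ[ℂ] (H → ℂ) := LinearEquiv.funCongrLeft ℂ ℂ φ.toEquiv
  have himg : (fun χ : Cfsg.IrrCharacter H => Cfsg.pRegularPart p (χ : H → ℂ)) '' pullSet φ B =
      (L : (G → ℂ) → (H → ℂ)) ''
        ((fun χ : Cfsg.IrrCharacter G => Cfsg.pRegularPart p (χ : G → ℂ)) '' B) := by
    rw [pullSet, Set.image_image, Set.image_image]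
    refine Set.image_congr fun χ _ => funext fun h => ?_
    show Cfsg.pRegularPart p (pull φ χ : H → ℂ) h = Cfsg.pRegularPart p (χ : G → ℂ) (φ h)
    unfold Cfsg.pRegularPart
    have hr : Cfsg.IsPRegular p (φ h) ↔ Cfsg.IsPRegular p h := by
      unfold Cfsg.IsPRegular
      rw [MulEquiv.orderOf_eq]
    simp only [hr, pull_apply]
  rw [himg, ← LinearEquiv.coe_coe, Submodule.span_image, LinearEquiv.finrank_map_eq]

end Transport

variable {G : Type u} [Group G] [Finite G] {p : ℕ} [Fact p.Prime] {M : Ideal AlgInt} [M.IsMaximal]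
  [CharP (ResField M) p]

/-- The pairs below an abelian maximal pair, seen in the centralizer. -/
theorem local_pair {B e f : MonoidAlgebra (ResField M) G} {H P Q : Subgroup G}
    (hH : H = Subgroup.centralizer (Q : Set G))
    (hP : PairOf p B P e) (hno : NoExt p P e) (hab : ∀ x ∈ P, ∀ y ∈ P, x * y = y * x)
    (hle : SLE p Q f P e) :
    PairOf p (down H f) (P.subgroupOf H) (down H e) ∧ NoExt p (P.subgroupOf H) (down H e) ∧
      ∀ y ∈ pairStab (P.subgroupOf H) (down H e), (y : G) ∈ pairStab P e := by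
  subst hH
  set H := Subgroup.centralizer (Q : Set G) with hH
  have hPH : P ≤ H := fun x hx =>
    Subgroup.mem_centralizer_iff.2 fun q hq => hab q (hle.le hq) x hx
  have hCH : Subgroup.centralizer (P : Set G) ≤ H := centralizer_anti hle.le
  have hPN : P ≤ Subgroup.normalizer (Q : Set G) := hPH.trans (Subgroup.centralizer_le_normalizer _)
  obtain ⟨f', hf'⟩ := exists_ns hP.pair hle.le hPN
  have hff : f = f' := SLE.unique hP.pair hle hf'.sle
  subst hff
  have hf := (hle.pair_left hP.pair).block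
  have hes : SuppIn H e := hP.pair.block.mem.supp.mono hCH
  have hbl : IsBlockIdem (⊤ : Subgroup H) (down H f) := by
    rw [← isBlockIdem_up_iff, up_down hf.mem.supp, ← MonoidHom.range_eq_map, Subgroup.range_subtype]
    exact hf
  have hP' : PairOf p (down H f) (P.subgroupOf H) (down H e) := by
    refine ⟨hbl, hP.pair.down_of_le hPH hCH, up_injective H ?_⟩
    rw [up_mul, up_trunc, up_down hf.mem.supp, up_down hes, Subgroup.map_subgroupOf_eq_of_le hPH]
    exact hf'.br
  refine ⟨hP', noExt_down hP.pair hPH hCH hno, fun y hy => ⟨?_, ?_⟩⟩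
  · have h1 := Subgroup.le_normalizer_map H.subtype ⟨y, hy.1, rfl⟩
    rwa [Subgroup.map_subgroupOf_eq_of_le hPH] at h1
  · rw [← up_down hes, ← up_conjA, hy.2]

/-- Trivial inertial quotient: no fusion below the maximal pair. -/
theorem conj_eq_of_sle (hM : Cfsg.IsPModular p M) {B e f : MonoidAlgebra (ResField M) G}
    {P Q : Subgroup G} (hP : PairOf p B P e) (hno : NoExt p P e)
    (hab : ∀ x ∈ P, ∀ y ∈ P, x * y = y * x)
    (htriv : pairStab P e ≤ Subgroup.centralizer (P : Set G)) {g : G} (h1 : SLE p Q f P e)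
    (h2 : SLE p (conjSub g Q) (conjA g f) P e) {q : G} (hq : q ∈ Q) : g * q * g⁻¹ = q := by
  have hnil : CfsgLib.Blk83.NilPairs p B := by
    refine CfsgLib.Blk83.nilPairs_of_below hP hno fun R h hle x hx _ => ?_
    obtain ⟨y, hy, -, c, hc, rfl⟩ := CfsgLib.Blk83.exists_mul_of_comm hP hno hab hle
      (exists_maxIn_of_isBlockIdem hM (hle.pair_left hP.pair).block) hx
    exact Subgroup.mul_mem _ (centralizer_anti hle.le (htriv hy)) hc
  obtain ⟨u, hu, hux⟩ := CfsgLib.Blk83.inner_of_nilPairs hM hP hno hnil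
    (φ := Cfsg.conjHom Q g) ⟨g, fun _ => rfl, f, h1, h2⟩
  have h3 : g * q * g⁻¹ = u * q * u⁻¹ := hux ⟨q, hq⟩
  rw [h3, hab u hu q (h1.le hq), mul_inv_cancel_right]

omit [CharP (ResField M) p] in
theorem isInducedBlock_singleton_iff (hM : Cfsg.IsPModular p M) {x : G}
    (hx : IsPGroup p (Subgroup.zpowers x)) {B : Set (Cfsg.IrrCharacter G)}
    (hB : Cfsg.IsPBlock M B)
    {b : Set (Cfsg.IrrCharacter (Subgroup.centralizer ({x} : Set G)))} (hb : Cfsg.IsPBlock M b) :
    Cfsg.IsInducedBlock M (Subgroup.centralizer ({x} : Set G)) b B ↔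
      PairOf p (ebar hB) (Subgroup.zpowers x) (eIn hb) := by
  revert b
  rw [show Subgroup.centralizer ({x} : Set G) =
    Subgroup.centralizer (Subgroup.zpowers x : Set G) by
      rw [Subgroup.zpowers_eq_closure, Subgroup.centralizer_closure]]
  intro b hb
  exact isInducedBlock_iff_pairOf hM hx hB hb

theorem isPGroup_zpowers {x : G} (hx : ∃ k : ℕ, orderOf x = p ^ k) :
    IsPGroup p (Subgroup.zpowers x) :=
  let ⟨k, hk⟩ := hx
  IsPGroup.of_card (by rw [Nat.card_zpowers, hk])

theorem conjSub_zpowers (g x : G) :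
    conjSub g (Subgroup.zpowers x) = Subgroup.zpowers (g * x * g⁻¹) :=
  (MonoidHom.map_zpowers _ x).trans rfl

/-- At a central element the block is the only one inducing itself. -/
theorem eq_pullSet_of_central (hM : Cfsg.IsPModular p M) {B : Set (Cfsg.IrrCharacter G)}
    (hB : Cfsg.IsPBlock M B) {x : G} (hx : IsPGroup p (Subgroup.zpowers x))
    (φ : Subgroup.centralizer ({x} : Set G) ≃* G)
    (hφ : ∀ c : Subgroup.centralizer ({x} : Set G), φ c = (c : G))
    {b : Set (Cfsg.IrrCharacter (Subgroup.centralizer ({x} : Set G)))}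
    (hb : Cfsg.IsInducedBlock M (Subgroup.centralizer ({x} : Set G)) b B) :
    b = pullSet φ B := by
  have htop : Subgroup.centralizer ({x} : Set G) = ⊤ :=
    (Subgroup.eq_top_iff' _).2 fun y => by
      have h := (φ.symm y).2
      rwa [← hφ, φ.apply_symm_apply] at h
  have htop' : Subgroup.centralizer (Subgroup.zpowers x : Set G) = ⊤ := by
    rw [Subgroup.zpowers_eq_closure, Subgroup.centralizer_closure, htop]
  have hp := (isInducedBlock_singleton_iff hM hx hB hb.1).1 hb
  have hb' := isPBlock_pullSet φ hB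
  have heq : eIn hb' = ebar hB := by
    ext g
    have hg : g ∈ Subgroup.centralizer ({x} : Set G) := htop ▸ Subgroup.mem_top g
    rw [coeff_eIn, coeff_ebar]
    congr 1
    apply Subtype.ext
    show Cfsg.subgroupBlockCoeff _ _ g = Cfsg.blockCoeff B g
    simp [Cfsg.subgroupBlockCoeff, hg, blockCoeff_pullSet, hφ]
  refine eIn_injective hb.1 hb' ?_
  rw [heq]
  have h1 := hp.br
  rw [trunc_eq_self (htop' ▸ fun g hg => absurd (Subgroup.mem_top g) hg)] at h1
  have hbl : IsBlockIdem (⊤ : Subgroup G) (eIn hb.1) := htop' ▸ hp.pair.block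
  exact ((isBlockIdem_ebar hB).eq_of_mul_ne_zero hbl
    (by rw [h1]; exact hp.pair.block.ne_zero)).symm

/-- **Abelian defect group, trivial inertial quotient.** -/
theorem rankOne_of_trivial_inertial (hM : Cfsg.IsPModular p M) {B : Set (Cfsg.IrrCharacter G)}
    (hB : Cfsg.IsPBlock M B) {P : Subgroup G} {e : MonoidAlgebra (ResField M) G}
    (hP : PairOf p (ebar hB) P e) (hno : NoExt p P e) (hab : ∀ x ∈ P, ∀ y ∈ P, x * y = y * x)
    (htriv : pairStab P e ≤ Subgroup.centralizer (P : Set G)) :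
    Cfsg.blockRank p B = 1 ∧ Nat.card B = Nat.card P := by
  revert B P e
  suffices h : ∀ (n : ℕ) (G : Type u) [Group G] [Finite G], Nat.card G = n →
      ∀ {B : Set (Cfsg.IrrCharacter G)} (hB : Cfsg.IsPBlock M B) {P : Subgroup G}
        {e : MonoidAlgebra (ResField M) G}, PairOf p (ebar hB) P e → NoExt p P e →
        (∀ x ∈ P, ∀ y ∈ P, x * y = y * x) →
        pairStab P e ≤ Subgroup.centralizer (P : Set G) →
        Cfsg.blockRank p B = 1 ∧ Nat.card B = Nat.card P from fun {B} hB {P e} => h _ G rfl hB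
  intro n
  induction n using Nat.strong_induction_on with
  | _ n ih =>
  intro G _ _ hn B hB P e hP hno hab htriv
  subst hn
  haveI := Fintype.ofFinite G
  have hp : p.Prime := Fact.out
  have hpP := hP.pair.pgroup
  have hmaxR := maxR_of_noExt hP hno
  have hD : Cfsg.IsDefectGroup p M B P := (isDefectGroup_iff_maxR hM hB).2 hmaxR
  have hcardP : Nat.card P = p ^ Cfsg.blockDefect p B := card_defectGroup hM hB hD
  -- class representatives of `p`-elements
  let X : Finset G := (Finset.univ.image fun g : G => Quotient.out (ConjClasses.mk g)).filter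
    fun x => ∃ k : ℕ, orderOf x = p ^ k
  have hout : ∀ g : G, IsConj g (Quotient.out (ConjClasses.mk g)) := fun g =>
    (ConjClasses.mk_eq_mk_iff_isConj.1 (Quotient.out_eq (ConjClasses.mk g))).symm
  have hX : ∀ x ∈ X, ∃ k : ℕ, orderOf x = p ^ k := fun x hx => (Finset.mem_filter.1 hx).2
  have hXrep : ∀ g : G, (∃ k : ℕ, orderOf g = p ^ k) → ∃! x, x ∈ X ∧ IsConj g x := by
    intro g ⟨k, hk⟩
    refine ⟨Quotient.out (ConjClasses.mk g), ⟨Finset.mem_filter.2
      ⟨Finset.mem_image.2 ⟨g, Finset.mem_univ _, rfl⟩, k, ?_⟩, hout g⟩, ?_⟩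
    · obtain ⟨c, hc⟩ := isConj_iff.1 (hout g)
      rw [← hc, ← hk]
      exact MulEquiv.orderOf_eq (MulAut.conj c) g
    · rintro y ⟨hy, hgy⟩
      obtain ⟨g', -, rfl⟩ := Finset.mem_image.1 (Finset.mem_filter.1 hy).1
      rw [show ConjClasses.mk g = ConjClasses.mk g' from
        ConjClasses.mk_eq_mk_iff_isConj.2 (hgy.trans (hout g').symm)]
  -- subsections
  let S := fun x : G => {b : Set (Cfsg.IrrCharacter (Subgroup.centralizer ({x} : Set G))) |
    Cfsg.IsInducedBlock M (Subgroup.centralizer ({x} : Set G)) b B}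
  let T : Finset (Σ x : G, Set (Cfsg.IrrCharacter (Subgroup.centralizer ({x} : Set G)))) :=
    X.sigma fun x => (S x).toFinset
  have hk : Nat.card B = ∑ s ∈ T, Cfsg.blockRank p s.2 := by
    rw [card_eq_sum_sections hM hB X hX hXrep, Finset.sum_sigma]
    exact Finset.sum_congr rfl fun x _ => finsum_mem_eq_toFinset_sum _ _
  have hmem : ∀ s, s ∈ T ↔ s.1 ∈ X ∧
      Cfsg.IsInducedBlock M (Subgroup.centralizer ({s.1} : Set G)) s.2 B := fun s => by
    simp [T, S, Finset.mem_sigma]
  -- the element of `P` of a subsection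
  have hex : ∀ s ∈ T, ∃ g : G, ∃ hb : Cfsg.IsPBlock M s.2, g * s.1 * g⁻¹ ∈ P ∧
      SLE p (Subgroup.zpowers (g * s.1 * g⁻¹)) (conjA g (eIn hb)) P e := by
    intro s hs
    obtain ⟨hsX, hsI⟩ := (hmem s).1 hs
    have hz := isPGroup_zpowers (hX _ hsX)
    have hpair := (isInducedBlock_singleton_iff hM hz hB hsI.1).1 hsI
    obtain ⟨g, hg⟩ := exists_conj_sle hP hno hpair
    rw [conjSub_zpowers] at hg
    exact ⟨g, hsI.1, hg.le (Subgroup.mem_zpowers _), hg⟩
  choose gg hgb hgP hgle using hex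
  let Φ : ∀ s ∈ T, P := fun s hs => ⟨gg s hs * s.1 * (gg s hs)⁻¹, hgP s hs⟩
  have hinj : ∀ s₁ (h₁ : s₁ ∈ T) s₂ (h₂ : s₂ ∈ T), Φ s₁ h₁ = Φ s₂ h₂ → s₁ = s₂ := by
    rintro ⟨x₁, b₁⟩ h₁ ⟨x₂, b₂⟩ h₂ heq
    have heq' : gg _ h₁ * x₁ * (gg _ h₁)⁻¹ = gg _ h₂ * x₂ * (gg _ h₂)⁻¹ :=
      congrArg Subtype.val heq
    have hx : x₁ = x₂ := by
      refine (hXrep x₁ (hX _ ((hmem _).1 h₁).1)).unique ⟨((hmem _).1 h₁).1, IsConj.refl _⟩
        ⟨((hmem _).1 h₂).1, isConj_iff.2 ⟨(gg _ h₂)⁻¹ * gg _ h₁, ?_⟩⟩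
      calc _ = (gg _ h₂)⁻¹ * (gg _ h₁ * x₁ * (gg _ h₁)⁻¹) * gg _ h₂ := by group
        _ = x₂ := by rw [heq']; group
    subst hx
    have hl1 := hgle _ h₁
    have hl2 := hgle _ h₂
    rw [heq'] at hl1
    have h3 := SLE.unique hP.pair hl1 hl2
    have h4 : conjA ((gg _ h₂)⁻¹ * gg _ h₁) (eIn (hgb _ h₁)) = eIn (hgb _ h₂) := by
      rw [← conjA_conjA, h3, conjA_inv_conjA]
    have hc : (gg _ h₂)⁻¹ * gg _ h₁ ∈ Subgroup.centralizer ({x₁} : Set G) := by
      rw [Subgroup.mem_centralizer_singleton_iff]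
      calc _ = (gg _ h₂)⁻¹ * (gg _ h₁ * x₁ * (gg _ h₁)⁻¹) * gg _ h₁ := by group
        _ = _ := by rw [heq']; group
    rw [conjFixed_iff.mp (isBlockIdem_eIn (hgb _ h₁)).mem.fixed _ hc] at h4
    obtain rfl : b₁ = b₂ := eIn_injective (hgb _ h₁) (hgb _ h₂) h4
    rfl
  have hsurj : ∀ u : P, ∃ s, ∃ hs : s ∈ T, Φ s hs = u := by
    rintro ⟨u, hu⟩
    have huz : Subgroup.zpowers u ≤ P := Subgroup.zpowers_le.2 hu
    obtain ⟨f, hf⟩ := (existsUnique_sle hP.pair huz).1
    have hu' : ∃ k : ℕ, orderOf u = p ^ k := by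
      obtain ⟨k, hk⟩ := IsPGroup.iff_orderOf.1 hpP ⟨u, hu⟩
      exact ⟨k, by rw [← hk, Subgroup.orderOf_mk]⟩
    obtain ⟨x, ⟨hxX, hux⟩, -⟩ := hXrep u hu'
    obtain ⟨h, rfl⟩ := isConj_iff.1 hux
    have hfB := (SLE.pairOf_iff hf).1 hP
    have hfB' := hfB.conj h
    rw [conjSub_zpowers] at hfB'
    have hC : Subgroup.centralizer (Subgroup.zpowers (h * u * h⁻¹) : Set G) =
        Subgroup.centralizer ({h * u * h⁻¹} : Set G) := by
      rw [Subgroup.zpowers_eq_closure, Subgroup.centralizer_closure]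
    obtain ⟨b, hb, hbe⟩ := exists_eIn_eq (hC ▸ hfB'.pair.block)
    have hs : (⟨h * u * h⁻¹, b⟩ :
        Σ x : G, Set (Cfsg.IrrCharacter (Subgroup.centralizer ({x} : Set G)))) ∈ T := by
      rw [hmem]
      exact ⟨hxX, (isInducedBlock_singleton_iff hM hfB'.pair.pgroup hB hb).2 (hbe ▸ hfB')⟩
    refine ⟨_, hs, Subtype.ext ?_⟩
    have h2 := hgle _ hs
    rw [hbe, conjA_conjA, ← conjSub_zpowers, ← conjSub_zpowers, conjSub_conjSub] at h2
    show gg _ hs * (h * u * h⁻¹) * (gg _ hs)⁻¹ = u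
    rw [show gg _ hs * (h * u * h⁻¹) * (gg _ hs)⁻¹ = gg _ hs * h * u * (gg _ hs * h)⁻¹ by group]
    exact conj_eq_of_sle hM hP hno hab htriv hf h2 (Subgroup.mem_zpowers u)
  have hcentral : ∀ s (hs : s ∈ T),
      s.1 ∈ Subgroup.center G ↔ ((Φ s hs : P) : G) ∈ Subgroup.center G := fun s hs =>
    ⟨fun h => (inferInstance : (Subgroup.center G).Normal).conj_mem _ h _, fun h => by
      have := (inferInstance : (Subgroup.center G).Normal).conj_mem _ h (gg s hs)⁻¹
      simpa [Φ, mul_assoc] using this⟩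
  have hcard : T.card = Nat.card P := by
    rw [Nat.card_eq_fintype_card, ← Finset.card_univ]
    exact Finset.card_bij Φ (fun _ _ => Finset.mem_univ _) hinj fun u _ => hsurj u
  set TC := T.filter fun s => s.1 ∈ Subgroup.center G with hTC
  set TN := T.filter fun s => ¬ s.1 ∈ Subgroup.center G with hTN
  have hC : ∀ s ∈ TC, Cfsg.blockRank p s.2 = Cfsg.blockRank p B := by
    intro s hs
    obtain ⟨hsT, hsc⟩ := Finset.mem_filter.1 hs
    obtain ⟨hsX, hsI⟩ := (hmem s).1 hsT
    have htop : Subgroup.centralizer ({s.1} : Set G) = ⊤ :=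
      (Subgroup.eq_top_iff' _).2 fun y =>
        Subgroup.mem_centralizer_singleton_iff.2 (Subgroup.mem_center_iff.1 hsc y)
    let φ := (MulEquiv.subgroupCongr htop).trans Subgroup.topEquiv
    rw [eq_pullSet_of_central hM hB (isPGroup_zpowers (hX _ hsX)) φ (fun _ => rfl) hsI,
      blockRank_pullSet]
  -- proper centralizers
  have hN : ∀ s ∈ TN, Cfsg.blockRank p s.2 = 1 ∧
      Cfsg.blockDefect p s.2 = Cfsg.blockDefect p B := by
    intro s hs
    obtain ⟨hsT, hsc⟩ := Finset.mem_filter.1 hs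
    obtain ⟨hsX, hsI⟩ := (hmem s).1 hsT
    set H := Subgroup.centralizer ({s.1} : Set G) with hH
    have hH' : H = Subgroup.centralizer (Subgroup.zpowers s.1 : Set G) := by
      rw [Subgroup.zpowers_eq_closure, Subgroup.centralizer_closure]
    obtain ⟨x, hx⟩ : ∃ x, x = (gg s hsT)⁻¹ := ⟨_, rfl⟩
    have hle' : SLE p (Subgroup.zpowers s.1) (eIn hsI.1) (conjSub x P) (conjA x e) := by
      have := (hgle s hsT).conj x
      rw [← conjSub_zpowers, conjSub_conjSub, hx, inv_mul_cancel, conjSub_one,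
        conjA_inv_conjA] at this
      exact hx ▸ this
    have hP₁ : PairOf p (ebar hB) (conjSub x P) (conjA x e) := hP.conj x
    have hno₁ : NoExt p (conjSub x P) (conjA x e) :=
      (hmaxR.conj (isBlockIdem_ebar hB).mem x).noExt hP₁
    have hab₁ : ∀ a ∈ conjSub x P, ∀ b ∈ conjSub x P, a * b = b * a := by
      rintro _ ⟨a, ha, rfl⟩ _ ⟨b, hb, rfl⟩
      rw [← map_mul, hab a ha b hb, map_mul]
    obtain ⟨hP', hno', hst⟩ := local_pair hH' hP₁ hno₁ hab₁ hle'
    have hdown : down H (eIn hsI.1) = ebar hsI.1 := by rw [eIn, down_up]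
    rw [hdown] at hP'
    have hlt : Nat.card H < Nat.card G := by
      rw [← Nat.card_congr (Subgroup.topEquiv (G := G)).toEquiv]
      refine lt_of_le_of_ne (Subgroup.card_le_of_le le_top) fun h => hsc ?_
      rw [Subgroup.mem_center_iff]
      intro y
      have : H = ⊤ := Subgroup.eq_top_of_card_eq H (h.trans Subgroup.card_top)
      exact Subgroup.mem_centralizer_singleton_iff.1 (this ▸ Subgroup.mem_top y : y ∈ H)
    have habH : ∀ a ∈ (conjSub x P).subgroupOf H, ∀ b ∈ (conjSub x P).subgroupOf H,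
        a * b = b * a := fun a ha b hb => Subtype.ext (hab₁ _ ha _ hb)
    have htrivH : pairStab ((conjSub x P).subgroupOf H) (down H (conjA x e)) ≤
        Subgroup.centralizer ((conjSub x P).subgroupOf H : Set H) := by
      intro y hy
      have h1 := hst y hy
      rw [← conjSub_pairStab] at h1
      obtain ⟨z, hz, hzy⟩ := h1
      refine Subgroup.mem_centralizer_iff.2 fun a ha => Subtype.ext ?_
      obtain ⟨w, hw, hwa⟩ := (ha : (a : G) ∈ conjSub x P)
      show (a : G) * (y : G) = y * a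
      rw [← hzy, show (a : G) = _ from hwa.symm, ← map_mul, Subgroup.mem_centralizer_iff.1 (htriv hz) w hw, map_mul]
    obtain ⟨hr, -⟩ := ih _ hlt H rfl hsI.1 hP' hno' habH htrivH
    refine ⟨hr, Nat.pow_right_injective hp.two_le ?_⟩
    show p ^ Cfsg.blockDefect p s.2 = p ^ Cfsg.blockDefect p B
    rw [← card_defectGroup hM hsI.1
      ((isDefectGroup_iff_maxR hM hsI.1).2 (maxR_of_noExt hP' hno')), ← hcardP,
      ← card_map_conj x P]
    refine Nat.card_congr (Subgroup.subgroupOfEquivOfLe ?_).toEquiv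
    intro a ha
    show a ∈ Subgroup.centralizer ({s.1} : Set G)
    rw [Subgroup.mem_centralizer_singleton_iff]
    exact hab₁ a ha s.1 (hle'.le (Subgroup.mem_zpowers _))
  have hk' : Nat.card B = TC.card * Cfsg.blockRank p B + TN.card := by
    rw [hk, ← Finset.sum_filter_add_sum_filter_not T (fun s => s.1 ∈ Subgroup.center G),
      Finset.sum_congr rfl hC, Finset.sum_congr rfl fun s hs => (hN s hs).1]
    simp
  have hsum : TC.card + TN.card = Nat.card P := by
    rw [← hcard]; exact Finset.card_filter_add_card_filter_not _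
  have hC1 : 0 < TC.card := by
    obtain ⟨s, hs, hs1⟩ := hsurj 1
    exact Finset.card_pos.2 ⟨s, Finset.mem_filter.2 ⟨hs, (hcentral s hs).2 (by
      rw [hs1]; exact (Subgroup.center G).one_mem)⟩⟩
  have hl : Cfsg.blockRank p B = 1 := by
    rcases TN.eq_empty_or_nonempty with h0 | ⟨s, hs⟩
    · refine blockRank_eq_one_of_central hM hB hD fun u hu => ?_
      obtain ⟨s, hs, hs1⟩ := hsurj ⟨u, hu⟩
      have : s.1 ∈ Subgroup.center G := by
        by_contra h
        exact Finset.notMem_empty s (h0 ▸ Finset.mem_filter.2 ⟨hs, h⟩)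
      have h2 := (hcentral s hs).1 this
      rwa [hs1] at h2
    · obtain ⟨hsT, -⟩ := Finset.mem_filter.1 hs
      obtain ⟨hsX, hsI⟩ := (hmem s).1 hsT
      haveI := Fintype.ofFinite (Subgroup.centralizer ({s.1} : Set G))
      have hb := card_le_of_rankOne_major hM rfl (hX _ hsX) hsI (hN s hs).2 (hN s hs).1
      rw [← hcardP, hk'] at hb
      have hpos := blockRank_pos (p := p) hp.ne_one (CfsgLib.BlockReg.block_nonempty hM hB)
      nlinarith
  exact ⟨hl, by rw [hk', hl, mul_one, hsum]⟩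

end CfsgLib.BlockRank
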