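import Cfsg.Agent.Lib.Char.PowerMap
import Mathlib.Analysis.SpecialFunctions.Log.Basic
import Mathlib.Analysis.Complex.Polynomial.Basic

/-!
# A norm bound for sums of squares of cyclotomic integers

If nonzero elements of `ℤ[ζ]` have squared absolute values summing to a rational number `N` then
there are at most `N` of them.
-/

set_option autoImplicit false

open Polynomial
open scoped ComplexConjugate

namespace CfsgLib.BlockRank

variable {n : ℕ} {ζ : ℂ}

theorem prod_primitiveRoots_aeval_int (hn : 0 < n) (hζ : IsPrimitiveRoot ζ n) (P : ℤ[X]) :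
    ∃ z : ℤ, ∏ w ∈ primitiveRoots n ℂ, aeval w P = (z : ℂ) := by
  classical
  have : NeZero n := ⟨hn.ne'⟩
  let R : ℤ[X] := ∏ i ∈ (Finset.range n).filter (fun i => i.Coprime n), P.comp (X ^ i)
  have hR : ∀ η : ℂ, IsPrimitiveRoot η n →
      aeval η R = ∏ w ∈ primitiveRoots n ℂ, aeval w P := by
    intro η hη
    rw [map_prod]
    refine Finset.prod_bij (fun i _ => η ^ i) (fun i hi => ?_) (fun i hi j hj h => ?_)
      (fun w hw => ?_) (fun i _ => by rw [aeval_comp, map_pow, aeval_X])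
    · exact (mem_primitiveRoots hn).mpr (hη.pow_of_coprime i (Finset.mem_filter.mp hi).2)
    · exact hη.pow_inj (Finset.mem_range.mp (Finset.mem_filter.mp hi).1)
        (Finset.mem_range.mp (Finset.mem_filter.mp hj).1) h
    · have hw' := (mem_primitiveRoots hn).mp hw
      obtain ⟨i, hi, hiw⟩ := hη.eq_pow_of_pow_eq_one hw'.pow_eq_one
      exact ⟨i, Finset.mem_filter.mpr ⟨Finset.mem_range.mpr hi,
        (hη.pow_iff_coprime hn i).mp (hiw ▸ hw')⟩, hiw⟩
  obtain ⟨q, hq⟩ := CfsgLib.CharPower.exists_rat_of_aeval_const hn hζ R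
    (fun η hη => by rw [hR η hη, hR ζ hζ])
  have hint : IsIntegral ℤ (q : ℂ) := by
    rw [← hq]
    have h1 := (aeval (⟨ζ, hζ.isIntegral hn⟩ : integralClosure ℤ ℂ) R).2
    rwa [← Subalgebra.coe_val, ← Polynomial.aeval_algHom_apply] at h1
  obtain ⟨z, hz⟩ := CfsgLib.Char.exists_int_of_isIntegral_ratCast hint
  exact ⟨z, by rw [← hR ζ hζ, hq, ← hz]; simp⟩

/-- A nonzero cyclotomic integer has conjugates of squared absolute value at least `1` on
average. -/
theorem card_le_sum_normSq (hn : 0 < n) (hζ : IsPrimitiveRoot ζ n) (P : ℤ[X])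
    (hP : aeval ζ P ≠ 0) :
    ((primitiveRoots n ℂ).card : ℝ) ≤
      ∑ w ∈ primitiveRoots n ℂ, Complex.normSq (aeval w P) := by
  classical
  set m := (primitiveRoots n ℂ).card with hm
  have hne : ∀ w ∈ primitiveRoots n ℂ, aeval w P ≠ 0 := by
    intro w hw h0
    have h1 := CfsgLib.CharPower.aeval_eq_of_rat hn ((mem_primitiveRoots hn).mp hw) hζ P 0
      (by simpa using h0)
    exact hP (by simpa using h1)
  obtain ⟨z, hz⟩ := prod_primitiveRoots_aeval_int hn hζ P
  have hz0 : z ≠ 0 := fun h0 => by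
    rw [h0, Int.cast_zero, Finset.prod_eq_zero_iff] at hz
    obtain ⟨w, hw, hw0⟩ := hz
    exact hne w hw hw0
  have hprod : (1 : ℝ) ≤ ∏ w ∈ primitiveRoots n ℂ, Complex.normSq (aeval w P) := by
    rw [← map_prod, hz, Complex.normSq_intCast, ← sq, ← Int.cast_pow]
    exact_mod_cast (show (0 : ℤ) < z ^ 2 by positivity)
  have hlog := Real.log_nonneg hprod
  rw [Real.log_prod (fun w hw => (Complex.normSq_pos.mpr (hne w hw)).ne')] at hlog
  have h2 := Finset.sum_le_sum (s := primitiveRoots n ℂ) fun w hw =>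
    Real.log_le_sub_one_of_pos (Complex.normSq_pos.mpr (hne w hw))
  rw [Finset.sum_sub_distrib, Finset.sum_const, nsmul_eq_mul, mul_one, ← hm] at h2
  linarith

/-- At most `N` nonzero cyclotomic integers have squared absolute values summing to the rational
number `N`. -/
theorem card_le_of_sum_normSq (hn : 0 < n) (hζ : IsPrimitiveRoot ζ n) {ι : Type*} [Fintype ι]
    (P : ι → ℤ[X]) (hP : ∀ i, aeval ζ (P i) ≠ 0) (N : ℚ)
    (hN : ∑ i, aeval ζ (P i) * conj (aeval ζ (P i)) = (N : ℂ)) :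
    (Fintype.card ι : ℚ) ≤ N := by
  classical
  let Q : ℤ[X] := ∑ i, P i * (P i).comp (X ^ (n - 1))
  have hQ : ∀ w : ℂ, IsPrimitiveRoot w n →
      aeval w Q = ((∑ i, Complex.normSq (aeval w (P i)) : ℝ) : ℂ) := by
    intro w hw
    rw [map_sum, Complex.ofReal_sum]
    refine Finset.sum_congr rfl fun i _ => ?_
    have hnorm : ‖w‖ = 1 := Complex.norm_eq_one_of_pow_eq_one hw.pow_eq_one hn.ne'
    have hinv : w ^ (n - 1) = conj w := by
      rw [← Complex.inv_eq_conj hnorm]
      refine eq_inv_of_mul_eq_one_left ?_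
      rw [← pow_succ, Nat.sub_add_cancel hn, hw.pow_eq_one]
    rw [map_mul, aeval_comp, map_pow, aeval_X, hinv, ← Complex.mul_conj]
    congr 1
    exact (Polynomial.aeval_algHom_apply (Complex.conjAe.toAlgHom.restrictScalars ℤ) w (P i))
  have hsum : ∀ w ∈ primitiveRoots n ℂ,
      (∑ i, Complex.normSq (aeval w (P i)) : ℝ) = (N : ℝ) := by
    intro w hw
    have h0 : aeval ζ Q = (N : ℂ) := by
      rw [hQ ζ hζ, ← hN, Complex.ofReal_sum]
      exact Finset.sum_congr rfl fun i _ => (Complex.mul_conj _).symm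
    have h1 := CfsgLib.CharPower.aeval_eq_of_rat hn hζ ((mem_primitiveRoots hn).mp hw) Q N h0
    rw [hQ w ((mem_primitiveRoots hn).mp hw)] at h1
    exact_mod_cast h1
  set m := (primitiveRoots n ℂ).card with hm
  have hpos : 0 < m := Finset.card_pos.mpr ⟨ζ, (mem_primitiveRoots hn).mpr hζ⟩
  have hi : ∀ i, (m : ℝ) ≤ ∑ w ∈ primitiveRoots n ℂ, Complex.normSq (aeval w (P i)) :=
    fun i => card_le_sum_normSq hn hζ (P i) (hP i)
  have h3 := Finset.sum_le_sum (s := (Finset.univ : Finset ι)) fun i _ => hi i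
  rw [Finset.sum_comm, Finset.sum_congr rfl hsum, Finset.sum_const, Finset.sum_const,
    nsmul_eq_mul, nsmul_eq_mul, ← hm, mul_comm (m : ℝ), Finset.card_univ] at h3
  have h4 : ((Fintype.card ι : ℚ) : ℝ) ≤ (N : ℝ) := by
    push_cast
    exact le_of_mul_le_mul_right h3 (by exact_mod_cast hpos)
  exact_mod_cast h4

end CfsgLib.BlockRank
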