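import Cfsg.Agent.Lib.BlockReg.Induced
import Cfsg.Agent.Lib.BlockReg.Bounds

/-!
# Regular inner products of a block modulo `M`
-/

set_option autoImplicit false

open scoped ComplexConjugate

namespace CfsgLib.BlockRank

open CfsgLib.BlockReg

universe u

variable {G : Type u} [Group G] [Fintype G] {p : ℕ} {M : Ideal Cfsg.AlgInt}

/-- Modulo `M`, `rInner φ θ` is the degree quotient `φ 1 / θ₀ 1` times `rInner θ₀ θ₀`. -/
theorem rInner_sub_mem (hM : Cfsg.IsPModular p M) {B : Set (Cfsg.IrrCharacter G)}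
    (hB : Cfsg.IsPBlock M B) {θ₀ φ θ : Cfsg.IrrCharacter G} (h0 : θ₀ ∈ B) (hφ : φ ∈ B)
    (hθ : θ ∈ B) (hm : (Cfsg.charDegree (θ₀ : G → ℂ)).factorization p = minExp p B) :
    Cfsg.MemLocalIdeal M (rInner p (φ : G → ℂ) (θ : G → ℂ) -
      (Cfsg.charDegree (φ : G → ℂ) : ℂ) / (Cfsg.charDegree (θ₀ : G → ℂ) : ℂ) *
        rInner p (θ₀ : G → ℂ) (θ₀ : G → ℂ)) := by
  have h1 := rInner_congr hM hB φ hθ h0
  have h2 : Cfsg.MemLocalIdeal M (rInner p (φ : G → ℂ) (θ₀ : G → ℂ) -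
      (Cfsg.charDegree (φ : G → ℂ) : ℂ) / (Cfsg.charDegree (θ₀ : G → ℂ) : ℂ) *
        rInner p (θ₀ : G → ℂ) (θ₀ : G → ℂ)) := by
    rcases lt_or_eq_of_le (minExp_le (p := p) hφ) with hlt | heq
    · exact memIdeal_sub hM (rInner_memIdeal hM hB h0 hlt)
        (memIdeal_mul_right hM (natCast_div_memIdeal hM (deg_pos θ₀).ne' (by omega))
          (rInner_memRing hM θ₀ θ₀))
    · exact rInner_scale hM hB hφ h0 h0 heq.symm hm
  have h3 := memIdeal_add hM h1 h2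
  rwa [sub_add_sub_cancel] at h3

omit [Fintype G] in
/-- Degrees over the minimal `p`-power are local integers. -/
theorem deg_div_memRing (hM : Cfsg.IsPModular p M) {B : Set (Cfsg.IrrCharacter G)}
    {φ : Cfsg.IrrCharacter G} (hφ : φ ∈ B) :
    Cfsg.MemLocalRing M ((Cfsg.charDegree (φ : G → ℂ) : ℂ) / ((p ^ minExp p B : ℕ) : ℂ)) :=
  natCast_div_memRing hM (pow_ne_zero _ hM.1.ne_zero)
    (Or.inr (by rw [hM.1.factorization_pow, Finsupp.single_eq_same]; exact minExp_le hφ))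

/-- The unit relating regular inner products in a block to degrees. -/
theorem exists_unit_congr [Fact p.Prime] (hM : Cfsg.IsPModular p M)
    {B : Set (Cfsg.IrrCharacter G)} (hB : Cfsg.IsPBlock M B) :
    ∃ c : ℂ, Cfsg.MemLocalRing M c ∧ ¬ Cfsg.MemLocalIdeal M c ∧
      (∀ φ ∈ B, ∀ θ ∈ B, Cfsg.MemLocalIdeal M (rInner p (φ : G → ℂ) (θ : G → ℂ) -
          c * ((Cfsg.charDegree (φ : G → ℂ) : ℂ) / ((p ^ minExp p B : ℕ) : ℂ)))) ∧
      (∀ φ ∈ B, ∀ θ ∈ B, Cfsg.MemLocalIdeal M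
        (Cfsg.classInner (tilde p (φ : G → ℂ)) (θ : G → ℂ) / ((p ^ minExp p B : ℕ) : ℂ) -
          c * ((Cfsg.charDegree (φ : G → ℂ) : ℂ) / ((p ^ minExp p B : ℕ) : ℂ)) *
            ((Cfsg.charDegree (θ : G → ℂ) : ℂ) / ((p ^ minExp p B : ℕ) : ℂ)))) := by
  obtain ⟨θ₀, h0, hm⟩ := exists_minExp (p := p) (block_nonempty hM hB)
  have hpm : ((p ^ minExp p B : ℕ) : ℂ) ≠ 0 :=
    Nat.cast_ne_zero.mpr (pow_ne_zero _ hM.1.ne_zero)
  have hd0 : (Cfsg.charDegree (θ₀ : G → ℂ) : ℂ) ≠ 0 :=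
    Nat.cast_ne_zero.mpr (deg_pos θ₀).ne'
  obtain ⟨hu, hu'⟩ := natCast_div_unit hM (pow_ne_zero (minExp p B) hM.1.ne_zero)
    (deg_pos θ₀).ne' (by rw [hM.1.factorization_pow, Finsupp.single_eq_same, hm])
  refine ⟨rInner p (θ₀ : G → ℂ) (θ₀ : G → ℂ) *
      (((p ^ minExp p B : ℕ) : ℂ) / (Cfsg.charDegree (θ₀ : G → ℂ) : ℂ)),
    memRing_mul hM (rInner_memRing hM θ₀ θ₀) hu,
    not_memIdeal_mul hM (rInner_memRing hM θ₀ θ₀) hu (rInner_not_memIdeal hM hB h0 h0 hm) hu',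
    ?_, ?_⟩
  · intro φ hφ θ hθ
    convert rInner_sub_mem hM hB h0 hφ hθ hm using 2
    field_simp
  · intro φ hφ θ hθ
    rw [classInner_eq_rInner_mul, mul_div_assoc, ← sub_mul]
    refine memIdeal_mul_right hM ?_ (deg_div_memRing hM hθ)
    convert rInner_sub_mem hM hB h0 hφ hθ hm using 2
    field_simp

end CfsgLib.BlockRank
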