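import Cfsg.Agent.Lib.BlockRank.Subsection
import Cfsg.Agent.Lib.BlockRank.Congr
import Cfsg.Agent.Lib.BlockRank.CycloBound
import Cfsg.Agent.Lib.Char.CentralOver
import Cfsg.Agent.Lib.Char.Virtual

/-!
# Contributions of a major subsection and the bound `k(B)² ≤ p^(2d) l(b)`
-/

set_option autoImplicit false

open scoped ComplexConjugate
open Module

namespace CfsgLib.BlockRank

universe u

variable {G : Type u} [Group G] [Fintype G] {p : ℕ}

/-- The regular inner product of two functions (scaled by `|G|`). -/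
noncomputable def regPair (p : ℕ) (f g : G → ℂ) : ℂ :=
  ∑ s ∈ regSet p, f s * conj (g s)

theorem classInner_pRegularPart_eq (f g : G → ℂ) :
    Cfsg.classInner (Cfsg.pRegularPart p f) g = (Nat.card G : ℂ)⁻¹ * regPair p f g := by
  classical
  rw [Cfsg.classInner, regPair, regSet, Finset.sum_filter]
  refine congrArg _ (Finset.sum_congr rfl fun s _ => ?_)
  rw [pRegularPart_apply]
  split_ifs <;> simp

theorem classInner_tilde_eq (f g : G → ℂ) :
    Cfsg.classInner (CfsgLib.BlockReg.tilde p f) g =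
      ((p ^ (Nat.card G).factorization p : ℕ) : ℂ) * ((Nat.card G : ℂ)⁻¹ * regPair p f g) := by
  classical
  rw [Cfsg.classInner, regPair, regSet, Finset.sum_filter]
  simp only [Finset.mul_sum]
  refine Finset.sum_congr rfl fun s _ => ?_
  by_cases hs : p ∣ orderOf s
  · simp [CfsgLib.BlockReg.tilde, Cfsg.IsPRegular, hs]
  · simp only [CfsgLib.BlockReg.tilde, Cfsg.IsPRegular, hs, if_false, not_false_eq_true, if_true]
    ring

theorem gram_expand {τ : Type*} (T : Finset τ) (F : τ → G → ℂ) :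
    ∑ i ∈ T, ∑ j ∈ T, regPair p (F i) (F j) * conj (regPair p (F i) (F j)) =
      ∑ s ∈ regSet p, ∑ t ∈ regSet p,
        (∑ i ∈ T, F i s * conj (F i t)) * conj (∑ i ∈ T, F i s * conj (F i t)) := by
  simp only [regPair, map_sum, map_mul, Complex.conj_conj, Finset.sum_mul, Finset.mul_sum]
  rw [Finset.sum_congr rfl fun i _ => Finset.sum_comm, Finset.sum_comm]
  refine Finset.sum_congr rfl fun s _ => ?_
  rw [Finset.sum_congr rfl fun i _ => Finset.sum_comm, Finset.sum_comm]
  refine Finset.sum_congr rfl fun t _ => ?_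
  exact Finset.sum_congr rfl fun i _ => Finset.sum_congr rfl fun j _ => by ring

/-- Families with the same kernel on the regular elements have the same sum of squared regular
inner products. -/
theorem gram_congr {ι κ : Type*} (A : Finset ι) (A' : Finset κ) (f : ι → G → ℂ) (f' : κ → G → ℂ)
    (h : ∀ s ∈ regSet p, ∀ t ∈ regSet p,
      ∑ i ∈ A, f i s * conj (f i t) = ∑ j ∈ A', f' j s * conj (f' j t)) :
    ∑ i ∈ A, ∑ j ∈ A, regPair p (f i) (f j) * conj (regPair p (f i) (f j)) =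
      ∑ i ∈ A', ∑ j ∈ A', regPair p (f' i) (f' j) * conj (regPair p (f' i) (f' j)) := by
  rw [gram_expand]
  refine Eq.trans ?_ (gram_expand A' f').symm
  exact Finset.sum_congr rfl fun s hs => Finset.sum_congr rfl fun t ht => by rw [h s hs t ht]

/-- The squared regular inner products of the members of a closed set add up to `|G|² l`. -/
theorem sum_regPair_sq {e : Set (Cfsg.IrrCharacter G)} [Fintype e] (he : RegClosed p e) :
    ∑ φ ∈ e.toFinset, ∑ θ ∈ e.toFinset,
        regPair p (φ : G → ℂ) (θ : G → ℂ) * conj (regPair p (φ : G → ℂ) (θ : G → ℂ)) =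
      (Nat.card G : ℂ) ^ 2 * Cfsg.blockRank p e := by
  classical
  have hG : (Nat.card G : ℂ) ≠ 0 := Nat.cast_ne_zero.mpr Nat.card_pos.ne'
  have h1 : ∀ f g : G → ℂ, regPair p f g =
      (Nat.card G : ℂ) * Cfsg.classInner (Cfsg.pRegularPart p f) g := fun f g => by
    rw [classInner_pRegularPart_eq, ← mul_assoc, mul_inv_cancel₀ hG, one_mul]
  rw [cast_blockRank_eq e he, ← Finset.sum_subtype e.toFinset (fun x => Set.mem_toFinset)
    (fun φ : Cfsg.IrrCharacter G =>
      Cfsg.classInner (Cfsg.pRegularPart p (φ : G → ℂ)) (φ : G → ℂ)), Finset.mul_sum]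
  refine Finset.sum_congr rfl fun φ hφ => ?_
  have h2 := CfsgLib.Char.classInner_eq_sum
    (isClassFunction_pRegularPart (p := p) (CfsgLib.Char.IsIrrCharacter.isClassFunction φ.2))
    (isClassFunction_pRegularPart (p := p) (CfsgLib.Char.IsIrrCharacter.isClassFunction φ.2))
  rw [← classInner_pRegularPart_left] at h2
  rw [h2, Finset.mul_sum]
  refine (Finset.sum_congr rfl fun θ _ => ?_).trans
    (Finset.sum_subset (Finset.subset_univ _) fun θ _ hθ => ?_)
  · rw [h1, map_mul, map_natCast]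
    ring
  · rw [he φ (Set.mem_toFinset.mp hφ) θ (fun h => hθ (Set.mem_toFinset.mpr h))]
    simp

variable {M : Ideal Cfsg.AlgInt}

/-- The kernel of a subsection over its induced block is the kernel of the local block. -/
theorem sum_blockPart_translate_mul_conj [Fact p.Prime] (hM : Cfsg.IsPModular p M)
    {C : Subgroup G} {x : G} (hC : C = Subgroup.centralizer {x})
    (hx : ∃ k : ℕ, orderOf x = p ^ k) [Fintype C] {e : Set (Cfsg.IrrCharacter C)} [Fintype e]
    {B : Set (Cfsg.IrrCharacter G)} [Fintype B] (hind : Cfsg.IsInducedBlock M C e B) {s t : C}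
    (hs : Cfsg.IsPRegular p s) (ht : Cfsg.IsPRegular p t) :
    ∑ χ ∈ B.toFinset, Cfsg.blockPart e (fun c : C => (χ : G → ℂ) (x * c)) s *
        conj (Cfsg.blockPart e (fun c : C => (χ : G → ℂ) (x * c)) t) =
      ∑ φ ∈ e.toFinset, (φ : C → ℂ) s * conj ((φ : C → ℂ) t) := by
  classical
  have hzero : ∀ χ ∉ B.toFinset, Cfsg.blockPart e (fun c : C => (χ : G → ℂ) (x * c)) s = 0 := by
    intro χ hχ
    subst hC
    have : M.IsMaximal := hM.2.1
    exact Cfsg.Agent.S0923.result p M hM x hx (Cfsg.blockOf M (χ : G → ℂ)) ⟨χ, rfl⟩ χ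
      (CfsgLib.BlockReg.sameBlock_refl hM _) e hind.1 (fun hind' => hχ (Set.mem_toFinset.mpr (by
        rw [CfsgLib.Blocks.IsInducedBlock.unique hind hind']
        exact CfsgLib.BlockReg.sameBlock_refl hM _))) s hs
  rw [Finset.sum_subset (Finset.subset_univ _) fun χ _ hχ => by rw [hzero χ hχ, zero_mul],
    sum_blockPart_mul_conj_congr hM hind.1
      (fun (χ : Cfsg.IrrCharacter G) (c : C) => (χ : G → ℂ) (x * c))
      (fun φ : Cfsg.IrrCharacter C => (φ : C → ℂ))
      (fun c d hc hd => sum_translate_mul_conj hC hx c d hc hd) hs ht]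
  refine (Finset.sum_subset (Finset.subset_univ _) fun φ _ hφ => ?_).symm.trans
    (Finset.sum_congr rfl fun φ hφ => ?_)
  · rw [blockPart_irr, if_neg (fun h => hφ (Set.mem_toFinset.mpr h)), zero_mul]
  · rw [blockPart_irr, blockPart_irr, if_pos (Set.mem_toFinset.mp hφ),
      if_pos (Set.mem_toFinset.mp hφ)]

omit [Fintype G] in
/-- A central element of `p`-power order acts on an irreducible character by a root of unity. -/
theorem exists_central_root [Finite G] {n : ℕ} {ζ : ℂ} (hn : 0 < n) (hζ : IsPrimitiveRoot ζ n)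
    {z : G} (hz : z ∈ Subgroup.center G) (hzn : z ^ n = 1) (φ : Cfsg.IrrCharacter G) :
    ∃ i : ℕ, ∀ g : G, (φ : G → ℂ) (z * g) = ζ ^ i * (φ : G → ℂ) g := by
  obtain ⟨m, ρ, hρ, hφ⟩ := φ.2
  obtain ⟨c, hc⟩ := CfsgLib.Char.exists_scalar_of_commute ρ (ρ z) fun h => by
    rw [← map_mul, ← map_mul, Subgroup.mem_center_iff.1 hz h]
  have hcn : c ^ n = 1 := by
    have h1 : (c • (1 : (Fin m → ℂ) →ₗ[ℂ] (Fin m → ℂ))) ^ n = 1 := by
      rw [← hc, ← map_pow, hzn, map_one]
    rw [smul_pow, one_pow] at h1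
    obtain ⟨v, hv⟩ : ∃ v : Fin m → ℂ, v ≠ 0 := by
      have := Module.nontrivial_of_finrank_pos (CfsgLib.Char.finrank_pos_of_isIrreducible ρ)
      exact exists_ne 0
    have h2 := LinearMap.congr_fun h1 v
    simp only [LinearMap.smul_apply, Module.End.one_apply] at h2
    by_contra hne
    exact hv (by
      have : (c ^ n - 1) • v = 0 := by rw [sub_smul, h2, one_smul, sub_self]
      exact (smul_eq_zero.mp this).resolve_left (sub_ne_zero.mpr hne))
  have : NeZero n := ⟨hn.ne'⟩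
  obtain ⟨i, -, hi⟩ := hζ.eq_pow_of_pow_eq_one hcn
  refine ⟨i, fun g => ?_⟩
  rw [hi, ← hφ]
  simp [Representation.character, map_mul, hc]

/-- The squares of the contributions of a subsection add up to `l`. -/
theorem sum_contribution_sq [Fact p.Prime] (hM : Cfsg.IsPModular p M) {C : Subgroup G} {x : G}
    (hC : C = Subgroup.centralizer {x}) (hx : ∃ k : ℕ, orderOf x = p ^ k) [Fintype C]
    {e : Set (Cfsg.IrrCharacter C)} {B : Set (Cfsg.IrrCharacter G)} [Fintype B]
    (hind : Cfsg.IsInducedBlock M C e B) :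
    ∑ χ ∈ B.toFinset, ∑ ψ ∈ B.toFinset,
        regPair p (Cfsg.blockPart e (fun c : C => (χ : G → ℂ) (x * c)))
            (Cfsg.blockPart e (fun c : C => (ψ : G → ℂ) (x * c))) *
          conj (regPair p (Cfsg.blockPart e (fun c : C => (χ : G → ℂ) (x * c)))
            (Cfsg.blockPart e (fun c : C => (ψ : G → ℂ) (x * c)))) =
      (Nat.card C : ℂ) ^ 2 * Cfsg.blockRank p e := by
  classical
  have := Fintype.ofFinite e
  rw [← sum_regPair_sq (regClosed_of_isPBlock hM hind.1)]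
  exact gram_congr B.toFinset e.toFinset _ _ fun s hs t ht =>
    sum_blockPart_translate_mul_conj hM hC hx hind (Finset.mem_filter.mp hs).2
      (Finset.mem_filter.mp ht).2

/-- The multiplicities of a character in a subgroup, with the value of the `e`-part of its
translate by a central element. -/
theorem exists_blockPart_translate {C : Subgroup G} {x : G} (hC : C = Subgroup.centralizer {x})
    [Fintype C] {ζ : ℂ} (hζ : IsPrimitiveRoot ζ (orderOf x)) (χ : Cfsg.IrrCharacter G) :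
    ∃ (m : Cfsg.IrrCharacter C → ℕ) (i : Cfsg.IrrCharacter C → ℕ),
      (∀ c : C, (χ : G → ℂ) c = ∑ φ : Cfsg.IrrCharacter C, (m φ : ℂ) * (φ : C → ℂ) c) ∧
      ∀ (e : Set (Cfsg.IrrCharacter C)) [Fintype e] (s : C),
        Cfsg.blockPart e (fun c : C => (χ : G → ℂ) (x * c)) s =
          ∑ φ ∈ e.toFinset, (m φ : ℂ) * ζ ^ i φ * (φ : C → ℂ) s := by
  classical
  have hres := CfsgLib.Char.IsCharacter.restrict (CfsgLib.Char.IsIrrCharacter.isCharacter χ.2) C
  choose m hm using fun φ : Cfsg.IrrCharacter C =>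
    CfsgLib.Char.IsCharacter.exists_nat_classInner hres φ.2
  have hexp : ∀ c : C, (χ : G → ℂ) c = ∑ φ : Cfsg.IrrCharacter C, (m φ : ℂ) * (φ : C → ℂ) c := by
    intro c
    have h := congrFun (CfsgLib.Char.IsCharacter.eq_sum_classInner hres) c
    simpa [Finset.sum_apply, hm] using h
  have hxC : x ∈ C := by
    rw [hC, Subgroup.mem_centralizer_singleton_iff]
  have hz : (⟨x, hxC⟩ : C) ∈ Subgroup.center C := by
    rw [Subgroup.mem_center_iff]
    exact fun g => Subtype.ext (Subgroup.mem_centralizer_singleton_iff.mp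
      (hC ▸ g.2 : (g : G) ∈ Subgroup.centralizer {x}))
  have hxn : (⟨x, hxC⟩ : C) ^ orderOf x = 1 :=
    Subtype.ext (by simp [pow_orderOf_eq_one x])
  choose i hi using exists_central_root (G := C) (orderOf_pos x) hζ hz hxn
  refine ⟨m, i, hexp, fun e _ s => ?_⟩
  have hF : (fun c : C => (χ : G → ℂ) (x * c)) =
      ∑ φ : Cfsg.IrrCharacter C, ((m φ : ℂ) * ζ ^ i φ) • (φ : C → ℂ) := by
    funext c
    rw [Finset.sum_apply]
    refine (hexp (⟨x, hxC⟩ * c)).trans (Finset.sum_congr rfl fun φ _ => ?_)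
    rw [hi, Pi.smul_apply, smul_eq_mul, mul_assoc]
  rw [blockPart_apply, hF]
  exact Finset.sum_congr rfl fun φ _ => by rw [CfsgLib.Char.classInner_sum_smul_irr]

open CfsgLib.BlockReg in
/-- A height zero character has a block part of minimal `p`-part on a major local block. -/
theorem not_memIdeal_degree_blockPart [Fact p.Prime] (hM : Cfsg.IsPModular p M) {C : Subgroup G}
    [Fintype C] {e : Set (Cfsg.IrrCharacter C)} [Fintype e] {B : Set (Cfsg.IrrCharacter G)}
    (hind : Cfsg.IsInducedBlock M C e B) {χ : Cfsg.IrrCharacter G} (hχ : χ ∈ B)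
    (hh : (Cfsg.charDegree (χ : G → ℂ)).factorization p = minExp p B)
    (m : Cfsg.IrrCharacter C → ℕ)
    (hm : ∀ c : C, (χ : G → ℂ) c = ∑ φ : Cfsg.IrrCharacter C, (m φ : ℂ) * (φ : C → ℂ) c) :
    ¬ Cfsg.MemLocalIdeal M (∑ φ ∈ e.toFinset, (m φ : ℂ) *
      ((Cfsg.charDegree (φ : C → ℂ) : ℂ) / ((p ^ minExp p e : ℕ) : ℂ))) := by
  classical
  intro hE
  obtain ⟨ξ, hξ⟩ := block_nonempty hM hind.1
  obtain ⟨c, hc, -, hcr, -⟩ := exists_unit_congr hM hind.1
  obtain ⟨hu, hu'⟩ := pUnit_spec (G := C) hM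
  refine (regular_sum_criterion hM C hind hξ χ).2 hχ hh ?_
  have hS : (∑ h : C, regInv p (χ : G → ℂ) h * (ξ : C → ℂ) h) / (ξ : C → ℂ) 1 =
      (pUnit p C)⁻¹ *
        ∑ φ ∈ e.toFinset, (m φ : ℂ) * rInner p (φ : C → ℂ) (ξ : C → ℂ) := by
    have h1 : ∀ h : C, regInv p (χ : G → ℂ) h =
        ∑ φ : Cfsg.IrrCharacter C, (m φ : ℂ) * regInv p (φ : C → ℂ) h := by
      intro h
      simp only [regInv, Subgroup.orderOf_coe]
      split_ifs with hd
      · simp
      · exact hm h⁻¹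
    simp only [h1, Finset.sum_mul]
    rw [Finset.sum_comm, Finset.sum_div, Finset.mul_sum]
    refine (Finset.sum_congr rfl fun φ _ => ?_).trans
      (Finset.sum_subset (Finset.subset_univ e.toFinset) fun φ _ hφ => ?_).symm
    · rw [rInner, classInner_tilde_eq_regInv, ← mul_assoc, ← mul_assoc,
        mul_comm (pUnit p C)⁻¹ (m φ : ℂ), mul_assoc (m φ : ℂ),
        inv_mul_cancel₀ (ne_zero_of_not_memIdeal hM hu'), mul_one, mul_div_assoc', Finset.mul_sum]
      simp only [mul_assoc]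
    · rw [rInner, classInner_tilde_eq_zero hM (isPBlock_blockOf φ) (sameBlock_refl hM _)
        (fun h => hφ (Set.mem_toFinset.mpr
          (mem_of_sameBlock hM hind.1 hξ (sameBlock_symm h))))]
      simp
  rw [hS]
  refine memIdeal_mul_left hM (memRing_inv hM hu hu') ?_
  have hd : Cfsg.MemLocalIdeal M (∑ φ ∈ e.toFinset, (m φ : ℂ) *
      (rInner p (φ : C → ℂ) (ξ : C → ℂ) -
        c * ((Cfsg.charDegree (φ : C → ℂ) : ℂ) / ((p ^ minExp p e : ℕ) : ℂ)))) :=
    memIdeal_sum hM _ fun φ hφ => memIdeal_mul_left hM (memRing_natCast hM _)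
      (hcr φ (Set.mem_toFinset.mp hφ) ξ hξ)
  have h2 := memIdeal_add hM hd (memIdeal_mul_left hM hc hE)
  convert h2 using 1
  rw [Finset.mul_sum, ← Finset.sum_add_distrib]
  exact Finset.sum_congr rfl fun φ _ => by ring

open CfsgLib.BlockReg Polynomial in
/-- Brauer's bound from a major subsection of a block all of whose characters have height zero. -/
theorem card_sq_le [Fact p.Prime] (hM : Cfsg.IsPModular p M) {C : Subgroup G} {x : G}
    (hC : C = Subgroup.centralizer {x}) (hx : ∃ k : ℕ, orderOf x = p ^ k) [Fintype C]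
    {e : Set (Cfsg.IrrCharacter C)} {B : Set (Cfsg.IrrCharacter G)}
    (hind : Cfsg.IsInducedBlock M C e B) {d : ℕ}
    (hd : d + minExp p e = (Nat.card C).factorization p)
    (hh : ∀ χ ∈ B, (Cfsg.charDegree (χ : G → ℂ)).factorization p = minExp p B) :
    Nat.card B ^ 2 ≤ p ^ (2 * d) * Cfsg.blockRank p e := by
  classical
  have := Fintype.ofFinite e
  have := Fintype.ofFinite B
  set n := orderOf x with hn
  have hn0 : 0 < n := orderOf_pos x
  let ζ := Complex.exp (2 * Real.pi * Complex.I / n)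
  have hζ : IsPrimitiveRoot ζ n := Complex.isPrimitiveRoot_exp n hn0.ne'
  obtain ⟨k, hk⟩ := hx
  have hω : ∀ j : ℕ, Cfsg.MemLocalIdeal M (ζ ^ j - 1) := by
    intro j
    have hint : IsIntegral ℤ (ζ ^ j) := (hζ.isIntegral hn0).pow j
    have : M.IsPrime := hM.2.1.isPrime
    have hR : ζ ^ j ∈ CfsgLib.Blocks.locRing M := memRing_algInt hM hint
    have : M.IsMaximal := hM.2.1
    rw [← OneMemClass.coe_one (CfsgLib.Blocks.locRing M),
      CfsgLib.Blocks.memLocalIdeal_sub_iff (x := ⟨ζ ^ j, hR⟩), map_one]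
    refine CfsgLib.Blocks.red_eq_one_of_pow_prime_pow hM.1 hM.2.2 (k := k) (Subtype.ext ?_)
    show (ζ ^ j) ^ p ^ k = 1
    rw [← pow_mul, mul_comm, pow_mul, ← hk, hn, hζ.pow_eq_one, one_pow]
  obtain ⟨c, hc, hc', -, hcN⟩ := exists_unit_congr hM hind.1
  choose m i hmi using exists_blockPart_translate (G := G) hC hζ
  have hN : ∀ φ θ : Cfsg.IrrCharacter C, ∃ z : ℤ, φ ∈ e → θ ∈ e →
      Cfsg.classInner (tilde p (φ : C → ℂ)) (θ : C → ℂ) / ((p ^ minExp p e : ℕ) : ℂ) = (z : ℂ) := by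
    intro φ θ
    obtain ⟨z, hz⟩ := exists_int_classInner_tilde (p := p) (G := C) hM.1 φ θ
    by_cases hφ : φ ∈ e
    · obtain ⟨w, hw⟩ : ((p ^ minExp p e : ℕ) : ℤ) ∣ z :=
        dvd_trans (Int.natCast_dvd_natCast.mpr (Nat.pow_dvd_pow p (minExp_le hφ)))
          (dvd_coeff_iff hM φ θ z hz).1
      refine ⟨w, fun _ _ => ?_⟩
      rw [hz, hw, Int.cast_mul, Int.cast_natCast,
        mul_div_cancel_left₀ _ (Nat.cast_ne_zero.mpr (pow_ne_zero _ hM.1.ne_zero))]
    · exact ⟨0, fun h => absurd h hφ⟩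
  choose Z hZ using hN
  let Q : Cfsg.IrrCharacter G → Cfsg.IrrCharacter G → ℤ[X] := fun χ ψ =>
    ∑ φ ∈ e.toFinset, ∑ θ ∈ e.toFinset,
      Polynomial.C ((m χ φ : ℤ) * (m ψ θ : ℤ) * Z φ θ) * X ^ (i χ φ + (n - 1) * i ψ θ)
  have hinv : ∀ j : ℕ, ζ ^ ((n - 1) * j) = conj (ζ ^ j) := fun j => by
    rw [pow_mul, map_pow]
    congr 1
    rw [← Complex.inv_eq_conj (Complex.norm_eq_one_of_pow_eq_one hζ.pow_eq_one hn0.ne')]
    refine eq_inv_of_mul_eq_one_left ?_
    rw [← pow_succ, Nat.sub_add_cancel hn0, hζ.pow_eq_one]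
  have hQ : ∀ χ ψ : Cfsg.IrrCharacter G, aeval ζ (Q χ ψ) =
      ((p ^ d : ℕ) : ℂ) * ((Nat.card C : ℂ)⁻¹ *
        regPair p (Cfsg.blockPart e (fun c : C => (χ : G → ℂ) (x * c)))
          (Cfsg.blockPart e (fun c : C => (ψ : G → ℂ) (x * c)))) := by
    intro χ ψ
    simp only [regPair, (hmi χ).2 e, (hmi ψ).2 e, map_sum, map_mul, map_natCast, Finset.sum_mul,
      Finset.mul_sum, Q, aeval_X_pow, map_intCast, eq_intCast]
    symm
    rw [Finset.sum_comm]
    conv_lhs => rw [Finset.sum_congr rfl fun _ _ => Finset.sum_comm]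
    rw [Finset.sum_comm]
    refine Finset.sum_congr rfl fun φ hφ => Finset.sum_congr rfl fun θ hθ => ?_
    have hz := hZ φ θ (Set.mem_toFinset.mp hφ) (Set.mem_toFinset.mp hθ)
    rw [classInner_tilde_eq, regPair] at hz
    push_cast
    rw [pow_add, hinv, ← hz, ← hd, pow_add, Nat.cast_mul]
    have hp0 : (p : ℂ) ≠ 0 := Nat.cast_ne_zero.mpr hM.1.ne_zero
    push_cast
    simp only [Finset.mul_sum, Finset.sum_mul, Finset.sum_div]
    refine Finset.sum_congr rfl fun s _ => ?_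
    field_simp
  have hne : ∀ χ ψ : Cfsg.IrrCharacter G, χ ∈ B → ψ ∈ B → aeval ζ (Q χ ψ) ≠ 0 := by
    intro χ ψ hχ hψ h0
    have hEχ := not_memIdeal_degree_blockPart hM hind hχ (hh χ hχ) (m χ) (hmi χ).1
    have hEψ := not_memIdeal_degree_blockPart hM hind hψ (hh ψ hψ) (m ψ) (hmi ψ).1
    have hER : ∀ χ' : Cfsg.IrrCharacter G, Cfsg.MemLocalRing M (∑ φ ∈ e.toFinset, (m χ' φ : ℂ) *
        ((Cfsg.charDegree (φ : C → ℂ) : ℂ) / ((p ^ minExp p e : ℕ) : ℂ))) := fun χ' =>
      memRing_sum hM _ fun φ hφ => memRing_mul hM (memRing_natCast hM _)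
        (deg_div_memRing hM (Set.mem_toFinset.mp hφ))
    refine not_memIdeal_mul hM hc (memRing_mul hM (hER χ) (hER ψ)) hc'
      (not_memIdeal_mul hM (hER χ) (hER ψ) hEχ hEψ) ?_
    have hdiff : Cfsg.MemLocalIdeal M (c *
        ((∑ φ ∈ e.toFinset, (m χ φ : ℂ) *
          ((Cfsg.charDegree (φ : C → ℂ) : ℂ) / ((p ^ minExp p e : ℕ) : ℂ))) *
        ∑ θ ∈ e.toFinset, (m ψ θ : ℂ) *
          ((Cfsg.charDegree (θ : C → ℂ) : ℂ) / ((p ^ minExp p e : ℕ) : ℂ))) -
        aeval ζ (Q χ ψ)) := by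
      simp only [Q, map_sum, map_mul, aeval_X_pow, map_intCast,
        eq_intCast, Finset.sum_mul_sum]
      simp only [Finset.mul_sum, ← Finset.sum_sub_distrib]
      refine memIdeal_sum hM _ fun φ hφ => memIdeal_sum hM _ fun θ hθ => ?_
      have h1 := hcN φ (Set.mem_toFinset.mp hφ) θ (Set.mem_toFinset.mp hθ)
      rw [hZ φ θ (Set.mem_toFinset.mp hφ) (Set.mem_toFinset.mp hθ)] at h1
      have h2 := hω (i χ φ + (n - 1) * i ψ θ)
      have h3 := memIdeal_add hM
        (memIdeal_mul_left hM (memRing_natCast hM (m χ φ * m ψ θ)) (memIdeal_neg h1))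
        (memIdeal_mul_left hM (memRing_intCast hM ((m χ φ : ℤ) * (m ψ θ : ℤ) * Z φ θ))
          (memIdeal_neg h2))
      convert h3 using 1
      push_cast
      ring
    rwa [h0, sub_zero] at hdiff
  have hsum := sum_contribution_sq hM hC ⟨k, hk⟩ hind (e := e)
  have hcardC : (Nat.card C : ℂ) ≠ 0 := Nat.cast_ne_zero.mpr Nat.card_pos.ne'
  have hb := card_le_of_sum_normSq hn0 hζ
    (fun a : B × B => Q (a.1 : Cfsg.IrrCharacter G) (a.2 : Cfsg.IrrCharacter G))
    (fun a => hne _ _ a.1.2 a.2.2) ((p ^ (2 * d) * Cfsg.blockRank p e : ℕ) : ℚ) (by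
      rw [Fintype.sum_prod_type]
      simp only [hQ]
      let F : Cfsg.IrrCharacter G → Cfsg.IrrCharacter G → ℂ := fun χ ψ =>
        regPair p (Cfsg.blockPart e (fun c : C => (χ : G → ℂ) (x * c)))
          (Cfsg.blockPart e (fun c : C => (ψ : G → ℂ) (x * c)))
      have hsub : ∀ g : Cfsg.IrrCharacter G → ℂ,
          ∑ a : B, g (a : Cfsg.IrrCharacter G) = ∑ χ ∈ B.toFinset, g χ := fun g =>
        (Finset.sum_subtype B.toFinset (fun y => Set.mem_toFinset) g).symm
      rw [hsub fun χ => ∑ ψ : B, ((p ^ d : ℕ) : ℂ) * ((Nat.card C : ℂ)⁻¹ * F χ ψ) *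
        conj (((p ^ d : ℕ) : ℂ) * ((Nat.card C : ℂ)⁻¹ * F χ ψ))]
      rw [Finset.sum_congr rfl fun χ _ => hsub fun ψ => ((p ^ d : ℕ) : ℂ) *
        ((Nat.card C : ℂ)⁻¹ * F χ ψ) * conj (((p ^ d : ℕ) : ℂ) * ((Nat.card C : ℂ)⁻¹ * F χ ψ))]
      simp only [map_mul, map_inv₀, map_natCast]
      rw [Rat.cast_natCast]
      push_cast
      rw [pow_mul']
      have : ((p : ℂ) ^ d) ^ 2 * (Cfsg.blockRank p e : ℂ) =
          (((p ^ d : ℕ) : ℂ) * (Nat.card C : ℂ)⁻¹) ^ 2 *
            ((Nat.card C : ℂ) ^ 2 * Cfsg.blockRank p e) := by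
        push_cast
        field_simp
      rw [this, ← hsum]
      simp only [Finset.mul_sum, F]
      push_cast
      exact Finset.sum_congr rfl fun χ _ => Finset.sum_congr rfl fun ψ _ => by ring)
  rw [Fintype.card_prod, ← sq, ← Nat.card_eq_fintype_card] at hb
  exact_mod_cast hb

end CfsgLib.BlockRank
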