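import Cfsg.Agent.Lib.BlockRank.Basic
import Cfsg.Agent.Lib.Blocks.Restrict
import Cfsg.Agent.Lib.Blocks.PPart
import Cfsg.Agent.S0923
import Cfsg.Prelude.Def_BrauerPairs

/-!
# Norms of `p`-subsections and Brauer's count of the characters of a block
-/

set_option autoImplicit false

open scoped ComplexConjugate
open Module

namespace CfsgLib.BlockRank

universe u

variable {G : Type u} [Group G] [Fintype G] {p : ℕ}

theorem blockPart_apply (e : Set (Cfsg.IrrCharacter G)) [Fintype e] (θ : G → ℂ) (s : G) :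
    Cfsg.blockPart e θ s =
      ∑ ψ ∈ e.toFinset, Cfsg.classInner θ (ψ : G → ℂ) * (ψ : G → ℂ) s := by
  unfold Cfsg.blockPart
  rw [finsum_mem_eq_toFinset_sum]
  congr! 4

/-- The kernel of the projection to a set of irreducible characters. -/
noncomputable def projKer (e : Set (Cfsg.IrrCharacter G)) [Fintype e] (s c : G) : ℂ :=
  (Nat.card G : ℂ)⁻¹ * ∑ ψ ∈ e.toFinset, (ψ : G → ℂ) s * conj ((ψ : G → ℂ) c)

theorem blockPart_eq_projKer (e : Set (Cfsg.IrrCharacter G)) [Fintype e] (θ : G → ℂ) (s : G) :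
    Cfsg.blockPart e θ s = ∑ c : G, projKer e s c * θ c := by
  rw [blockPart_apply]
  simp only [Cfsg.classInner, projKer, Finset.mul_sum, Finset.sum_mul]
  rw [Finset.sum_comm]
  exact Finset.sum_congr rfl fun c _ => Finset.sum_congr rfl fun ψ _ => by ring

theorem blockPart_irr (e : Set (Cfsg.IrrCharacter G)) [DecidablePred (· ∈ e)]
    (φ : Cfsg.IrrCharacter G) (s : G) :
    Cfsg.blockPart e (φ : G → ℂ) s = if φ ∈ e then (φ : G → ℂ) s else 0 := by
  classical
  have := Fintype.ofFinite e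
  rw [blockPart_apply]
  simp only [CfsgLib.Char.classInner_irrCharacter, ite_mul, one_mul, zero_mul, Finset.sum_ite_eq,
    Set.mem_toFinset]

theorem projKer_eq_zero [Fact p.Prime] {M : Ideal Cfsg.AlgInt} (hM : Cfsg.IsPModular p M)
    {e : Set (Cfsg.IrrCharacter G)} [Fintype e] (he : Cfsg.IsPBlock M e) {s c : G}
    (hs : Cfsg.IsPRegular p s) (hc : ¬ Cfsg.IsPRegular p c) : projKer e s c = 0 := by
  have h := CfsgLib.BlockReg.block_orthogonality hM he s c hs (by
    simpa [Cfsg.IsPRegular] using hc)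
  rw [finsum_mem_eq_toFinset_sum] at h
  rw [projKer, h, mul_zero]

theorem sum_blockPart_mul_conj_expand {ι : Type*} [Fintype ι] (e : Set (Cfsg.IrrCharacter G))
    [Fintype e] (H : ι → G → ℂ) (s t : G) :
    ∑ i, Cfsg.blockPart e (H i) s * conj (Cfsg.blockPart e (H i) t) =
      ∑ c : G, ∑ d : G, projKer e s c * conj (projKer e t d) * ∑ i, H i c * conj (H i d) := by
  simp only [blockPart_eq_projKer, map_sum, map_mul, Finset.sum_mul, Finset.mul_sum]
  conv_rhs => rw [Finset.sum_comm]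
  rw [Finset.sum_comm]
  refine Finset.sum_congr rfl fun c _ => ?_
  rw [Finset.sum_comm]
  exact Finset.sum_congr rfl fun d _ => Finset.sum_congr rfl fun i _ => by ring

/-- If two families of functions have the same kernel at pairs of regular elements then so have
their projections to a block. -/
theorem sum_blockPart_mul_conj_congr [Fact p.Prime] {M : Ideal Cfsg.AlgInt}
    (hM : Cfsg.IsPModular p M) {e : Set (Cfsg.IrrCharacter G)} (he : Cfsg.IsPBlock M e)
    {ι κ : Type*} [Fintype ι] [Fintype κ] (F : ι → G → ℂ) (F' : κ → G → ℂ)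
    (h : ∀ c d : G, Cfsg.IsPRegular p c → Cfsg.IsPRegular p d →
      ∑ i, F i c * conj (F i d) = ∑ j, F' j c * conj (F' j d))
    {s t : G} (hs : Cfsg.IsPRegular p s) (ht : Cfsg.IsPRegular p t) :
    ∑ i, Cfsg.blockPart e (F i) s * conj (Cfsg.blockPart e (F i) t) =
      ∑ j, Cfsg.blockPart e (F' j) s * conj (Cfsg.blockPart e (F' j) t) := by
  classical
  have := Fintype.ofFinite e
  rw [sum_blockPart_mul_conj_expand, sum_blockPart_mul_conj_expand]
  refine Finset.sum_congr rfl fun c _ => Finset.sum_congr rfl fun d _ => ?_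
  by_cases hc : Cfsg.IsPRegular p c
  · by_cases hd : Cfsg.IsPRegular p d
    · rw [h c d hc hd]
    · simp [projKer_eq_zero hM he ht hd]
  · simp [projKer_eq_zero hM he hs hc]

/-- If two families of functions have the same inner products at pairs of regular elements then
their projections to a block have the same norms at regular elements. -/
theorem sum_norm_blockPart_eq [Fact p.Prime] {M : Ideal Cfsg.AlgInt} (hM : Cfsg.IsPModular p M)
    {e : Set (Cfsg.IrrCharacter G)} (he : Cfsg.IsPBlock M e) {ι κ : Type*} [Fintype ι] [Fintype κ]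
    (F : ι → G → ℂ) (F' : κ → G → ℂ)
    (h : ∀ c d : G, Cfsg.IsPRegular p c → Cfsg.IsPRegular p d →
      ∑ i, F i c * conj (F i d) = ∑ j, F' j c * conj (F' j d))
    {s : G} (hs : Cfsg.IsPRegular p s) :
    ∑ i, Cfsg.blockPart e (F i) s * conj (Cfsg.blockPart e (F i) s) =
      ∑ j, Cfsg.blockPart e (F' j) s * conj (Cfsg.blockPart e (F' j) s) :=
  sum_blockPart_mul_conj_congr hM he F F' h hs hs

/-- The norm on the regular elements of the `e`-part of a function. -/
noncomputable def regNorm (p : ℕ) (e : Set (Cfsg.IrrCharacter G)) (θ : G → ℂ) : ℂ :=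
  ∑ s : G, Cfsg.pRegularPart p (Cfsg.blockPart e θ) s * conj (Cfsg.blockPart e θ s)

open scoped Classical in
/-- The set of `p`-regular elements. -/
noncomputable def regSet (p : ℕ) : Finset G :=
  Finset.univ.filter fun s => Cfsg.IsPRegular p s

theorem regNorm_eq (e : Set (Cfsg.IrrCharacter G)) (θ : G → ℂ) :
    regNorm p e θ = ∑ s ∈ regSet p, Cfsg.blockPart e θ s * conj (Cfsg.blockPart e θ s) := by
  classical
  rw [regNorm, regSet, Finset.sum_filter]
  refine Finset.sum_congr rfl fun s _ => ?_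
  rw [pRegularPart_apply]
  split_ifs <;> simp

/-- The blocks partition the expansion of a class function. -/
theorem sum_blockPart_blocks {M : Ideal Cfsg.AlgInt} (hM : Cfsg.IsPModular p M)
    [Fintype {B : Set (Cfsg.IrrCharacter G) // Cfsg.IsPBlock M B}] {θ : G → ℂ}
    (hθ : Cfsg.IsClassFunction G θ) (s : G) :
    θ s = ∑ B : {B : Set (Cfsg.IrrCharacter G) // Cfsg.IsPBlock M B}, Cfsg.blockPart B.1 θ s := by
  classical
  let β : Cfsg.IrrCharacter G → {B : Set (Cfsg.IrrCharacter G) // Cfsg.IsPBlock M B} := fun χ =>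
    ⟨Cfsg.blockOf M (χ : G → ℂ), χ, rfl⟩
  conv_lhs => rw [CfsgLib.Char.IsClassFunction.eq_sum_classInner hθ]
  rw [Finset.sum_apply, ← Finset.sum_fiberwise Finset.univ β]
  refine Finset.sum_congr rfl fun B _ => ?_
  rw [blockPart_apply]
  refine Finset.sum_congr ?_ fun ψ _ => rfl
  ext χ
  simp only [Finset.mem_filter, Finset.mem_univ, true_and, Set.mem_toFinset]
  constructor
  · intro h
    rw [← h]
    exact CfsgLib.BlockReg.sameBlock_refl hM _
  · intro h
    exact Subtype.ext (CfsgLib.BlockReg.block_eq_blockOf hM B.2 h).symm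

/-- The norm on the regular elements is the sum over the blocks. -/
theorem sum_regSet_eq_sum_regNorm [Fact p.Prime] {M : Ideal Cfsg.AlgInt}
    (hM : Cfsg.IsPModular p M) [Fintype {B : Set (Cfsg.IrrCharacter G) // Cfsg.IsPBlock M B}]
    {θ : G → ℂ} (hθ : Cfsg.IsClassFunction G θ) :
    ∑ s ∈ regSet p, θ s * conj (θ s) =
      ∑ B : {B : Set (Cfsg.IrrCharacter G) // Cfsg.IsPBlock M B}, regNorm p B.1 θ := by
  classical
  have hcross : ∀ B B' : {B : Set (Cfsg.IrrCharacter G) // Cfsg.IsPBlock M B}, B ≠ B' →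
      ∑ s ∈ regSet p, Cfsg.blockPart B.1 θ s * conj (Cfsg.blockPart B'.1 θ s) = 0 := by
    intro B B' hne
    simp only [blockPart_apply, map_sum, map_mul, Finset.sum_mul, Finset.mul_sum]
    rw [Finset.sum_comm]
    refine Finset.sum_eq_zero fun φ hφ => ?_
    rw [Finset.sum_comm]
    refine Finset.sum_eq_zero fun ψ hψ => ?_
    rw [Set.mem_toFinset] at hψ hφ
    have h0 : ∑ s ∈ regSet (G := G) p, (φ : G → ℂ) s * conj ((ψ : G → ℂ) s) = 0 ∧
        ∑ s ∈ regSet (G := G) p, (ψ : G → ℂ) s * conj ((φ : G → ℂ) s) = 0 := by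
      have horth : ∀ (C : {B : Set (Cfsg.IrrCharacter G) // Cfsg.IsPBlock M B})
          (a b : Cfsg.IrrCharacter G), a ∈ C.1 → b ∉ C.1 →
            ∑ s ∈ regSet (G := G) p, (a : G → ℂ) s * conj ((b : G → ℂ) s) = 0 := by
        intro C a b ha hb
        have h := regClosed_of_isPBlock hM C.2 a ha b hb
        rw [Cfsg.classInner, mul_eq_zero] at h
        have h := h.resolve_left (inv_ne_zero (Nat.cast_ne_zero.mpr Nat.card_pos.ne'))
        rw [regSet, Finset.sum_filter]
        refine (Finset.sum_congr rfl fun s _ => ?_).trans h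
        rw [pRegularPart_apply]
        split_ifs <;> simp
      have hnot : ∀ (C D : {B : Set (Cfsg.IrrCharacter G) // Cfsg.IsPBlock M B}), C ≠ D →
          ∀ a, a ∈ D.1 → a ∉ C.1 := fun C D hCD a haD haC => hCD (Subtype.ext
        ((CfsgLib.BlockReg.block_eq_blockOf hM C.2 haC).trans
          (CfsgLib.BlockReg.block_eq_blockOf hM D.2 haD).symm))
      exact ⟨horth B' φ ψ hφ (hnot B' B (Ne.symm hne) ψ hψ),
        horth B ψ φ hψ (hnot B B' hne φ hφ)⟩
    calc ∑ s ∈ regSet p, Cfsg.classInner θ (ψ : G → ℂ) * (ψ : G → ℂ) s *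
          (conj (Cfsg.classInner θ (φ : G → ℂ)) * conj ((φ : G → ℂ) s))
        = Cfsg.classInner θ (ψ : G → ℂ) * conj (Cfsg.classInner θ (φ : G → ℂ)) *
            ∑ s ∈ regSet p, (ψ : G → ℂ) s * conj ((φ : G → ℂ) s) := by
          rw [Finset.mul_sum]
          exact Finset.sum_congr rfl fun s _ => by ring
      _ = 0 := by rw [h0.2, mul_zero]
  calc ∑ s ∈ regSet p, θ s * conj (θ s)
      = ∑ B : {B : Set (Cfsg.IrrCharacter G) // Cfsg.IsPBlock M B},
          ∑ B' : {B : Set (Cfsg.IrrCharacter G) // Cfsg.IsPBlock M B},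
            ∑ s ∈ regSet p, Cfsg.blockPart B.1 θ s * conj (Cfsg.blockPart B'.1 θ s) := by
        rw [Finset.sum_congr rfl fun s _ => by rw [sum_blockPart_blocks hM hθ s]]
        simp only [map_sum, Finset.sum_mul, Finset.mul_sum]
        conv_rhs => rw [Finset.sum_comm]
        rw [Finset.sum_comm]
        refine Finset.sum_congr rfl fun B _ => ?_
        rw [Finset.sum_comm]
    _ = _ := by
        refine Finset.sum_congr rfl fun B _ => ?_
        rw [Finset.sum_eq_single B (fun B' _ hne => hcross B B' (Ne.symm hne)) (by simp),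
          regNorm_eq]

section Section

variable {M : Ideal Cfsg.AlgInt}

omit [Fintype G] in
theorem isClassFunction_translate {C : Subgroup G} {x : G} (hC : C = Subgroup.centralizer {x})
    (χ : Cfsg.IrrCharacter G) : Cfsg.IsClassFunction C (fun c : C => (χ : G → ℂ) (x * c)) := by
  intro c d
  have hd : (d : G) * x = x * d :=
    Subgroup.mem_centralizer_singleton_iff.mp (hC ▸ d.2 : (d : G) ∈ Subgroup.centralizer {x})
  simp only [Subgroup.coe_mul, InvMemClass.coe_inv]
  rw [← mul_assoc, ← mul_assoc, ← hd, mul_assoc (d : G) x]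
  exact CfsgLib.Char.IsIrrCharacter.isClassFunction χ.2 (x * (c : G)) (d : G)

theorem sum_translate_mul_conj [Fact p.Prime] {C : Subgroup G} {x : G}
    (hC : C = Subgroup.centralizer {x}) (hx : ∃ k : ℕ, orderOf x = p ^ k) [Fintype C] (c d : C)
    (hc : Cfsg.IsPRegular p c) (hd : Cfsg.IsPRegular p d) :
    ∑ χ : Cfsg.IrrCharacter G, (χ : G → ℂ) (x * c) * conj ((χ : G → ℂ) (x * d)) =
      ∑ φ : Cfsg.IrrCharacter C, (φ : C → ℂ) c * conj ((φ : C → ℂ) d) := by
  classical
  obtain ⟨k, hk⟩ := hx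
  have hp : p.Prime := Fact.out
  have hmem : ∀ y : G, y ∈ C ↔ Commute y x := fun y => by
    rw [hC, Subgroup.mem_centralizer_singleton_iff]
    exact Iff.rfl
  have hxc : ∀ c : C, Commute x (c : G) := fun c => ((hmem c).mp c.2).symm
  have hpart : ∀ c : C, Cfsg.IsPRegular p c → Cfsg.IsPPart p (x * (c : G)) x := fun c hc =>
    CfsgLib.Blocks.isPPart_of_commute (hxc c) hk (by rwa [Subgroup.orderOf_coe])
  rw [CfsgLib.Char.sum_mul_conj, CfsgLib.Char.sum_mul_conj]
  have hfix : ∀ (a b : C), Cfsg.IsPRegular p a → Cfsg.IsPRegular p b → ∀ g : G,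
      g * (x * (a : G)) * g⁻¹ = x * b → g ∈ C := by
    intro a b ha hb g hg
    have h1 := CfsgLib.Blocks.IsPPart.conj (hpart a ha) g
    rw [hg] at h1
    have h2 := CfsgLib.Blocks.IsPPart.unique hp h1 (hpart b hb)
    exact (hmem g).mpr (mul_inv_eq_iff_eq_mul.mp h2)
  by_cases hcd : IsConj c d
  · have h1 : IsConj (x * (c : G)) (x * (d : G)) := by
      obtain ⟨t, ht⟩ := isConj_iff.mp hcd
      refine isConj_iff.mpr ⟨(t : G), ?_⟩
      rw [← ht]
      simp only [Subgroup.coe_mul, InvMemClass.coe_inv]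
      rw [← mul_assoc, ← (hxc t).eq]
      group
    rw [if_pos h1, if_pos hcd]
    refine congrArg Nat.cast (Nat.card_congr
      { toFun := fun t => ⟨⟨(t : G), hfix c c hc hc t (by
            rw [Subgroup.mem_centralizer_singleton_iff.mp t.2, mul_inv_cancel_right])⟩, ?_⟩
        invFun := fun t => ⟨(t : C), ?_⟩
        left_inv := fun t => rfl
        right_inv := fun t => rfl })
    · have ht := Subgroup.mem_centralizer_singleton_iff.mp t.2
      have htC : (t : G) ∈ C :=
        hfix c c hc hc t (by rw [ht, mul_inv_cancel_right])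
      rw [Subgroup.mem_centralizer_singleton_iff]
      refine Subtype.ext ?_
      rw [← mul_assoc, ((hmem t).mp htC).eq, mul_assoc, mul_assoc] at ht
      simpa using mul_left_cancel ht
    · rw [Subgroup.mem_centralizer_singleton_iff]
      have ht : ((t : C) : G) * c = c * (t : C) :=
        congrArg Subtype.val (Subgroup.mem_centralizer_singleton_iff.mp t.2)
      rw [← mul_assoc, ← (hxc (t : C)).eq, mul_assoc, ht, mul_assoc]
  · rw [if_neg hcd, if_neg]
    intro h
    obtain ⟨g, hg⟩ := isConj_iff.mp h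
    have hgC := hfix c d hc hd g hg
    refine hcd (isConj_iff.mpr ⟨⟨g, hgC⟩, Subtype.ext ?_⟩)
    simp only [Subgroup.coe_mul, InvMemClass.coe_inv]
    rw [← mul_assoc, ((hmem g).mp hgC).eq, mul_assoc x, mul_assoc x] at hg
    exact mul_left_cancel hg

/-- The sum over all irreducible characters of the norms of a subsection. -/
theorem sum_regNorm_translate [Fact p.Prime] (hM : Cfsg.IsPModular p M) {C : Subgroup G} {x : G}
    (hC : C = Subgroup.centralizer {x}) (hx : ∃ k : ℕ, orderOf x = p ^ k) [Fintype C]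
    {e : Set (Cfsg.IrrCharacter C)} (he : Cfsg.IsPBlock M e) :
    ∑ χ : Cfsg.IrrCharacter G, regNorm p e (fun c : C => (χ : G → ℂ) (x * c)) =
      (Nat.card C : ℂ) * Cfsg.blockRank p e := by
  classical
  have := Fintype.ofFinite e
  simp only [regNorm_eq]
  rw [Finset.sum_comm, Finset.sum_congr (s₁ := regSet p) rfl fun s hs => sum_norm_blockPart_eq hM he
    (fun (χ : Cfsg.IrrCharacter G) (c : C) => (χ : G → ℂ) (x * c))
    (fun φ : Cfsg.IrrCharacter C => (φ : C → ℂ))
    (fun c d hc hd => sum_translate_mul_conj hC hx c d hc hd) (Finset.mem_filter.mp hs).2]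
  rw [Finset.sum_comm, cast_blockRank_eq e (regClosed_of_isPBlock hM he), Finset.mul_sum,
    ← Finset.sum_subtype e.toFinset (fun y => Set.mem_toFinset)
      (fun φ : Cfsg.IrrCharacter C => (Nat.card C : ℂ) *
        Cfsg.classInner (Cfsg.pRegularPart p (φ : C → ℂ)) (φ : C → ℂ))]
  refine (Finset.sum_subset (Finset.subset_univ _) fun φ _ hφ => ?_).symm.trans
    (Finset.sum_congr rfl fun φ hφ => ?_)
  · exact Finset.sum_eq_zero fun s _ => by
      rw [blockPart_irr, if_neg (fun h => hφ (Set.mem_toFinset.mpr h)), zero_mul]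
  · rw [Cfsg.classInner, ← mul_assoc,
      mul_inv_cancel₀ (Nat.cast_ne_zero.mpr Nat.card_pos.ne'), one_mul, regSet, Finset.sum_filter]
    refine Finset.sum_congr rfl fun s _ => ?_
    rw [pRegularPart_apply, blockPart_irr, if_pos (Set.mem_toFinset.mp hφ)]
    split_ifs <;> simp

theorem exists_isInducedBlock_centralizer [Fact p.Prime] (hM : Cfsg.IsPModular p M)
    {C : Subgroup G} {x : G} (hC : C = Subgroup.centralizer {x})
    (hx : ∃ k : ℕ, orderOf x = p ^ k) {e : Set (Cfsg.IrrCharacter C)} (he : Cfsg.IsPBlock M e) :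
    ∃ B : Set (Cfsg.IrrCharacter G), Cfsg.IsInducedBlock M C e B := by
  subst hC
  have : M.IsMaximal := hM.2.1
  exact Cfsg.Agent.S0923.inducedBlockDefined_centralizer p M hM.1 hM.2.2 x hx e he

/-- Second main theorem: only the characters of the induced block have a nonzero norm. -/
theorem regNorm_translate_eq_zero [Fact p.Prime] (hM : Cfsg.IsPModular p M) {C : Subgroup G}
    {x : G} (hC : C = Subgroup.centralizer {x}) (hx : ∃ k : ℕ, orderOf x = p ^ k) [Fintype C]
    {e : Set (Cfsg.IrrCharacter C)} (he : Cfsg.IsPBlock M e) {B : Set (Cfsg.IrrCharacter G)}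
    (hind : Cfsg.IsInducedBlock M C e B) {χ : Cfsg.IrrCharacter G} (hχ : χ ∉ B) :
    regNorm p e (fun c : C => (χ : G → ℂ) (x * c)) = 0 := by
  classical
  subst hC
  rw [regNorm]
  refine Finset.sum_eq_zero fun y _ => ?_
  by_cases hy : Cfsg.IsPRegular p y
  · have h := Cfsg.Agent.S0923.result p M hM x hx (Cfsg.blockOf M (χ : G → ℂ)) ⟨χ, rfl⟩ χ
      (CfsgLib.BlockReg.sameBlock_refl hM _) e he (fun hind' => hχ (by
        have : M.IsMaximal := hM.2.1
        rw [CfsgLib.Blocks.IsInducedBlock.unique hind hind']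
        exact CfsgLib.BlockReg.sameBlock_refl hM _)) y hy
    rw [pRegularPart_apply, if_pos hy, h, zero_mul]
  · rw [pRegularPart_apply, if_neg hy, zero_mul]

/-- The norms of a subsection over its induced block. -/
theorem sum_regNorm_translate_block [Fact p.Prime] (hM : Cfsg.IsPModular p M) {C : Subgroup G}
    {x : G} (hC : C = Subgroup.centralizer {x}) (hx : ∃ k : ℕ, orderOf x = p ^ k) [Fintype C]
    {e : Set (Cfsg.IrrCharacter C)} (he : Cfsg.IsPBlock M e) {B : Set (Cfsg.IrrCharacter G)}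
    [Fintype B] (hind : Cfsg.IsInducedBlock M C e B) :
    ∑ χ ∈ B.toFinset, regNorm p e (fun c : C => (χ : G → ℂ) (x * c)) =
      (Nat.card C : ℂ) * Cfsg.blockRank p e := by
  rw [← sum_regNorm_translate hM hC hx he]
  exact Finset.sum_subset (Finset.subset_univ _) fun χ _ hχ =>
    regNorm_translate_eq_zero hM hC hx he hind (fun h => hχ (Set.mem_toFinset.mpr h))

/-- One `p`-section of a block. -/
theorem sum_section_eq [Fact p.Prime] (hM : Cfsg.IsPModular p M) {C : Subgroup G}
    {x : G} (hC : C = Subgroup.centralizer {x}) (hx : ∃ k : ℕ, orderOf x = p ^ k) [Fintype C]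
    {B : Set (Cfsg.IrrCharacter G)} [Fintype B] (hB : Cfsg.IsPBlock M B) :
    ∑ χ ∈ B.toFinset, ∑ s ∈ regSet p, (χ : G → ℂ) (x * (s : C)) * conj ((χ : G → ℂ) (x * (s : C))) =
      (Nat.card C : ℂ) *
        ((∑ᶠ e ∈ {e : Set (Cfsg.IrrCharacter C) | Cfsg.IsInducedBlock M C e B},
          Cfsg.blockRank p e : ℕ) : ℂ) := by
  classical
  have := Fintype.ofFinite {e : Set (Cfsg.IrrCharacter C) // Cfsg.IsPBlock M e}
  have hmax : M.IsMaximal := hM.2.1
  rw [Finset.sum_congr rfl fun χ _ => sum_regSet_eq_sum_regNorm (p := p) hM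
    (isClassFunction_translate hC χ), Finset.sum_comm]
  have hterm : ∀ e : {e : Set (Cfsg.IrrCharacter C) // Cfsg.IsPBlock M e},
      ∑ χ ∈ B.toFinset, regNorm p e.1 (fun c : C => (χ : G → ℂ) (x * c)) =
        if Cfsg.IsInducedBlock M C e.1 B then (Nat.card C : ℂ) * Cfsg.blockRank p e.1 else 0 := by
    intro e
    split_ifs with h
    · exact sum_regNorm_translate_block hM hC hx e.2 h
    · obtain ⟨B', hB'⟩ := exists_isInducedBlock_centralizer hM hC hx e.2
      refine Finset.sum_eq_zero fun χ hχ => ?_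
      refine regNorm_translate_eq_zero hM hC hx e.2 hB' fun hχ' => h ?_
      rwa [CfsgLib.Blocks.IsPBlock.eq_of_mem hB hB'.2.1 (Set.mem_toFinset.mp hχ) hχ']
  have hfin : {e : Set (Cfsg.IrrCharacter C) | Cfsg.IsInducedBlock M C e B}.Finite :=
    Set.toFinite _
  rw [Finset.sum_congr rfl fun e _ => hterm e, finsum_mem_eq_finite_toFinset_sum _ hfin,
    Nat.cast_sum, Finset.mul_sum, ← Finset.sum_filter]
  refine Finset.sum_bij (fun a _ => a.1) (fun a ha => hfin.mem_toFinset.mpr (Finset.mem_filter.mp ha).2)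
    (fun a _ b _ h => Subtype.ext h)
    (fun e he => ⟨⟨e, (hfin.mem_toFinset.mp he).1⟩,
      Finset.mem_filter.mpr ⟨Finset.mem_univ _, hfin.mem_toFinset.mp he⟩, rfl⟩) fun a _ => rfl

/-- The sum of a class function over the `p`-section of `x`, up to the class size. -/
noncomputable def sectionSum (p : ℕ) (f : G → ℂ) (x : G) : ℂ :=
  open scoped Classical in
  ∑ y ∈ Finset.univ.filter (fun y => Commute x y ∧ Cfsg.IsPRegular p y), f (x * y)

theorem sectionSum_eq_sum_regSet (f : G → ℂ) {C : Subgroup G} {x : G}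
    (hC : C = Subgroup.centralizer {x}) [Fintype C] :
    sectionSum p f x = ∑ s ∈ regSet (G := C) p, f (x * (s : C)) := by
  classical
  have hmem : ∀ y : G, y ∈ C ↔ Commute x y := fun y => by
    rw [hC, Subgroup.mem_centralizer_singleton_iff]
    exact eq_comm
  rw [sectionSum]
  refine (Finset.sum_bij (fun (s : C) _ => (s : G)) (fun s hs => ?_)
    (fun a _ b _ h => Subtype.ext h) (fun y hy => ?_) fun s _ => rfl).symm
  · simp only [regSet, Finset.mem_filter, Finset.mem_univ, true_and] at hs ⊢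
    exact ⟨(hmem s).mp s.2, by unfold Cfsg.IsPRegular at hs ⊢; rwa [Subgroup.orderOf_coe]⟩
  · simp only [Finset.mem_filter, Finset.mem_univ, true_and] at hy
    refine ⟨⟨y, (hmem y).mpr hy.1⟩, ?_, rfl⟩
    simp only [regSet, Finset.mem_filter, Finset.mem_univ, true_and]
    have h := hy.2
    unfold Cfsg.IsPRegular at h ⊢
    rwa [Subgroup.orderOf_mk]

theorem sectionSum_conj {f : G → ℂ} (hf : Cfsg.IsClassFunction G f) (g x : G) :
    sectionSum p f (g * x * g⁻¹) = sectionSum p f x := by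
  classical
  unfold sectionSum
  symm
  refine Finset.sum_equiv (MulAut.conj g).toEquiv (fun y => ?_) fun y _ => ?_
  · have h1 : Commute (g * x * g⁻¹) (g * y * g⁻¹) ↔ Commute x y :=
      ⟨fun h => by simpa [mul_assoc] using h.map (MulAut.conj g⁻¹),
        fun h => h.map (MulAut.conj g)⟩
    simp only [Finset.mem_filter, Finset.mem_univ, true_and, MulEquiv.toEquiv_eq_coe,
      EquivLike.coe_coe, MulAut.conj_apply, h1, isPRegular_conj]
  · simp only [MulEquiv.toEquiv_eq_coe, EquivLike.coe_coe, MulAut.conj_apply]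
    rw [show g * x * g⁻¹ * (g * y * g⁻¹) = g * (x * y) * g⁻¹ by group, hf]

/-- Decomposition of a sum over the group into the `p`-sections. -/
theorem sum_eq_sum_sectionSum [Fact p.Prime] {f : G → ℂ} (hf : Cfsg.IsClassFunction G f)
    (X : Finset G) (hX : ∀ x ∈ X, ∃ k : ℕ, orderOf x = p ^ k)
    (hXrep : ∀ g : G, (∃ k : ℕ, orderOf g = p ^ k) → ∃! x, x ∈ X ∧ IsConj g x) :
    ∑ g, f g = ∑ x ∈ X, (Nat.card {y : G // IsConj x y} : ℂ) * sectionSum p f x := by
  classical
  have hp : p.Prime := Fact.out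
  choose π hπ using fun g : G => CfsgLib.Blocks.exists_isPPart hp g
  have hπp : ∀ g, ∃ k : ℕ, orderOf (π g) = p ^ k := fun g => by
    obtain ⟨y, -, -, hk, -⟩ := hπ g
    exact hk
  choose ρ hρ using fun g : G => (hXrep (π g) (hπp g)).exists
  have hρu : ∀ (g : G) (x : G), x ∈ X → IsConj (π g) x → ρ g = x := fun g x hx hgx =>
    (hXrep (π g) (hπp g)).unique (hρ g) ⟨hx, hgx⟩
  rw [← Finset.sum_fiberwise_of_maps_to (t := X) (g := ρ) fun g _ => (hρ g).1]
  refine Finset.sum_congr rfl fun x hx => ?_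
  rw [← Finset.sum_fiberwise_of_maps_to (t := Finset.univ.filter fun y => IsConj x y) (g := π)
    fun g hg => by
      simp only [Finset.mem_filter, Finset.mem_univ, true_and] at hg ⊢
      exact hg ▸ (hρ g).2.symm]
  rw [Finset.sum_congr rfl (g := fun _ => sectionSum p f x), Finset.sum_const, nsmul_eq_mul,
    Nat.card_eq_fintype_card, Fintype.card_subtype]
  intro y hy
  simp only [Finset.mem_filter, Finset.mem_univ, true_and] at hy
  obtain ⟨c, hc⟩ := isConj_iff.mp hy
  have hyp : ∃ k : ℕ, orderOf y = p ^ k := by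
    obtain ⟨k, hk⟩ := hX x hx
    exact ⟨k, by rw [← hc, ← hk]; exact MulEquiv.orderOf_eq (MulAut.conj c) x⟩
  rw [← sectionSum_conj hf c x, hc, sectionSum]
  symm
  obtain ⟨k, hk⟩ := hyp
  refine Finset.sum_bij (fun z _ => y * z) (fun z hz => ?_) (fun a _ b _ h => mul_left_cancel h)
    (fun g hg => ?_) fun z _ => rfl
  · simp only [Finset.mem_filter, Finset.mem_univ, true_and] at hz ⊢
    have h1 := CfsgLib.Blocks.isPPart_of_commute hz.1 hk hz.2
    have h2 : π (y * z) = y := CfsgLib.Blocks.IsPPart.unique hp (hπ _) h1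
    exact ⟨hρu _ x hx (h2.symm ▸ hy.symm), h2⟩
  · simp only [Finset.mem_filter, Finset.mem_univ, true_and] at hg
    obtain ⟨z, hz1, hz2, -, hz3⟩ := hπ g
    rw [hg.2] at hz1 hz2
    exact ⟨z, Finset.mem_filter.mpr ⟨Finset.mem_univ _, hz2, hz3⟩, hz1⟩

/-- Brauer's count of the characters of a block. -/
theorem card_eq_sum_sections [Fact p.Prime] (hM : Cfsg.IsPModular p M)
    {B : Set (Cfsg.IrrCharacter G)} (hB : Cfsg.IsPBlock M B) (X : Finset G)
    (hX : ∀ x ∈ X, ∃ k : ℕ, orderOf x = p ^ k)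
    (hXrep : ∀ g : G, (∃ k : ℕ, orderOf g = p ^ k) → ∃! x, x ∈ X ∧ IsConj g x) :
    Nat.card B = ∑ x ∈ X,
      ∑ᶠ b ∈ {b : Set (Cfsg.IrrCharacter (Subgroup.centralizer ({x} : Set G))) |
        Cfsg.IsInducedBlock M (Subgroup.centralizer ({x} : Set G)) b B}, Cfsg.blockRank p b := by
  classical
  have := Fintype.ofFinite B
  let f : G → ℂ := fun g => ∑ χ ∈ B.toFinset, (χ : G → ℂ) g * conj ((χ : G → ℂ) g)
  have hf : Cfsg.IsClassFunction G f := fun g h => Finset.sum_congr rfl fun χ _ => by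
    rw [CfsgLib.Char.IsIrrCharacter.isClassFunction χ.2 g h]
  have hsum : ∑ g, f g = (Nat.card G : ℂ) * Nat.card B := by
    have h1 : ∀ χ : Cfsg.IrrCharacter G,
        ∑ g, (χ : G → ℂ) g * conj ((χ : G → ℂ) g) = (Nat.card G : ℂ) := fun χ => by
      have h := CfsgLib.Char.classInner_irr_self χ.2
      rw [Cfsg.classInner, inv_mul_eq_iff_eq_mul₀ (Nat.cast_ne_zero.mpr Nat.card_pos.ne'),
        mul_one] at h
      exact h
    rw [Finset.sum_comm, Finset.sum_congr rfl fun χ _ => h1 χ, Finset.sum_const,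
      Set.toFinset_card, ← Nat.card_eq_fintype_card, nsmul_eq_mul, mul_comm]
  rw [sum_eq_sum_sectionSum (p := p) hf X hX hXrep] at hsum
  apply Nat.cast_injective (R := ℂ)
  rw [← mul_right_inj' (Nat.cast_ne_zero.mpr Nat.card_pos.ne' : (Nat.card G : ℂ) ≠ 0), ← hsum,
    Nat.cast_sum, Finset.mul_sum]
  refine Finset.sum_congr rfl fun x hx => ?_
  have := Fintype.ofFinite (Subgroup.centralizer ({x} : Set G))
  rw [sectionSum_eq_sum_regSet f rfl, Finset.sum_comm, sum_section_eq hM rfl (hX x hx) hB,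
    ← mul_assoc, ← Nat.cast_mul]
  congr 2
  rw [← CfsgLib.Char.card_isConj_mul_card_centralizer x]

theorem blockPart_conj_inv (e : Set (Cfsg.IrrCharacter G)) {F F' : G → ℂ}
    (h : ∀ c, F' c = conj (F c⁻¹)) (s : G) :
    Cfsg.blockPart e F' s⁻¹ = conj (Cfsg.blockPart e F s) := by
  classical
  have := Fintype.ofFinite e
  simp only [blockPart_apply, map_sum, map_mul]
  refine Finset.sum_congr rfl fun ψ _ => ?_
  rw [CfsgLib.Char.IsIrrCharacter.apply_inv ψ.2]
  congr 1
  simp only [Cfsg.classInner, map_mul, map_inv₀, map_natCast, map_sum, Complex.conj_conj]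
  congr 1
  refine Fintype.sum_equiv (Equiv.inv G) _ _ fun c => ?_
  rw [Equiv.inv_apply, h c, CfsgLib.Char.IsIrrCharacter.apply_inv ψ.2]

/-- A Brauer element of `B` lies in a block inducing `B`. -/
theorem isInducedBlock_of_brauerOmega [Fact p.Prime] (hM : Cfsg.IsPModular p M) {P : Subgroup G}
    {x : G} (hC : Subgroup.centralizer (P : Set G) = Subgroup.centralizer {x})
    (hx : ∃ k : ℕ, orderOf x = p ^ k)
    {B : Set (Cfsg.IrrCharacter G)} (hB : Cfsg.IsPBlock M B)
    {e : Set (Cfsg.IrrCharacter (Subgroup.centralizer (P : Set G)))} (he : Cfsg.IsPBlock M e)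
    (h : ∀ ξ ∈ e, Cfsg.MemLocalIdeal M (Cfsg.brauerOmega P (Cfsg.blockCoeff B)
      (ξ : Subgroup.centralizer (P : Set G) → ℂ) - 1)) :
    Cfsg.IsInducedBlock M (Subgroup.centralizer (P : Set G)) e B := by
  classical
  have hmax : M.IsMaximal := hM.2.1
  obtain ⟨B', hB'⟩ := exists_isInducedBlock_centralizer hM hC hx he
  obtain ⟨ξ, hξ⟩ := CfsgLib.Blocks.IsPBlock.nonempty he
  have h0 := CfsgLib.Blocks.IsInducedBlock.lam_resCenter_blockIdem hB' hB hξ
  rw [CfsgLib.Blocks.blockIdem, ← CfsgLib.Blocks.mapCenter_resCenter,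
    CfsgLib.Blocks.lam_mapCenter] at h0
  have h1 : Cfsg.brauerOmega P (Cfsg.blockCoeff B) (ξ : Subgroup.centralizer (P : Set G) → ℂ) =
      ((CfsgLib.Blocks.lamR M ξ (CfsgLib.Blocks.resCenter _ (CfsgLib.Blocks.blockIdemR hB)) :
        CfsgLib.Blocks.locRing M) : ℂ) := by
    have := Fintype.ofFinite (Subgroup.centralizer (P : Set G))
    rw [CfsgLib.Blocks.coe_lamR, CfsgLib.Blocks.omega_eq_sum, Cfsg.brauerOmega,
      finsum_eq_sum_of_fintype, Finset.sum_div]
    refine Finset.sum_congr rfl fun c _ => ?_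
    simp [CfsgLib.Blocks.coe_mapCenter, CfsgLib.Blocks.coe_coeff_blockIdemR]
  have h2 := h ξ hξ
  rw [h1, ← OneMemClass.coe_one (CfsgLib.Blocks.locRing M), CfsgLib.Blocks.memLocalIdeal_sub_iff,
    map_one, h0] at h2
  split_ifs at h2 with heq
  · rwa [← heq]
  · exact absurd h2.symm one_ne_zero

/-- Subsection norms of a Brauer element. -/
theorem sum_subsection_norms [Fact p.Prime] (hM : Cfsg.IsPModular p M) {C : Subgroup G} {u : G}
    (hC : C = Subgroup.centralizer {u}) (hu : ∃ k : ℕ, orderOf u = p ^ k)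
    {e : Set (Cfsg.IrrCharacter C)} {B : Set (Cfsg.IrrCharacter G)}
    (hind : Cfsg.IsInducedBlock M C e B) :
    ∑ᶠ χ ∈ B, ∑ᶠ s : C,
        Cfsg.pRegularPart p (Cfsg.blockPart e (fun c : C => (χ : G → ℂ) (u * c))) s *
          Cfsg.blockPart e (fun c : C => (χ : G → ℂ) (u⁻¹ * c)) s⁻¹ =
      (Nat.card C : ℂ) * Cfsg.blockRank p e := by
  classical
  have := Fintype.ofFinite B
  have := Fintype.ofFinite C
  rw [← sum_regNorm_translate_block hM hC hu hind.1 hind, finsum_mem_eq_toFinset_sum]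
  refine Finset.sum_congr rfl fun χ _ => ?_
  rw [finsum_eq_sum_of_fintype, regNorm]
  refine Finset.sum_congr rfl fun s _ => ?_
  congr 1
  refine blockPart_conj_inv e (fun c => ?_) s
  have hcu : (c : G) * u = u * c :=
    Subgroup.mem_centralizer_singleton_iff.mp (hC ▸ c.2 : (c : G) ∈ Subgroup.centralizer {u})
  show (χ : G → ℂ) (u⁻¹ * c) = conj ((χ : G → ℂ) (u * ((c⁻¹ : C) : G)))
  rw [← CfsgLib.Char.IsIrrCharacter.apply_inv χ.2, InvMemClass.coe_inv, mul_inv_rev, inv_inv]
  exact congrArg _ (Commute.inv_right (hcu : Commute (c : G) u)).eq.symm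

end Section

end CfsgLib.BlockRank
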