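import Cfsg.Agent.Lib.BlockRank.AbelianSections
import Cfsg.Agent.Lib.Blocks.Pairs.Inertial

/-!
Counting the characters of a block with abelian defect group and freely acting inertial quotient.
-/

set_option autoImplicit false
set_option maxHeartbeats 800000
set_option synthInstance.maxHeartbeats 400000

open Cfsg CfsgLib.Blocks CfsgLib.Blocks.Pairs
open scoped Classical

namespace CfsgLib.BlockRank

universe u

variable {G : Type u} [Group G] [Finite G] {p : ℕ} [Fact p.Prime] {M : Ideal AlgInt} [M.IsMaximal]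
  [CharP (ResField M) p]

/-- The free orbits of a subgroup have as many elements as its index over the kernel. -/
theorem card_orbit_free {S C : Subgroup G} (hC : C ≤ S) (a : G)
    (hfix : ∀ y ∈ S, y * a * y⁻¹ = a ↔ y ∈ C) :
    Nat.card (Set.range fun y : S => (y : G) * a * (y : G)⁻¹) = C.relIndex S := by
  rw [Subgroup.relIndex, Subgroup.index]
  refine (Nat.card_congr (Equiv.ofBijective (Quotient.lift
    (fun y : S => (⟨(y : G) * a * (y : G)⁻¹, y, rfl⟩ :
      Set.range fun y : S => (y : G) * a * (y : G)⁻¹)) fun y y' h => ?_) ⟨?_, ?_⟩)).symm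
  · have h' : y⁻¹ * y' ∈ C.subgroupOf S := QuotientGroup.leftRel_apply.1 h
    have h2 := (hfix _ (y⁻¹ * y').2).2 h'
    refine Subtype.ext ?_
    simp only [Subgroup.coe_mul, Subgroup.coe_inv] at h2
    calc (y : G) * a * (y : G)⁻¹
        = (y : G) * ((y : G)⁻¹ * y' * a * ((y : G)⁻¹ * y')⁻¹) * (y : G)⁻¹ := by rw [h2]
      _ = _ := by group
  · rintro ⟨y⟩ ⟨y'⟩ h
    refine Quotient.sound (QuotientGroup.leftRel_apply.2 ((hfix _ (y⁻¹ * y').2).1 ?_))
    have h2 : (y : G) * a * (y : G)⁻¹ = (y' : G) * a * (y' : G)⁻¹ := congrArg Subtype.val h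
    simp only [Subgroup.coe_mul, Subgroup.coe_inv]
    calc (y : G)⁻¹ * y' * a * ((y : G)⁻¹ * y')⁻¹
        = (y : G)⁻¹ * ((y' : G) * a * (y' : G)⁻¹) * y := by group
      _ = (y : G)⁻¹ * ((y : G) * a * (y : G)⁻¹) * y := by rw [h2]
      _ = a := by group
  · rintro ⟨_, y, rfl⟩
    exact ⟨⟦y⟧, rfl⟩

/-- With a freely acting inertial quotient of order `n` there are `(|P| - 1)/n` sections of rank
one besides the trivial one. -/
theorem exists_card_of_free (hM : Cfsg.IsPModular p M) {B : Set (Cfsg.IrrCharacter G)}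
    (hB : Cfsg.IsPBlock M B) {P : Subgroup G} {e : MonoidAlgebra (ResField M) G}
    (hP : PairOf p (ebar hB) P e) (hno : NoExt p P e) (hab : ∀ x ∈ P, ∀ y ∈ P, x * y = y * x)
    (hfree : Free P (pairStab P e)) :
    ∃ m : ℕ, Nat.card B = Cfsg.blockRank p B + m ∧
      Nat.card P = 1 + (Subgroup.centralizer (P : Set G)).relIndex (pairStab P e) * m := by
  haveI := Fintype.ofFinite G
  obtain ⟨T, φ, hk, hφP, hsurj, hinj, hone, hloc⟩ := exists_sections hM hB hP hno hab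
  set S := pairStab P e with hS
  set C := Subgroup.centralizer (P : Set G) with hC
  have hCS : C ≤ S := fun c hc =>
    ⟨Subgroup.centralizer_le_normalizer _ hc, conjFixed_iff.mp hP.pair.block.mem.fixed c hc⟩
  obtain ⟨s₀, hs₀, y₀, -, hy₀⟩ := hsurj 1 (one_mem P)
  have hs₀1 : φ s₀ = 1 := by
    calc φ s₀ = y₀⁻¹ * (y₀ * φ s₀ * y₀⁻¹) * y₀ := by group
      _ = 1 := by rw [hy₀]; group
  have hne : ∀ s ∈ T.erase s₀, φ s ≠ 1 := by
    intro s hs h1
    refine (Finset.mem_erase.1 hs).1 (hinj s (Finset.mem_erase.1 hs).2 s₀ hs₀ 1 (one_mem S) ?_)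
    rw [h1, hs₀1]; simp
  have hfix : ∀ s ∈ T.erase s₀, ∀ y ∈ S, y * φ s * y⁻¹ = φ s → y ∈ C := fun s hs y hy h =>
    hfree y hy _ (hφP s (Finset.mem_erase.1 hs).2) (hne s hs) h
  refine ⟨(T.erase s₀).card, ?_, ?_⟩
  · rw [hk, ← Finset.add_sum_erase T _ hs₀, hone s₀ hs₀ hs₀1,
      Finset.sum_congr rfl fun s hs => (hloc s (Finset.mem_erase.1 hs).2).2.2.2 (hfix s hs),
      Finset.card_eq_sum_ones]
  let O : (Σ x : G, Set (Cfsg.IrrCharacter (Subgroup.centralizer ({x} : Set G)))) → Finset G :=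
    fun s => (Set.range fun y : S => (y : G) * φ s * (y : G)⁻¹).toFinset
  have hO : ∀ s x, x ∈ O s ↔ ∃ y ∈ S, y * φ s * y⁻¹ = x := fun s x => by simp [O]
  have hPO : (Finset.univ.filter fun x : G => x ∈ P) = T.biUnion O := by
    ext x
    simp only [Finset.mem_filter, Finset.mem_univ, true_and, Finset.mem_biUnion, hO]
    constructor
    · intro hx
      obtain ⟨s, hs, y, hy, h⟩ := hsurj x hx
      exact ⟨s, hs, y, hy, h⟩
    · rintro ⟨s, hs, y, hy, rfl⟩
      exact (Subgroup.mem_normalizer_iff.1 hy.1 _).1 (hφP s hs)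
  have hdisj : (T : Set (Σ x : G, Set (Cfsg.IrrCharacter
      (Subgroup.centralizer ({x} : Set G))))).PairwiseDisjoint O := by
    intro s₁ h₁ s₂ h₂ hne'
    rw [Function.onFun, Finset.disjoint_left]
    intro x hx1 hx2
    obtain ⟨y₁, hy₁, e₁⟩ := (hO _ _).1 hx1
    obtain ⟨y₂, hy₂, e₂⟩ := (hO _ _).1 hx2
    refine hne' (hinj s₁ h₁ s₂ h₂ (y₂⁻¹ * y₁) (mul_mem (inv_mem hy₂) hy₁) ?_)
    calc y₂⁻¹ * y₁ * φ s₁ * (y₂⁻¹ * y₁)⁻¹ = y₂⁻¹ * (y₁ * φ s₁ * y₁⁻¹) * y₂ := by group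
      _ = φ s₂ := by rw [e₁, ← e₂]; group
  have hO0 : (O s₀).card = 1 := by
    rw [Finset.card_eq_one]
    refine ⟨1, Finset.ext fun x => ?_⟩
    rw [hO, Finset.mem_singleton, hs₀1]
    exact ⟨fun ⟨y, _, h⟩ => by rw [← h]; group, fun h => ⟨1, one_mem S, by rw [h]; group⟩⟩
  have hcard : Nat.card P = ∑ s ∈ T, (O s).card := by
    rw [← Finset.card_biUnion hdisj, ← hPO, Nat.card_eq_fintype_card, ← Fintype.card_subtype]
  rw [hcard, ← Finset.add_sum_erase T _ hs₀, hO0,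
    Finset.sum_congr rfl (g := fun _ => C.relIndex S) fun s hs => ?_, Finset.sum_const,
    smul_eq_mul, mul_comm]
  rw [← card_orbit_free hCS (φ s) fun y hy => ⟨hfix s hs y hy, fun hy' => ?_⟩,
    Nat.card_eq_card_toFinset]
  rw [← Subgroup.mem_centralizer_iff.1 hy' _ (hφP s (Finset.mem_erase.1 hs).2),
    mul_inv_cancel_right]

end CfsgLib.BlockRank
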