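import Cfsg.Agent.Lib.BlockRank.NilpotentAbelian

/-!
Major subsections of blocks with abelian defect group; no character of the block vanishes on one.
-/

set_option autoImplicit false
set_option maxHeartbeats 1600000
set_option synthInstance.maxHeartbeats 400000

open Cfsg CfsgLib.Blocks CfsgLib.Blocks.Pairs
open scoped Classical
open scoped ComplexConjugate

namespace CfsgLib.BlockRank

universe u

open CfsgLib.BlockReg

variable {G : Type u} [Group G] [Finite G] {p : ℕ} [Fact p.Prime] {M : Ideal AlgInt}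

/-- Every element of an abelian defect group carries a major subsection. -/
theorem exists_major [M.IsMaximal] [CharP (ResField M) p] (hM : Cfsg.IsPModular p M)
    {B : Set (Cfsg.IrrCharacter G)} (hB : Cfsg.IsPBlock M B) {P : Subgroup G}
    (hD : Cfsg.IsDefectGroup p M B P) (hab : ∀ x ∈ P, ∀ y ∈ P, x * y = y * x) {u : G}
    (hu : u ∈ P) :
    ∃ b, Cfsg.IsInducedBlock M (Subgroup.centralizer ({u} : Set G)) b B ∧
      Cfsg.blockDefect p b = Cfsg.blockDefect p B := by
  have hmax := (isDefectGroup_iff_maxR hM hB).1 hD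
  obtain ⟨e, hP⟩ := exists_pairOf (p := p) (isBlockIdem_ebar hB) hmax.pgroup hmax.ne_zero
  have hno := hmax.noExt hP
  obtain ⟨f, hf⟩ := (existsUnique_sle hP.pair (Subgroup.zpowers_le.2 hu)).1
  have hfB := (SLE.pairOf_iff hf).1 hP
  have hH : Subgroup.centralizer ({u} : Set G) =
      Subgroup.centralizer (Subgroup.zpowers u : Set G) := by
    rw [Subgroup.zpowers_eq_closure, Subgroup.centralizer_closure]
  obtain ⟨b, hb, rfl⟩ := exists_eIn_eq (hH.symm ▸ hfB.pair.block)
  refine ⟨b, (isInducedBlock_singleton_iff hM hfB.pair.pgroup hB hb).2 hfB, ?_⟩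
  obtain ⟨hP', hno', -⟩ := local_pair hH hP hno hab hf
  rw [show down (Subgroup.centralizer ({u} : Set G)) (eIn hb) = ebar hb by rw [eIn, down_up]] at hP'
  refine Nat.pow_right_injective (Fact.out : p.Prime).two_le ?_
  show p ^ Cfsg.blockDefect p b = p ^ Cfsg.blockDefect p B
  rw [← card_defectGroup hM hb ((isDefectGroup_iff_maxR hM hb).2 (maxR_of_noExt hP' hno')),
    ← card_defectGroup hM hB hD]
  refine Nat.card_congr (Subgroup.subgroupOfEquivOfLe ?_).toEquiv
  intro a ha
  rw [Subgroup.mem_centralizer_singleton_iff]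
  exact hab a ha u hu

/-- A character of the block does not vanish on a major section. -/
theorem exists_apply_ne_zero_of_major (hM : Cfsg.IsPModular p M) {C : Subgroup G} {x : G}
    (hC : C = Subgroup.centralizer {x}) (hx : ∃ k : ℕ, orderOf x = p ^ k)
    {e : Set (Cfsg.IrrCharacter C)} {B : Set (Cfsg.IrrCharacter G)}
    (hind : Cfsg.IsInducedBlock M C e B)
    (hdef : Cfsg.blockDefect p e = Cfsg.blockDefect p B) {χ : Cfsg.IrrCharacter G} (hχ : χ ∈ B) :
    ∃ s : C, Cfsg.IsPRegular p s ∧ (χ : G → ℂ) (x * s) ≠ 0 := by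
  haveI := Fintype.ofFinite G
  haveI := Fintype.ofFinite C
  obtain ⟨ψ, hψ, hh⟩ := exists_minExp (p := p) (block_nonempty hM hind.2.1)
  by_contra hcon
  push Not at hcon
  refine contrib_ne_zero hM hC hx hind hdef hχ hψ hh ?_
  have h0 : regPair p (fun c : C => (χ : G → ℂ) (x * c))
      (Cfsg.blockPart e fun c : C => (ψ : G → ℂ) (x * c)) = 0 := by
    rw [regPair]
    exact Finset.sum_eq_zero fun s hs => by
      rw [hcon s (Finset.mem_filter.1 hs).2, zero_mul]
  rw [contrib, ← regPair_blockPart hM hind.1 (isClassFunction_translate hC χ), h0]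
  simp

end CfsgLib.BlockRank
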