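import Cfsg.Agent.Lib.BlockRank.MajorBound
import Cfsg.Agent.Lib.BlockRank.MajorAbelian

/-!
# Blocks with abelian defect groups of rank two or three, given the bound for cyclic defect groups
-/

set_option autoImplicit false
set_option maxHeartbeats 1600000
set_option synthInstance.maxHeartbeats 400000

open Cfsg CfsgLib.Blocks CfsgLib.Blocks.Pairs
open scoped Classical

namespace CfsgLib.BlockRank

universe u

variable {p : ℕ} [Fact p.Prime] {M : Ideal AlgInt}

/-- Every nonzero value of the local form of a block with cyclic defect group is at least its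
rank. -/
def CyclicNormBound (p : ℕ) (M : Ideal AlgInt) : Prop :=
  ∀ {G : Type u} [Group G] [Fintype G] {B : Set (IrrCharacter G)} [Fintype B] (P : Subgroup G),
    IsPBlock M B → IsDefectGroup p M B P → IsCyclic P →
    ∀ Z : IrrCharacter G → IrrCharacter G → ℤ,
      (∀ φ ∈ B, ∀ θ ∈ B, (Z φ θ : ℂ) = ((p ^ blockDefect p B : ℕ) : ℂ) *
        ((Nat.card G : ℂ)⁻¹ * regPair p (φ : G → ℂ) (θ : G → ℂ))) →
      ∀ u, zForm B.toFinset Z u u ≠ 0 → (blockRank p B : ℤ) ≤ zForm B.toFinset Z u u

variable {G : Type u} [Group G] [Finite G]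

/-- An element of an abelian defect group carries a subsection with the same defect group. -/
theorem exists_major_defectGroup (hM : IsPModular p M) {B : Set (IrrCharacter G)}
    (hB : IsPBlock M B) {P : Subgroup G} (hD : IsDefectGroup p M B P)
    (hab : ∀ x ∈ P, ∀ y ∈ P, x * y = y * x) {u : G} (hu : u ∈ P) :
    ∃ b, IsInducedBlock M (Subgroup.centralizer ({u} : Set G)) b B ∧
      blockDefect p b = blockDefect p B ∧
      IsDefectGroup p M b (P.subgroupOf (Subgroup.centralizer ({u} : Set G))) := by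
  haveI : M.IsMaximal := hM.2.1
  haveI : CharP (ResField M) p := charP_resField hM.1 hM.2.2
  have hmax := (isDefectGroup_iff_maxR hM hB).1 hD
  obtain ⟨e, hP⟩ := exists_pairOf (p := p) (isBlockIdem_ebar hB) hmax.pgroup hmax.ne_zero
  have hno := hmax.noExt hP
  obtain ⟨f, hf⟩ := (existsUnique_sle hP.pair (Subgroup.zpowers_le.2 hu)).1
  have hfB := (SLE.pairOf_iff hf).1 hP
  have hH : Subgroup.centralizer ({u} : Set G) =
      Subgroup.centralizer (Subgroup.zpowers u : Set G) := by
    rw [Subgroup.zpowers_eq_closure, Subgroup.centralizer_closure]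
  obtain ⟨b, hb, rfl⟩ := exists_eIn_eq (hH.symm ▸ hfB.pair.block)
  obtain ⟨hP', hno', -⟩ := local_pair hH hP hno hab hf
  rw [show down (Subgroup.centralizer ({u} : Set G)) (eIn hb) = ebar hb by rw [eIn, down_up]] at hP'
  have hdef := (isDefectGroup_iff_maxR hM hb).2 (maxR_of_noExt hP' hno')
  refine ⟨b, (isInducedBlock_singleton_iff hM hfB.pair.pgroup hB hb).2 hfB, ?_, hdef⟩
  refine Nat.pow_right_injective (Fact.out : p.Prime).two_le ?_
  show p ^ blockDefect p b = p ^ blockDefect p B
  rw [← card_defectGroup hM hb hdef, ← card_defectGroup hM hB hD]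
  exact Nat.card_congr (Subgroup.subgroupOfEquivOfLe fun a ha =>
    Subgroup.mem_centralizer_singleton_iff.2 (hab a ha u hu)).toEquiv

/-- The block of the quotient by a central `p`-subgroup has the image of the defect group. -/
theorem exists_quotient_block_defectGroup (hM : IsPModular p M) (N : Subgroup G) [N.Normal]
    (hc : N ≤ Subgroup.center G) (hP : IsPGroup p N) {B : Set (IrrCharacter G)}
    (hB : IsPBlock M B) {D : Subgroup G} (hD : IsDefectGroup p M B D) :
    ∃ Bbar : Set (IrrCharacter (G ⧸ N)), IsPBlock M Bbar ∧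
      (∀ η, η ∈ Bbar ↔ infl N η ∈ B) ∧
      IsDefectGroup p M Bbar (D.map (QuotientGroup.mk' N)) ∧
      Nat.card N * p ^ blockDefect p Bbar = p ^ blockDefect p B := by
  haveI : M.IsMaximal := hM.2.1
  haveI : CharP (ResField M) p := charP_resField hM.1 hM.2.2
  obtain ⟨Bbar, hBbar, hsub, hDD⟩ := exists_block_quotient_defectGroup N hM hP hB
  obtain ⟨Bbar', hBbar', hiff, hdd⟩ := CfsgLib.CentralQuot.exists_quotient_block N hM hc hP hB
  obtain ⟨η, hη⟩ := IsPBlock.nonempty hBbar
  have heq : Bbar = Bbar' := by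
    rw [IsPBlock.eq_blockOf hBbar hη, IsPBlock.eq_blockOf hBbar' ((hiff η).2 (hsub η hη))]
  subst heq
  exact ⟨Bbar, hBbar, hiff, (hDD _).2 ⟨D, hD, rfl⟩, hdd⟩

/-- The common part: the subsection at `u` and the block of the quotient by `⟨u⟩`. -/
theorem card_mul_le_of_mem (hM : IsPModular p M) {B : Set (IrrCharacter G)}
    (hB : IsPBlock M B) {P : Subgroup G} (hD : IsDefectGroup p M B P)
    (hab : ∀ x ∈ P, ∀ y ∈ P, x * y = y * x) {u : G} (hu : u ∈ P) :
    ∃ (H : Type u) (_ : Group H) (_ : Fintype H) (b : Set (IrrCharacter H)) (D : Subgroup H)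
      (f : P →* D), Function.Surjective f ∧ f ⟨u, hu⟩ = 1 ∧ IsPBlock M b ∧ IsDefectGroup p M b D ∧
      Nat.card D = p ^ blockDefect p b ∧ orderOf u * p ^ blockDefect p b = p ^ blockDefect p B ∧
      ∃ l : ℕ, 0 < l ∧ l ≤ blockRank p b ∧
        Nat.card B ≤ p ^ blockDefect p B * l ∧
        ((∀ [Fintype b] (Z : IrrCharacter H → IrrCharacter H → ℤ),
          (∀ φ ∈ b, ∀ θ ∈ b, (Z φ θ : ℂ) = ((p ^ blockDefect p b : ℕ) : ℂ) *
            ((Nat.card H : ℂ)⁻¹ * regPair p (φ : H → ℂ) (θ : H → ℂ))) →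
          ∀ v, zForm b.toFinset Z v v ≠ 0 → (blockRank p b : ℤ) ≤ zForm b.toFinset Z v v) →
          Nat.card B ≤ p ^ blockDefect p B) := by
  haveI : M.IsMaximal := hM.2.1
  haveI : CharP (ResField M) p := charP_resField hM.1 hM.2.2
  cases nonempty_fintype G
  have hp : p.Prime := Fact.out
  obtain ⟨C, hC⟩ : ∃ C : Subgroup G, C = Subgroup.centralizer ({u} : Set G) := ⟨_, rfl⟩
  obtain ⟨b, hind, hbd, hbD⟩ : ∃ b, IsInducedBlock M C b B ∧
      blockDefect p b = blockDefect p B ∧ IsDefectGroup p M b (P.subgroupOf C) := by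
    subst hC; exact exists_major_defectGroup hM hB hD hab hu
  obtain ⟨j, hj⟩ := IsPGroup.iff_orderOf.1 (isPGroup_defectGroup hD) ⟨u, hu⟩
  rw [← Subgroup.orderOf_coe] at hj
  change orderOf u = _ at hj
  haveI := Fintype.ofFinite C
  have huC : u ∈ C := hC ▸ Subgroup.mem_centralizer_singleton_iff.2 rfl
  set N : Subgroup C := Subgroup.zpowers ⟨u, huC⟩ with hN
  have hNc : N ≤ Subgroup.center C := Subgroup.zpowers_le.2 (Subgroup.mem_center_iff.2 fun g =>
    Subtype.ext (Subgroup.mem_centralizer_singleton_iff.1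
      (hC ▸ g.2 : (g : G) ∈ Subgroup.centralizer ({u} : Set G))))
  have hNcard : Nat.card N = orderOf u := by rw [hN, Nat.card_zpowers, Subgroup.orderOf_mk]
  have hNp : IsPGroup p N := IsPGroup.of_card (n := j) (by rw [hNcard, hj])
  haveI : N.Normal := ⟨fun n hn g => by
    rwa [Subgroup.mem_center_iff.1 (hNc hn) g, mul_inv_cancel_right]⟩
  haveI := Fintype.ofFinite (C ⧸ N)
  obtain ⟨bb, hbb, hiff, hbbD, hdd⟩ :=
    exists_quotient_block_defectGroup hM N hNc hNp hind.1 hbD
  have hPC : P ≤ C := fun a ha => hC ▸ Subgroup.mem_centralizer_singleton_iff.2 (hab a ha u hu)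
  let f : P →* (P.subgroupOf C).map (QuotientGroup.mk' N) :=
    ((QuotientGroup.mk' N).subgroupMap (P.subgroupOf C)).comp
      (Subgroup.subgroupOfEquivOfLe hPC).symm.toMonoidHom
  have hf : Function.Surjective f := ((QuotientGroup.mk' N).subgroupMap_surjective _).comp
    (Subgroup.subgroupOfEquivOfLe hPC).symm.surjective
  haveI := Fintype.ofFinite b
  haveI := Fintype.ofFinite B
  haveI := Fintype.ofFinite bb
  have hl0 := blockRank_pos (p := p) hp.ne_one (CfsgLib.BlockReg.block_nonempty hM hind.1)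
  have hlb := CfsgLib.CentralQuot.blockRank_le N hM hNc hNp hind.1 hbb hiff
  refine ⟨C ⧸ N, inferInstance, inferInstance, bb, _, f, hf, Subtype.ext ?_, hbb, hbbD,
    card_defectGroup hM hbb hbbD, ?_, blockRank p b, hl0, hlb, ?_, ?_⟩
  · exact (QuotientGroup.eq_one_iff (N := N) _).2 (Subgroup.mem_zpowers (⟨u, huC⟩ : C))
  · rw [← hNcard, hdd, hbd]
  · have h := card_mul_le_of_major hM hC hj hind hbd (c₀ := 1) fun Z hval v hv => by
      obtain ⟨c, Z₀, -, -, hsymm, hval₀, hsq, -, -⟩ := exists_local_matrix hM hind.1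
        (d := blockDefect p B) (by rw [← hbd]; exact CfsgLib.BrauerFeit.defect_add_minExp hM hind.1)
      have hT : ∀ φ ∈ b.toFinset, ∀ θ ∈ b.toFinset, Z φ θ = Z₀ φ θ := fun φ hφ θ hθ => by
        have e1 := hval φ (Set.mem_toFinset.1 hφ) θ (Set.mem_toFinset.1 hθ)
        rw [← hval₀ φ (Set.mem_toFinset.1 hφ) θ (Set.mem_toFinset.1 hθ)] at e1
        exact_mod_cast e1
      have heq : zForm b.toFinset Z v v = zForm b.toFinset Z₀ v v :=
        Finset.sum_congr rfl fun φ hφ => Finset.sum_congr rfl fun θ hθ => by rw [hT φ hφ θ hθ]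
      rw [heq] at hv ⊢
      have := zForm_self_nonneg hsymm (by exact_mod_cast Nat.pow_pos (n := blockDefect p B) hp.pos)
        hsq v
      omega
    rw [mul_one, Set.toFinset_card, ← Nat.card_eq_fintype_card] at h
    exact_mod_cast h
  · intro hmin
    have h := card_mul_le_of_major hM hC hj hind hbd (c₀ := (blockRank p b : ℤ))
      fun Z hval v hv => by
        obtain ⟨c, Z', -, -, -, hval', -, -, -⟩ := exists_local_matrix hM hbb
          (d := blockDefect p bb) (CfsgLib.BrauerFeit.defect_add_minExp hM hbb)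
        obtain ⟨w, hw⟩ := exists_zForm_quotient hM N hNc hNp hind.1 hbb hiff
          (d := blockDefect p B) (d' := blockDefect p bb) (by rw [hdd, hbd]) Z hval Z' hval' v
        rw [hw] at hv ⊢
        exact le_trans (Int.ofNat_le.2 hlb) (hmin Z' hval' w hv)
    rw [Set.toFinset_card, ← Nat.card_eq_fintype_card] at h
    push_cast at h
    exact_mod_cast le_of_mul_le_mul_right h (by exact_mod_cast hl0)

/-- A defect group generated by two elements. -/
theorem card_le_of_two_generators (hc : CyclicNormBound.{u} p M) (hM : IsPModular p M)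
    {B : Set (IrrCharacter G)} (hB : IsPBlock M B) {P : Subgroup G} (hD : IsDefectGroup p M B P)
    (hab : ∀ x ∈ P, ∀ y ∈ P, x * y = y * x) {a c : P}
    (hgen : Subgroup.closure ({a, c} : Set P) = ⊤) : Nat.card B ≤ p ^ blockDefect p B := by
  obtain ⟨H, iH, iF, b, D, f, hf, hfu, hb, hbD, -, -, l, -, -, -, hmain⟩ :=
    card_mul_le_of_mem hM hB hD hab a.2
  refine hmain fun Z hval v hv => hc D hb hbD ?_ Z hval v hv
  refine ⟨⟨f c, fun x => ?_⟩⟩
  obtain ⟨y, rfl⟩ := hf x
  have hy : y ∈ Subgroup.closure ({a, c} : Set P) := by rw [hgen]; exact Subgroup.mem_top y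
  have hle : Subgroup.closure ({a, c} : Set P) ≤ (Subgroup.zpowers (f c)).comap f := by
    rw [Subgroup.closure_le]
    rintro z (rfl | rfl)
    · show f z ∈ Subgroup.zpowers _
      rw [show f z = 1 from hfu]; exact one_mem _
    · exact Subgroup.mem_zpowers _
  exact hle hy

theorem card_le_of_closure {P : Type u} [Group P] [IsMulCommutative P] [Finite P] {a b c : P}
    (hgen : Subgroup.closure ({a, b, c} : Set P) = ⊤) :
    Nat.card P ≤ orderOf a * orderOf b * orderOf c := by
  haveI : ∀ H : Subgroup P, H.Normal := fun H => ⟨fun n hn g => by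
    rwa [mul_comm' g n, mul_inv_cancel_right]⟩
  have hsup : Subgroup.zpowers a ⊔ Subgroup.zpowers b ⊔ Subgroup.zpowers c = ⊤ := by
    rw [Subgroup.zpowers_eq_closure, Subgroup.zpowers_eq_closure, Subgroup.zpowers_eq_closure,
      ← Subgroup.closure_union, ← Subgroup.closure_union, ← hgen]
    congr 1
    ext z; simp [or_assoc, or_comm, or_left_comm]
  have hstep : ∀ H K : Subgroup P, Nat.card (H ⊔ K : Subgroup P) ≤ Nat.card H * Nat.card K := by
    intro H K
    rw [← Nat.card_prod]
    refine Nat.card_le_card_of_surjective (fun x : H × K => (⟨(x.1 : P) * x.2,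
      mul_mem (Subgroup.mem_sup_left x.1.2) (Subgroup.mem_sup_right x.2.2)⟩ : ↑(H ⊔ K))) ?_
    rintro ⟨x, hx⟩
    obtain ⟨y, hy, z, hz, rfl⟩ := Subgroup.mem_sup_of_normal_right.1 hx
    exact ⟨(⟨y, hy⟩, ⟨z, hz⟩), rfl⟩
  have h1 := hstep (Subgroup.zpowers a ⊔ Subgroup.zpowers b) (Subgroup.zpowers c)
  rw [hsup, Subgroup.card_top] at h1
  calc Nat.card P ≤ _ := h1
    _ ≤ Nat.card (Subgroup.zpowers a) * Nat.card (Subgroup.zpowers b) *
        Nat.card (Subgroup.zpowers c) := Nat.mul_le_mul_right _ (hstep _ _)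
    _ = _ := by rw [Nat.card_zpowers, Nat.card_zpowers, Nat.card_zpowers]

/-- A defect group generated by three elements, the first of largest order. -/
theorem cube_le_of_three_generators (hc : CyclicNormBound.{u} p M) (hM : IsPModular p M)
    {B : Set (IrrCharacter G)} (hB : IsPBlock M B) {P : Subgroup G} (hD : IsDefectGroup p M B P)
    (hab : ∀ x ∈ P, ∀ y ∈ P, x * y = y * x) {a b c : P}
    (hgen : Subgroup.closure ({a, b, c} : Set P) = ⊤) (hb : orderOf b ≤ orderOf a)
    (hc' : orderOf c ≤ orderOf a) : Nat.card B ^ 3 ≤ p ^ (5 * blockDefect p B) := by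
  have hp : p.Prime := Fact.out
  haveI : IsMulCommutative P := ⟨⟨fun x y => Subtype.ext (hab x x.2 y y.2)⟩⟩
  obtain ⟨H, iH, iF, bb, D, f, hf, hfu, hbb, hbD, hDc, hord, l, hl0, hlb, hk, -⟩ :=
    card_mul_le_of_mem hM hB hD hab a.2
  have habD : ∀ x ∈ D, ∀ y ∈ D, x * y = y * x := by
    intro x hx y hy
    obtain ⟨x', hx'⟩ := hf ⟨x, hx⟩
    obtain ⟨y', hy'⟩ := hf ⟨y, hy⟩
    have h := congrArg (fun z : P => ((f z : D) : H)) (mul_comm' x' y')
    simpa [map_mul, hx', hy'] using h
  have hkb : Nat.card bb ≤ p ^ blockDefect p bb := by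
    refine card_le_of_two_generators hc hM hbb hbD habD (a := f b) (c := f c) ?_
    rw [← top_le_iff]
    intro x _
    obtain ⟨y, rfl⟩ := hf x
    have hy : y ∈ Subgroup.closure ({a, b, c} : Set P) := by rw [hgen]; exact Subgroup.mem_top y
    have hle : Subgroup.closure ({a, b, c} : Set P) ≤
        (Subgroup.closure ({f b, f c} : Set D)).comap f := by
      rw [Subgroup.closure_le]
      rintro z (rfl | rfl | rfl)
      · show f z ∈ Subgroup.closure _
        rw [show f z = 1 from hfu]; exact one_mem _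
      · exact Subgroup.subset_closure (Or.inl rfl)
      · exact Subgroup.subset_closure (Or.inr rfl)
    exact hle hy
  have hkl : Nat.card B ≤ p ^ blockDefect p B * p ^ blockDefect p bb :=
    hk.trans (Nat.mul_le_mul_left _ ((hlb.trans (blockRank_le_card bb)).trans hkb))
  haveI : M.IsMaximal := hM.2.1
  haveI : CharP (ResField M) p := charP_resField hM.1 hM.2.2
  have hcard : p ^ blockDefect p B ≤ orderOf (a : G) ^ 3 := by
    rw [← card_defectGroup hM hB hD]
    refine (card_le_of_closure hgen).trans ?_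
    rw [Subgroup.orderOf_coe]
    calc orderOf a * orderOf b * orderOf c ≤ orderOf a * orderOf a * orderOf a :=
          Nat.mul_le_mul (Nat.mul_le_mul_left _ hb) hc'
      _ = _ := by ring
  set d := blockDefect p B
  set e := blockDefect p bb
  set o := orderOf (a : G)
  have hpos : 0 < o ^ 3 := pow_pos (orderOf_pos _) 3
  refine Nat.le_of_mul_le_mul_right ?_ hpos
  calc Nat.card B ^ 3 * o ^ 3 ≤ (p ^ d * p ^ e) ^ 3 * o ^ 3 :=
        Nat.mul_le_mul_right _ (Nat.pow_le_pow_left hkl 3)
    _ = (p ^ d) ^ 3 * (o * p ^ e) ^ 3 := by ring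
    _ = p ^ (5 * d) * p ^ d := by rw [hord]; ring
    _ ≤ p ^ (5 * d) * o ^ 3 := Nat.mul_le_mul_left _ hcard

/-- The two bounds in terms of the rank. -/
theorem bounds_of_rank (hc : CyclicNormBound.{u} p M) (hM : IsPModular p M)
    {B : Set (IrrCharacter G)} (hB : IsPBlock M B) {D : Subgroup G} (hD : IsDefectGroup p M B D)
    (hab : IsMulCommutative D) :
    (Group.rank D = 2 → Nat.card B ≤ p ^ blockDefect p B) ∧
      (Group.rank D = 3 → Nat.card B ^ 3 ≤ p ^ (5 * blockDefect p B)) := by
  have hab' : ∀ x ∈ D, ∀ y ∈ D, x * y = y * x := fun x hx y hy =>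
    congrArg Subtype.val (hab.is_comm.comm (⟨x, hx⟩ : D) ⟨y, hy⟩)
  obtain ⟨S, hS, hgen⟩ := Group.rank_spec D
  constructor
  · intro hr
    obtain ⟨x, y, -, rfl⟩ := Finset.card_eq_two.1 (hS.trans hr)
    rw [Finset.coe_pair] at hgen
    exact card_le_of_two_generators hc hM hB hD hab' hgen
  · intro hr
    have hne : S.Nonempty := Finset.card_pos.1 (by omega)
    obtain ⟨x, hx, hmax⟩ := S.exists_max_image orderOf hne
    obtain ⟨y, z, -, hyz⟩ := Finset.card_eq_two.1
      (show (S.erase x).card = 2 by rw [Finset.card_erase_of_mem hx]; omega)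
    have hmem : ∀ w, w = y ∨ w = z → w ∈ S := fun w hw =>
      Finset.mem_of_mem_erase (a := x) (by rw [hyz]; simpa using hw)
    refine cube_le_of_three_generators hc hM hB hD hab' (a := x) (b := y) (c := z) ?_
      (hmax y (hmem y (Or.inl rfl))) (hmax z (hmem z (Or.inr rfl)))
    rw [← hgen, ← Finset.insert_erase hx, hyz, Finset.coe_insert, Finset.coe_pair]

end CfsgLib.BlockRank
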