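import Cfsg.Agent.Lib.BlockRank.NilpotentAbelian

/-!
The subsections of a block with abelian defect group correspond to the orbits of the inertial group
on the defect group.
-/

set_option autoImplicit false
set_option maxHeartbeats 1600000
set_option synthInstance.maxHeartbeats 400000

open Cfsg CfsgLib.Blocks CfsgLib.Blocks.Pairs
open scoped Classical

namespace CfsgLib.BlockRank

universe u

variable {G : Type u} [Group G] [Finite G] {p : ℕ} [Fact p.Prime] {M : Ideal AlgInt} [M.IsMaximal]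
  [CharP (ResField M) p]

/-- Below an abelian maximal pair fusion of elements is controlled by the inertial group. -/
theorem exists_stab_of_fusion {B f e : MonoidAlgebra (ResField M) G} {P : Subgroup G}
    (hP : PairOf p B P e) (hno : NoExt p P e) (hab : ∀ x ∈ P, ∀ y ∈ P, x * y = y * x) {u g : G}
    (h1 : SLE p (Subgroup.zpowers u) f P e)
    (h2 : SLE p (Subgroup.zpowers (g * u * g⁻¹)) (conjA g f) P e) :
    ∃ y ∈ pairStab P e, y * u * y⁻¹ = g * u * g⁻¹ := by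
  have h3 := h2.conj g⁻¹
  rw [← conjSub_zpowers, conjSub_conjSub, inv_mul_cancel, conjSub_one, conjA_inv_conjA] at h3
  set P' := conjSub g⁻¹ P with hP'def
  set e' := conjA g⁻¹ e with he'def
  have hP₁ : PairOf p B P' e' := hP.conj g⁻¹
  have hno₁ : NoExt p P' e' :=
    ((maxR_of_noExt hP hno).conj hP.blockB.mem g⁻¹).noExt hP₁
  have hab₁ : ∀ a ∈ P', ∀ b ∈ P', a * b = b * a := by
    rintro _ ⟨a, ha, rfl⟩ _ ⟨b, hb, rfl⟩
    rw [← map_mul, hab a ha b hb, map_mul]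
  obtain ⟨H, hH⟩ : ∃ H : Subgroup G, H = Subgroup.centralizer (Subgroup.zpowers u : Set G) :=
    ⟨_, rfl⟩
  obtain ⟨hQ, hnoQ, -⟩ := local_pair hH hP hno hab h1
  obtain ⟨hQ', -, -⟩ := local_pair hH hP₁ hno₁ hab₁ h3
  obtain ⟨c, hc⟩ := exists_conj_sle hQ hnoQ hQ'
  have hPH : P ≤ H := fun x hx => hH ▸
    Subgroup.mem_centralizer_iff.2 fun q hq => hab q (h1.le hq) x hx
  have hPH' : P' ≤ H := fun x hx => hH ▸
    Subgroup.mem_centralizer_iff.2 fun q hq => hab₁ q (h3.le hq) x hx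
  have hcard : Nat.card P' = Nat.card P := card_map_conj g⁻¹ P
  have heq : conjSub c (P'.subgroupOf H) = P.subgroupOf H := by
    refine Subgroup.eq_of_le_of_card_ge hc.le ?_
    rw [card_map_conj, Nat.card_congr (Subgroup.subgroupOfEquivOfLe hPH).toEquiv,
      Nat.card_congr (Subgroup.subgroupOfEquivOfLe hPH').toEquiv, hcard]
  rw [heq] at hc
  have he0 : conjA c (down H e') = down H e := SLE.unique hQ.pair hc (SLE.refl _ _)
  have hCH : Subgroup.centralizer (P : Set G) ≤ H := hH ▸ centralizer_anti h1.le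
  have hCH' : Subgroup.centralizer (P' : Set G) ≤ H := hH ▸ centralizer_anti h3.le
  have he1 : conjA (c : G) e' = e := by
    have := congrArg (up H) he0
    rwa [up_conjA, up_down (hP₁.pair.block.mem.supp.mono hCH'),
      up_down (hP.pair.block.mem.supp.mono hCH)] at this
  have hP2 : conjSub (c : G) P' = P := by
    ext a
    constructor
    · rintro ⟨b, hb, rfl⟩
      have : c * ⟨b, hPH' hb⟩ * c⁻¹ ∈ P.subgroupOf H := heq ▸ ⟨⟨b, hPH' hb⟩, hb, rfl⟩
      exact this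
    · intro ha
      have : (⟨a, hPH ha⟩ : H) ∈ conjSub c (P'.subgroupOf H) := heq.symm ▸ ha
      obtain ⟨b, hb, hba⟩ := this
      exact ⟨b, hb, congrArg Subtype.val hba⟩
  rw [hP'def, conjSub_conjSub] at hP2
  rw [he'def, conjA_conjA] at he1
  have hyN : (c : G) * g⁻¹ ∈ Subgroup.normalizer (P : Set G) := by
    refine Subgroup.mem_normalizer_iff.2 fun a => ⟨fun ha => hP2 ▸ ⟨a, ha, rfl⟩, fun ha => ?_⟩
    obtain ⟨b, hb, hba⟩ := (hP2.symm ▸ ha : _ ∈ conjSub ((c : G) * g⁻¹) P)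
    rwa [← (MulAut.conj ((c : G) * g⁻¹)).injective hba]
  have hy : (c : G) * g⁻¹ ∈ pairStab P e := ⟨hyN, he1⟩
  refine ⟨((c : G) * g⁻¹)⁻¹, inv_mem hy, ?_⟩
  have hcu : (c : G) * u * (c : G)⁻¹ = u := by
    have := Subgroup.mem_centralizer_iff.1 (hH ▸ c.2 : (c : G) ∈ Subgroup.centralizer
      (Subgroup.zpowers u : Set G)) u (Subgroup.mem_zpowers u)
    rw [← this, mul_inv_cancel_right]
  calc ((c : G) * g⁻¹)⁻¹ * u * ((c : G) * g⁻¹)⁻¹⁻¹
      = g * ((c : G)⁻¹ * u * c) * g⁻¹ := by group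
    _ = g * ((c : G)⁻¹ * ((c : G) * u * (c : G)⁻¹) * c) * g⁻¹ := by rw [hcu]
    _ = g * u * g⁻¹ := by group

/-- The subsections of a block with abelian defect group, with their pairs. -/
theorem exists_sections_reps (hM : Cfsg.IsPModular p M) {B : Set (Cfsg.IrrCharacter G)}
    (hB : Cfsg.IsPBlock M B) {P : Subgroup G} {e : MonoidAlgebra (ResField M) G}
    (hP : PairOf p (ebar hB) P e) (hno : NoExt p P e) (hab : ∀ x ∈ P, ∀ y ∈ P, x * y = y * x) :
    ∃ (T : Finset (Σ x : G, Set (Cfsg.IrrCharacter (Subgroup.centralizer ({x} : Set G)))))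
      (φ : (Σ x : G, Set (Cfsg.IrrCharacter (Subgroup.centralizer ({x} : Set G)))) → G),
      Nat.card B = ∑ s ∈ T, Cfsg.blockRank p s.2 ∧ (∀ s ∈ T, φ s ∈ P) ∧
      (∀ u ∈ P, ∃ s ∈ T, ∃ y ∈ pairStab P e, y * φ s * y⁻¹ = u) ∧
      (∀ s₁ ∈ T, ∀ s₂ ∈ T, ∀ y ∈ pairStab P e, y * φ s₁ * y⁻¹ = φ s₂ → s₁ = s₂) ∧
      (∀ s ∈ T, φ s = 1 → Cfsg.blockRank p s.2 = Cfsg.blockRank p B) ∧
      (∀ s ∈ T, (∃ k : ℕ, orderOf s.1 = p ^ k) ∧
        Cfsg.IsInducedBlock M (Subgroup.centralizer ({s.1} : Set G)) s.2 B ∧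
        Cfsg.blockDefect p s.2 = Cfsg.blockDefect p B ∧
        ((∀ y ∈ pairStab P e, y * φ s * y⁻¹ = φ s → y ∈ Subgroup.centralizer (P : Set G)) →
          Cfsg.blockRank p s.2 = 1)) ∧
      (∀ s₁ ∈ T, ∀ s₂ ∈ T, IsConj s₁.1 s₂.1 → s₁.1 = s₂.1) ∧
      ∀ s ∈ T, ∃ (g : G) (hb : Cfsg.IsPBlock M s.2), g * s.1 * g⁻¹ = φ s ∧
        SLE p (Subgroup.zpowers (φ s)) (conjA g (eIn hb)) P e := by
  haveI := Fintype.ofFinite G
  have hp : p.Prime := Fact.out
  have hpP := hP.pair.pgroup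
  have hmaxR := maxR_of_noExt hP hno
  have hD : Cfsg.IsDefectGroup p M B P := (isDefectGroup_iff_maxR hM hB).2 hmaxR
  have hcardP : Nat.card P = p ^ Cfsg.blockDefect p B := card_defectGroup hM hB hD
  -- class representatives of `p`-elements
  let X : Finset G := (Finset.univ.image fun g : G => Quotient.out (ConjClasses.mk g)).filter
    fun x => ∃ k : ℕ, orderOf x = p ^ k
  have hout : ∀ g : G, IsConj g (Quotient.out (ConjClasses.mk g)) := fun g =>
    (ConjClasses.mk_eq_mk_iff_isConj.1 (Quotient.out_eq (ConjClasses.mk g))).symm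
  have hX : ∀ x ∈ X, ∃ k : ℕ, orderOf x = p ^ k := fun x hx => (Finset.mem_filter.1 hx).2
  have hXrep : ∀ g : G, (∃ k : ℕ, orderOf g = p ^ k) → ∃! x, x ∈ X ∧ IsConj g x := by
    intro g ⟨k, hk⟩
    refine ⟨Quotient.out (ConjClasses.mk g), ⟨Finset.mem_filter.2
      ⟨Finset.mem_image.2 ⟨g, Finset.mem_univ _, rfl⟩, k, ?_⟩, hout g⟩, ?_⟩
    · obtain ⟨c, hc⟩ := isConj_iff.1 (hout g)
      rw [← hc, ← hk]
      exact MulEquiv.orderOf_eq (MulAut.conj c) g
    · rintro y ⟨hy, hgy⟩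
      obtain ⟨g', -, rfl⟩ := Finset.mem_image.1 (Finset.mem_filter.1 hy).1
      rw [show ConjClasses.mk g = ConjClasses.mk g' from
        ConjClasses.mk_eq_mk_iff_isConj.2 (hgy.trans (hout g').symm)]
  -- subsections
  let S := fun x : G => {b : Set (Cfsg.IrrCharacter (Subgroup.centralizer ({x} : Set G))) |
    Cfsg.IsInducedBlock M (Subgroup.centralizer ({x} : Set G)) b B}
  let T : Finset (Σ x : G, Set (Cfsg.IrrCharacter (Subgroup.centralizer ({x} : Set G)))) :=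
    X.sigma fun x => (S x).toFinset
  have hk : Nat.card B = ∑ s ∈ T, Cfsg.blockRank p s.2 := by
    rw [card_eq_sum_sections hM hB X hX hXrep, Finset.sum_sigma]
    exact Finset.sum_congr rfl fun x _ => finsum_mem_eq_toFinset_sum _ _
  have hmem : ∀ s, s ∈ T ↔ s.1 ∈ X ∧
      Cfsg.IsInducedBlock M (Subgroup.centralizer ({s.1} : Set G)) s.2 B := fun s => by
    simp [T, S, Finset.mem_sigma]
  -- the element of `P` of a subsection
  have hex : ∀ s, ∃ g : G, s ∈ T → ∃ hb : Cfsg.IsPBlock M s.2, g * s.1 * g⁻¹ ∈ P ∧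
      SLE p (Subgroup.zpowers (g * s.1 * g⁻¹)) (conjA g (eIn hb)) P e := by
    intro s
    by_cases hs : s ∈ T
    · obtain ⟨hsX, hsI⟩ := (hmem s).1 hs
      have hz := isPGroup_zpowers (hX _ hsX)
      have hpair := (isInducedBlock_singleton_iff hM hz hB hsI.1).1 hsI
      obtain ⟨g, hg⟩ := exists_conj_sle hP hno hpair
      rw [conjSub_zpowers] at hg
      exact ⟨g, fun _ => ⟨hsI.1, hg.le (Subgroup.mem_zpowers _), hg⟩⟩
    · exact ⟨1, fun h => absurd h hs⟩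
  choose gg hgg using hex
  refine ⟨T, fun s => gg s * s.1 * (gg s)⁻¹, hk, fun s hs => (hgg s hs).2.1, ?_, ?_, ?_, ?_,
    fun s₁ h₁ s₂ h₂ hcj => (hXrep s₁.1 (hX _ ((hmem _).1 h₁).1)).unique
      ⟨((hmem _).1 h₁).1, IsConj.refl _⟩ ⟨((hmem _).1 h₂).1, hcj⟩, fun s hs => ?_⟩
  · -- surjectivity
    intro u hu
    have huz : Subgroup.zpowers u ≤ P := Subgroup.zpowers_le.2 hu
    obtain ⟨f, hf⟩ := (existsUnique_sle hP.pair huz).1
    have hu' : ∃ k : ℕ, orderOf u = p ^ k := by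
      obtain ⟨k, hk⟩ := IsPGroup.iff_orderOf.1 hpP ⟨u, hu⟩
      exact ⟨k, by rw [← hk, Subgroup.orderOf_mk]⟩
    obtain ⟨x, ⟨hxX, hux⟩, -⟩ := hXrep u hu'
    obtain ⟨h, rfl⟩ := isConj_iff.1 hux
    have hfB := (SLE.pairOf_iff hf).1 hP
    have hfB' := hfB.conj h
    rw [conjSub_zpowers] at hfB'
    have hC : Subgroup.centralizer (Subgroup.zpowers (h * u * h⁻¹) : Set G) =
        Subgroup.centralizer ({h * u * h⁻¹} : Set G) := by
      rw [Subgroup.zpowers_eq_closure, Subgroup.centralizer_closure]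
    obtain ⟨b, hb, hbe⟩ := exists_eIn_eq (hC ▸ hfB'.pair.block)
    have hs : (⟨h * u * h⁻¹, b⟩ :
        Σ x : G, Set (Cfsg.IrrCharacter (Subgroup.centralizer ({x} : Set G)))) ∈ T := by
      rw [hmem]
      exact ⟨hxX, (isInducedBlock_singleton_iff hM hfB'.pair.pgroup hB hb).2 (hbe ▸ hfB')⟩
    refine ⟨_, hs, ?_⟩
    obtain ⟨_, _, h2⟩ := hgg _ hs
    rw [hbe, conjA_conjA] at h2
    have hgu : gg ⟨h * u * h⁻¹, b⟩ * (h * u * h⁻¹) * (gg ⟨h * u * h⁻¹, b⟩)⁻¹ =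
        gg ⟨h * u * h⁻¹, b⟩ * h * u * (gg ⟨h * u * h⁻¹, b⟩ * h)⁻¹ := by group
    rw [hgu] at h2
    obtain ⟨y, hy, hyu⟩ := exists_stab_of_fusion hP hno hab hf h2
    refine ⟨y⁻¹, inv_mem hy, ?_⟩
    dsimp only
    rw [hgu, ← hyu]
    group
  · -- injectivity
    rintro ⟨x₁, b₁⟩ h₁ ⟨x₂, b₂⟩ h₂ y hy heq
    dsimp only at heq
    obtain ⟨hb₁, -, hl1⟩ := hgg _ h₁
    obtain ⟨hb₂, -, hl2⟩ := hgg _ h₂
    set g₁ := gg ⟨x₁, b₁⟩
    set g₂ := gg ⟨x₂, b₂⟩
    have heq' : y * g₁ * x₁ * (y * g₁)⁻¹ = g₂ * x₂ * g₂⁻¹ := by rw [← heq]; group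
    have hx : x₁ = x₂ := by
      refine (hXrep x₁ (hX _ ((hmem _).1 h₁).1)).unique ⟨((hmem _).1 h₁).1, IsConj.refl _⟩
        ⟨((hmem _).1 h₂).1, isConj_iff.2 ⟨g₂⁻¹ * (y * g₁), ?_⟩⟩
      calc _ = g₂⁻¹ * (y * g₁ * x₁ * (y * g₁)⁻¹) * g₂ := by group
        _ = x₂ := by rw [heq']; group
    subst hx
    have hl1' := hl1.conj y
    rw [conjSub_zpowers, conjA_conjA, conjSub_eq_of_mem_normalizer hy.1, hy.2,
      show y * (g₁ * x₁ * g₁⁻¹) * y⁻¹ = y * g₁ * x₁ * (y * g₁)⁻¹ by group, heq'] at hl1'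
    have h3 := SLE.unique hP.pair hl1' hl2
    have h4 : conjA (g₂⁻¹ * (y * g₁)) (eIn hb₁) = eIn hb₂ := by
      rw [← conjA_conjA, h3, conjA_inv_conjA]
    have hc : g₂⁻¹ * (y * g₁) ∈ Subgroup.centralizer ({x₁} : Set G) := by
      rw [Subgroup.mem_centralizer_singleton_iff]
      calc _ = g₂⁻¹ * (y * g₁ * x₁ * (y * g₁)⁻¹) * (y * g₁) := by group
        _ = _ := by rw [heq']; group
    rw [conjFixed_iff.mp (isBlockIdem_eIn hb₁).mem.fixed _ hc] at h4
    obtain rfl : b₁ = b₂ := eIn_injective hb₁ hb₂ h4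
    rfl
  · -- the trivial section
    intro s hs h1
    obtain ⟨hsX, hsI⟩ := (hmem s).1 hs
    have hs1 : s.1 = 1 := by
      calc s.1 = (gg s)⁻¹ * (gg s * s.1 * (gg s)⁻¹) * gg s := by group
        _ = 1 := by dsimp only at h1; rw [h1]; group
    have htop : Subgroup.centralizer ({s.1} : Set G) = ⊤ :=
      (Subgroup.eq_top_iff' _).2 fun y =>
        Subgroup.mem_centralizer_singleton_iff.2 (by rw [hs1, mul_one, one_mul])
    let φ := (MulEquiv.subgroupCongr htop).trans Subgroup.topEquiv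
    rw [eq_pullSet_of_central hM hB (isPGroup_zpowers (hX _ hsX)) φ (fun _ => rfl) hsI,
      blockRank_pullSet]
  · -- the local blocks
    intro s hs
    obtain ⟨hsX, hsI⟩ := (hmem s).1 hs
    refine ⟨hX _ hsX, hsI, ?_⟩
    obtain ⟨_, hgP, hgle⟩ := hgg s hs
    set H := Subgroup.centralizer ({s.1} : Set G) with hH
    have hH' : H = Subgroup.centralizer (Subgroup.zpowers s.1 : Set G) := by
      rw [hH, Subgroup.zpowers_eq_closure, Subgroup.centralizer_closure]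
    obtain ⟨x, hx⟩ : ∃ x, x = (gg s)⁻¹ := ⟨_, rfl⟩
    have hle' : SLE p (Subgroup.zpowers s.1) (eIn hsI.1) (conjSub x P) (conjA x e) := by
      have := hgle.conj x
      rw [← conjSub_zpowers, conjSub_conjSub, hx, inv_mul_cancel, conjSub_one,
        conjA_inv_conjA] at this
      exact hx ▸ this
    have hP₁ : PairOf p (ebar hB) (conjSub x P) (conjA x e) := hP.conj x
    have hno₁ : NoExt p (conjSub x P) (conjA x e) :=
      (hmaxR.conj (isBlockIdem_ebar hB).mem x).noExt hP₁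
    have hab₁ : ∀ a ∈ conjSub x P, ∀ b ∈ conjSub x P, a * b = b * a := by
      rintro _ ⟨a, ha, rfl⟩ _ ⟨b, hb, rfl⟩
      rw [← map_mul, hab a ha b hb, map_mul]
    obtain ⟨hP', hno', hst⟩ := local_pair hH' hP₁ hno₁ hab₁ hle'
    have hdown : down H (eIn hsI.1) = ebar hsI.1 := by rw [eIn, down_up]
    rw [hdown] at hP'
    refine ⟨Nat.pow_right_injective hp.two_le ?_, fun hfree => ?_⟩
    · show p ^ Cfsg.blockDefect p s.2 = p ^ Cfsg.blockDefect p B
      rw [← card_defectGroup hM hsI.1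
        ((isDefectGroup_iff_maxR hM hsI.1).2 (maxR_of_noExt hP' hno')), ← hcardP,
        ← card_map_conj x P]
      refine Nat.card_congr (Subgroup.subgroupOfEquivOfLe ?_).toEquiv
      intro a ha
      show a ∈ Subgroup.centralizer ({s.1} : Set G)
      rw [Subgroup.mem_centralizer_singleton_iff]
      exact hab₁ a ha s.1 (hle'.le (Subgroup.mem_zpowers _))
    have habH : ∀ a ∈ (conjSub x P).subgroupOf H, ∀ b ∈ (conjSub x P).subgroupOf H,
        a * b = b * a := fun a ha b hb => Subtype.ext (hab₁ _ ha _ hb)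
    have htrivH : pairStab ((conjSub x P).subgroupOf H) (down H (conjA x e)) ≤
        Subgroup.centralizer ((conjSub x P).subgroupOf H : Set H) := by
      intro y hy
      have h1 := hst y hy
      rw [← conjSub_pairStab] at h1
      obtain ⟨z, hz, hzy⟩ := h1
      have hzy' : x * z * x⁻¹ = (y : G) := hzy
      have hys : (y : G) * s.1 = s.1 * y := Subgroup.mem_centralizer_singleton_iff.1 y.2
      have hzφ : z * (gg s * s.1 * (gg s)⁻¹) * z⁻¹ = gg s * s.1 * (gg s)⁻¹ := by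
        have hz' : z = gg s * (y : G) * (gg s)⁻¹ := by rw [← hzy', hx]; group
        calc _ = gg s * ((y : G) * s.1 * (y : G)⁻¹) * (gg s)⁻¹ := by rw [hz']; group
          _ = _ := by rw [hys]; group
      refine Subgroup.mem_centralizer_iff.2 fun a ha => Subtype.ext ?_
      obtain ⟨w, hw, hwa⟩ := (ha : (a : G) ∈ conjSub x P)
      show (a : G) * (y : G) = y * a
      rw [← hzy, show (a : G) = _ from hwa.symm, ← map_mul,
        Subgroup.mem_centralizer_iff.1 (hfree z hz hzφ) w hw, map_mul]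
    exact (rankOne_of_trivial_inertial hM hsI.1 hP' hno' habH htrivH).1
  · -- the pairs
    obtain ⟨hb, -, hle⟩ := hgg s hs
    exact ⟨gg s, hb, rfl, hle⟩

/-- The subsections of a block with abelian defect group. -/
theorem exists_sections (hM : Cfsg.IsPModular p M) {B : Set (Cfsg.IrrCharacter G)}
    (hB : Cfsg.IsPBlock M B) {P : Subgroup G} {e : MonoidAlgebra (ResField M) G}
    (hP : PairOf p (ebar hB) P e) (hno : NoExt p P e) (hab : ∀ x ∈ P, ∀ y ∈ P, x * y = y * x) :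
    ∃ (T : Finset (Σ x : G, Set (Cfsg.IrrCharacter (Subgroup.centralizer ({x} : Set G)))))
      (φ : (Σ x : G, Set (Cfsg.IrrCharacter (Subgroup.centralizer ({x} : Set G)))) → G),
      Nat.card B = ∑ s ∈ T, Cfsg.blockRank p s.2 ∧ (∀ s ∈ T, φ s ∈ P) ∧
      (∀ u ∈ P, ∃ s ∈ T, ∃ y ∈ pairStab P e, y * φ s * y⁻¹ = u) ∧
      (∀ s₁ ∈ T, ∀ s₂ ∈ T, ∀ y ∈ pairStab P e, y * φ s₁ * y⁻¹ = φ s₂ → s₁ = s₂) ∧
      (∀ s ∈ T, φ s = 1 → Cfsg.blockRank p s.2 = Cfsg.blockRank p B) ∧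
      (∀ s ∈ T, (∃ k : ℕ, orderOf s.1 = p ^ k) ∧
        Cfsg.IsInducedBlock M (Subgroup.centralizer ({s.1} : Set G)) s.2 B ∧
        Cfsg.blockDefect p s.2 = Cfsg.blockDefect p B ∧
        ((∀ y ∈ pairStab P e, y * φ s * y⁻¹ = φ s → y ∈ Subgroup.centralizer (P : Set G)) →
          Cfsg.blockRank p s.2 = 1)) := by
  obtain ⟨T, φ, h1, h2, h3, h4, h5, h6, -, -⟩ := exists_sections_reps hM hB hP hno hab
  exact ⟨T, φ, h1, h2, h3, h4, h5, h6⟩

end CfsgLib.BlockRank
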