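import Cfsg.Agent.Lib.BlockRank.Contribution

/-!
# Galois averages of integral quadratic forms at a vector over `ℤ[ζ]`, `ζ` of prime power order

If the form is at least `c` off its kernel, the average is at least `c`.  For the square of a linear
form whose value lies in the prime above `p` the average is at least `2`.
-/

set_option autoImplicit false

open scoped ComplexConjugate

namespace CfsgLib.BlockRank

variable {κ : Type*} (T : Finset κ) (Z : κ → κ → ℤ)

/-- The bilinear form of an integral matrix. -/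
def zForm (u v : κ → ℤ) : ℤ := ∑ φ ∈ T, ∑ θ ∈ T, Z φ θ * u φ * v θ

theorem zForm_add_left (u v x : κ → ℤ) :
    zForm T Z (u + v) x = zForm T Z u x + zForm T Z v x := by
  simp only [zForm, ← Finset.sum_add_distrib]
  exact Finset.sum_congr rfl fun φ _ => Finset.sum_congr rfl fun θ _ => by
    rw [Pi.add_apply]; ring

theorem zForm_smul_left (t : ℤ) (u x : κ → ℤ) : zForm T Z (t • u) x = t * zForm T Z u x := by
  simp only [zForm, Finset.mul_sum]
  exact Finset.sum_congr rfl fun φ _ => Finset.sum_congr rfl fun θ _ => by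
    rw [Pi.smul_apply, smul_eq_mul]; ring

theorem zForm_sub_left (u v x : κ → ℤ) :
    zForm T Z (u - v) x = zForm T Z u x - zForm T Z v x := by
  simp only [zForm, ← Finset.sum_sub_distrib]
  exact Finset.sum_congr rfl fun φ _ => Finset.sum_congr rfl fun θ _ => by
    rw [Pi.sub_apply]; ring

variable {T Z} (hZ : ∀ φ θ, Z φ θ = Z θ φ)
include hZ

theorem zForm_comm (u v : κ → ℤ) : zForm T Z u v = zForm T Z v u := by
  rw [zForm, zForm, Finset.sum_comm]
  exact Finset.sum_congr rfl fun φ _ => Finset.sum_congr rfl fun θ _ => by rw [hZ θ φ]; ring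

theorem zForm_sub_right (u v x : κ → ℤ) :
    zForm T Z x (u - v) = zForm T Z x u - zForm T Z x v := by
  rw [zForm_comm hZ, zForm_sub_left, zForm_comm hZ u, zForm_comm hZ v]

theorem zForm_sub_self (u v : κ → ℤ) :
    zForm T Z (u - v) (u - v) = zForm T Z u u + zForm T Z v v - 2 * zForm T Z u v := by
  rw [zForm_sub_left, zForm_sub_right hZ, zForm_sub_right hZ, zForm_comm hZ v u]
  ring

variable (hpsd : ∀ u, 0 ≤ zForm T Z u u)
include hpsd

/-- Vectors of norm zero lie in the kernel of a semidefinite form. -/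
theorem zForm_eq_zero_of_self_eq_zero {u : κ → ℤ} (hu : zForm T Z u u = 0) (v : κ → ℤ) :
    zForm T Z u v = 0 := by
  have h : ∀ t : ℤ, 0 ≤ 2 * t * zForm T Z u v + zForm T Z v v := fun t => by
    refine (hpsd (t • u + v)).trans_eq ?_
    rw [zForm_add_left, zForm_smul_left, zForm_comm hZ u (t • u + v), zForm_comm hZ v (t • u + v),
      zForm_add_left, zForm_add_left, zForm_smul_left, zForm_smul_left, hu, zForm_comm hZ v u]
    ring
  have hv := hpsd v
  by_contra hne
  rcases lt_or_gt_of_ne hne with hlt | hgt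
  · nlinarith [h (zForm T Z v v + 1)]
  · nlinarith [h (-(zForm T Z v v + 1))]

/-- The sum of the forms at all differences of a nonconstant family. -/
theorem two_mul_le_sum_sum {ι : Type*} [Fintype ι] (f : ι → κ → ℤ) {c : ℤ}
    (hc : ∀ u, zForm T Z u u ≠ 0 → c ≤ zForm T Z u u)
    (hne : ∃ i j, zForm T Z (f i - f j) (f i - f j) ≠ 0) :
    2 * ((Fintype.card ι : ℤ) - 1) * c ≤
      ∑ i, ∑ j, zForm T Z (f i - f j) (f i - f j) := by
  classical
  obtain ⟨a, b, hab⟩ := hne
  set q : ι → ι → ℤ := fun i j => zForm T Z (f i - f j) (f i - f j) with hq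
  have hq0 : ∀ i j, 0 ≤ q i j := fun i j => hpsd _
  have hsymm : ∀ i j, q i j = q j i := fun i j => by
    rw [hq]
    show zForm T Z (f i - f j) (f i - f j) = zForm T Z (f j - f i) (f j - f i)
    rw [zForm_sub_self hZ, zForm_sub_self hZ, zForm_comm hZ (f j) (f i)]
    ring
  have hne' : a ≠ b := by
    rintro rfl
    apply hab
    rw [sub_self]
    simp [zForm]
  have hthird : ∀ j, c ≤ q j a + q j b := by
    intro j
    by_cases hja : q j a = 0
    · have h1 : zForm T Z (f j - f a) (f a - f b) = 0 :=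
        zForm_eq_zero_of_self_eq_zero hZ hpsd hja _
      have h2 : q j b = q a b := by
        have : f j - f b = (f j - f a) + (f a - f b) := by abel
        show zForm T Z (f j - f b) (f j - f b) = zForm T Z (f a - f b) (f a - f b)
        rw [this, zForm_add_left, zForm_comm hZ _ (f j - f a + (f a - f b)),
          zForm_comm hZ (f a - f b) (f j - f a + (f a - f b)), zForm_add_left, zForm_add_left,
          h1, zForm_comm hZ (f a - f b) (f j - f a), h1]
        rw [show zForm T Z (f j - f a) (f j - f a) = 0 from hja]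
        ring
      rw [hja, h2, zero_add]
      exact hc _ hab
    · exact (hc _ hja).trans (le_add_of_nonneg_right (hq0 j b))
  have hrow : ∀ i, c ≤ ∑ j, q i j := fun i => by
    refine (hthird i).trans ?_
    rw [← Finset.sum_pair hne']
    exact Finset.sum_le_sum_of_subset_of_nonneg (Finset.subset_univ _) fun j _ _ => hq0 i j
  have hab2 : (Fintype.card ι : ℤ) * c ≤ (∑ j, q a j) + ∑ j, q b j := by
    rw [← Finset.sum_add_distrib, ← Finset.card_univ, ← nsmul_eq_mul]
    exact Finset.card_nsmul_le_sum _ _ _ fun j _ => by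
      rw [hsymm a j, hsymm b j]
      exact hthird j
  rw [← Finset.sum_sdiff (Finset.subset_univ ({a, b} : Finset ι)), Finset.sum_pair hne']
  have hrest := Finset.card_nsmul_le_sum (Finset.univ \ {a, b}) (fun i => ∑ j, q i j) c
    fun i _ => hrow i
  have hcard : ((Finset.univ \ ({a, b} : Finset ι)).card : ℤ) = (Fintype.card ι : ℤ) - 2 := by
    have := Finset.card_sdiff_add_card_eq_card (Finset.subset_univ ({a, b} : Finset ι))
    rw [Finset.card_pair hne', Finset.card_univ] at this
    omega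
  rw [nsmul_eq_mul, hcard] at hrest
  calc 2 * ((Fintype.card ι : ℤ) - 1) * c
      = ((Fintype.card ι : ℤ) - 2) * c + (Fintype.card ι : ℤ) * c := by ring
    _ ≤ _ := add_le_add hrest hab2

omit hpsd in
/-- The sum of the forms at all differences. -/
theorem sum_sum_sub {ι : Type*} [Fintype ι] (f : ι → κ → ℤ) :
    ∑ i, ∑ j, zForm T Z (f i - f j) (f i - f j) =
      2 * ((Fintype.card ι : ℤ) * ∑ i, zForm T Z (f i) (f i) -
        ∑ i, ∑ j, zForm T Z (f i) (f j)) := by
  simp only [zForm_sub_self hZ, Finset.sum_sub_distrib, Finset.sum_add_distrib, Finset.sum_const,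
    ← Finset.mul_sum, nsmul_eq_mul, Finset.card_univ]
  ring

end CfsgLib.BlockRank

namespace CfsgLib.BlockRank

variable {κ : Type*} {T : Finset κ} {Z : κ → κ → ℤ} {p : ℕ}

/-- The sum over the primitive `p ^ (k + 1)`-th roots of unity of a power quotient. -/
theorem sum_primitive_pow_mul_conj (hp : p.Prime) {k a b : ℕ} (ha : a < p ^ (k + 1))
    (hb : b < p ^ (k + 1)) :
    ∑ w ∈ primitiveRoots (p ^ (k + 1)) ℂ, w ^ a * conj (w ^ b) =
      (if a = b then ((p ^ (k + 1) : ℕ) : ℂ) else 0) -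
        (if a % p ^ k = b % p ^ k then ((p ^ k : ℕ) : ℂ) else 0) := by
  classical
  set n := p ^ (k + 1) with hn
  set N := p ^ k with hN
  have hn0 : 0 < n := Nat.pow_pos hp.pos
  have hN0 : 0 < N := Nat.pow_pos hp.pos
  let ζ := Complex.exp (2 * Real.pi * Complex.I / n)
  have hζ : IsPrimitiveRoot ζ n := Complex.isPrimitiveRoot_exp n hn0.ne'
  have hNn : n = p * N := by rw [hn, hN, pow_succ']
  have hζp : IsPrimitiveRoot (ζ ^ p) N := hζ.pow hn0 hNn
  -- all roots, through powers
  have hgeom : ∀ (M : ℕ) (η : ℂ), 0 < M → IsPrimitiveRoot η M →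
      ∑ i ∈ Finset.range M, (η ^ i) ^ a * conj ((η ^ i) ^ b) =
        if a % M = b % M then (M : ℂ) else 0 := by
    intro M η hM hη
    have hinv : conj η = η⁻¹ :=
      (Complex.inv_eq_conj (Complex.norm_eq_one_of_pow_eq_one hη.pow_eq_one hM.ne')).symm
    have hη0 : η ≠ 0 := hη.ne_zero hM.ne'
    have hterm : ∀ i : ℕ, (η ^ i) ^ a * conj ((η ^ i) ^ b) = (η ^ a * (η ^ b)⁻¹) ^ i := fun i => by
      rw [map_pow, map_pow, hinv, inv_pow, inv_pow, mul_pow, inv_pow]
      congr 1
      · rw [← pow_mul, ← pow_mul, mul_comm]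
      · rw [← pow_mul, ← pow_mul, mul_comm]
    rw [Finset.sum_congr rfl fun i _ => hterm i]
    have hmod : η ^ a * (η ^ b)⁻¹ = 1 ↔ a % M = b % M := by
      rw [mul_inv_eq_one₀ (pow_ne_zero _ hη0), ← pow_mod_orderOf, ← pow_mod_orderOf η b,
        ← hη.eq_orderOf]
      exact ⟨fun h => hη.pow_inj (Nat.mod_lt _ hM) (Nat.mod_lt _ hM) h, fun h => by rw [h]⟩
    split_ifs with h
    · rw [hmod.mpr h]
      simp
    · rw [geom_sum_eq (fun h1 => h (hmod.mp h1)), mul_pow, inv_pow, ← pow_mul, ← pow_mul,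
        mul_comm a, mul_comm b, pow_mul, pow_mul, hη.pow_eq_one]
      simp
  have himg : primitiveRoots n ℂ = ((Finset.range n).filter fun i => ¬ p ∣ i).image (ζ ^ ·) := by
    have : NeZero n := ⟨hn0.ne'⟩
    ext w
    rw [mem_primitiveRoots hn0, Finset.mem_image]
    constructor
    · intro hw
      obtain ⟨i, hi, hiw⟩ := hζ.eq_pow_of_pow_eq_one hw.pow_eq_one
      refine ⟨i, Finset.mem_filter.mpr ⟨Finset.mem_range.mpr hi, fun hd => ?_⟩, hiw⟩
      have hc := (hζ.pow_iff_coprime hn0 i).mp (hiw ▸ hw)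
      exact hp.not_dvd_one ((hc.gcd_eq_one) ▸ Nat.dvd_gcd hd (hn ▸ dvd_pow_self p k.succ_ne_zero))
    · rintro ⟨i, hi, rfl⟩
      exact hζ.pow_of_coprime i (Nat.Coprime.pow_right _
        ((hp.coprime_iff_not_dvd.mpr (Finset.mem_filter.mp hi).2).symm))
  rw [himg, Finset.sum_image (fun i hi j hj h => hζ.pow_inj
    (Finset.mem_range.mp (Finset.mem_filter.mp hi).1)
    (Finset.mem_range.mp (Finset.mem_filter.mp hj).1) h)]
  have hsplit := Finset.sum_filter_add_sum_filter_not (Finset.range n) (fun i => p ∣ i)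
    (fun i => (ζ ^ i) ^ a * conj ((ζ ^ i) ^ b))
  rw [hgeom n ζ hn0 hζ, Nat.mod_eq_of_lt ha, Nat.mod_eq_of_lt hb] at hsplit
  have hmult : ∑ i ∈ (Finset.range n).filter (fun i => p ∣ i),
      (ζ ^ i) ^ a * conj ((ζ ^ i) ^ b) =
      ∑ i ∈ Finset.range N, ((ζ ^ p) ^ i) ^ a * conj (((ζ ^ p) ^ i) ^ b) := by
    symm
    refine Finset.sum_bij (fun i _ => p * i) (fun i hi => ?_)
      (fun i _ j _ h => Nat.eq_of_mul_eq_mul_left hp.pos h) (fun i hi => ?_)
      fun i _ => by rw [← pow_mul ζ p i]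
    · rw [Finset.mem_filter, Finset.mem_range, hNn]
      exact ⟨Nat.mul_lt_mul_of_pos_left (Finset.mem_range.mp hi) hp.pos, dvd_mul_right p i⟩
    · obtain ⟨hi, j, rfl⟩ := Finset.mem_filter.mp hi
      exact ⟨j, Finset.mem_range.mpr (Nat.lt_of_mul_lt_mul_left (hNn ▸ Finset.mem_range.mp hi)),
        rfl⟩
  rw [hmult, hgeom N (ζ ^ p) hN0 hζp] at hsplit
  linear_combination hsplit

/-- The coefficient vector of `∑ φ, a φ · X ^ i φ` at the exponent `r + j N` modulo `n`. -/
def expVec (n : ℕ) (a i : κ → ℕ) (e : ℕ) : κ → ℤ := fun φ =>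
  if i φ % n = e then (a φ : ℤ) else 0

theorem cycloForm_eq_sum_expVec {n : ℕ} (hn : 0 < n) (a i : κ → ℕ) {w : ℂ} (hw : w ^ n = 1) :
    cycloForm T Z a a i i w = ∑ e ∈ Finset.range n, ∑ e' ∈ Finset.range n,
      ((zForm T Z (expVec n a i e) (expVec n a i e') : ℤ) : ℂ) * (w ^ e * conj (w ^ e')) := by
  classical
  have hmod : ∀ e : ℕ, w ^ e = w ^ (e % n) := fun e => by
    conv_lhs => rw [← Nat.mod_add_div e n, pow_add, pow_mul, hw, one_pow, mul_one]
  simp only [zForm, Int.cast_sum, Int.cast_mul, Finset.sum_mul]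
  rw [cycloForm]
  symm
  rw [Finset.sum_congr rfl fun e _ => Finset.sum_comm (s := Finset.range n) (t := T),
    Finset.sum_comm (s := Finset.range n) (t := T)]
  refine Finset.sum_congr rfl fun φ _ => ?_
  rw [Finset.sum_congr rfl fun e _ => Finset.sum_comm (s := Finset.range n) (t := T),
    Finset.sum_comm (s := Finset.range n) (t := T)]
  refine Finset.sum_congr rfl fun θ _ => ?_
  rw [Finset.sum_eq_single (i φ % n), Finset.sum_eq_single (i θ % n)]
  · simp only [expVec, if_true, Int.cast_natCast, ← hmod]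
    ring
  · intro e _ he
    simp [expVec, Ne.symm he]
  · intro h; exact absurd (Finset.mem_range.mpr (Nat.mod_lt _ hn)) h
  · intro e _ he
    refine Finset.sum_eq_zero fun e' _ => ?_
    simp [expVec, Ne.symm he]
  · intro h; exact absurd (Finset.mem_range.mpr (Nat.mod_lt _ hn)) h

/-- The sum of the conjugates of a cyclotomic form, class by class. -/
theorem sum_cycloForm_eq (hp : p.Prime) (k : ℕ) (hZ : ∀ φ θ, Z φ θ = Z θ φ) (a i : κ → ℕ) :
    2 * ∑ w ∈ primitiveRoots (p ^ (k + 1)) ℂ, cycloForm T Z a a i i w =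
      ((p ^ k : ℕ) : ℂ) * ((∑ r : Fin (p ^ k), ∑ x : Fin p, ∑ y : Fin p,
        zForm T Z (expVec (p ^ (k + 1)) a i (r + x * p ^ k) - expVec (p ^ (k + 1)) a i (r + y * p ^ k))
          (expVec (p ^ (k + 1)) a i (r + x * p ^ k) - expVec (p ^ (k + 1)) a i (r + y * p ^ k))
          : ℤ) : ℂ) := by
  classical
  set N := p ^ k with hN
  set n := p ^ (k + 1) with hn
  have hnN : n = p * N := by rw [hn, hN, pow_succ']
  have hn0 : 0 < n := Nat.pow_pos hp.pos
  have hN0 : 0 < N := Nat.pow_pos hp.pos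
  let v : ℕ → κ → ℤ := expVec n a i
  -- reindex the exponents
  let code : Fin N × Fin p → ℕ := fun z => (z.1 : ℕ) + z.2 * N
  have hlt : ∀ z, code z < n := fun z => by
    have h1 := z.1.isLt
    have h2 : ((z.2 : ℕ) + 1) * N ≤ p * N := Nat.mul_le_mul_right _ z.2.isLt
    show (z.1 : ℕ) + z.2 * N < n
    rw [hnN]
    nlinarith
  have hmodN : ∀ z, code z % N = (z.1 : ℕ) := fun z => by
    show ((z.1 : ℕ) + z.2 * N) % N = z.1
    rw [Nat.add_mul_mod_self_right, Nat.mod_eq_of_lt z.1.isLt]
  have hinj : Function.Injective code := fun z z' h => by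
    have h1 : (z.1 : ℕ) = z'.1 := by rw [← hmodN, ← hmodN z', h]
    refine Prod.ext (Fin.ext h1) (Fin.ext ?_)
    have h2 : (z.1 : ℕ) + z.2 * N = z'.1 + z'.2 * N := h
    exact Nat.eq_of_mul_eq_mul_right hN0 (by omega)
  have hre : ∀ f : ℕ → ℂ, ∑ e ∈ Finset.range n, f e = ∑ z : Fin N × Fin p, f (code z) := by
    intro f
    symm
    refine Finset.sum_bij (fun z _ => code z) (fun z _ => Finset.mem_range.mpr (hlt z))
      (fun z _ z' _ h => hinj h) (fun e he => ?_) fun z _ => rfl
    have he' : e < p * N := hnN ▸ Finset.mem_range.mp he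
    exact ⟨(⟨e % N, Nat.mod_lt _ hN0⟩, ⟨e / N, Nat.div_lt_of_lt_mul (by rwa [mul_comm])⟩),
      Finset.mem_univ _, by show e % N + e / N * N = e; rw [mul_comm (e / N)]; exact Nat.mod_add_div e N⟩
  rw [Finset.sum_congr rfl fun w hw => cycloForm_eq_sum_expVec hn0 a i
    ((mem_primitiveRoots hn0).mp hw).pow_eq_one]
  rw [Finset.sum_comm, Finset.sum_congr rfl fun e _ => Finset.sum_comm,
    Finset.sum_congr rfl fun e he => Finset.sum_congr rfl fun e' he' => by
      rw [← Finset.mul_sum, sum_primitive_pow_mul_conj hp (Finset.mem_range.mp he)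
        (Finset.mem_range.mp he'), mul_sub, mul_ite, mul_ite, mul_zero, ← hN, ← hn]]
  simp only [Finset.sum_sub_distrib, hre, hmodN, hinj.eq_iff, Fin.val_inj, Finset.sum_ite_eq,
    Finset.mem_univ, if_true]
  simp only [Fintype.sum_prod_type, Finset.sum_ite_irrel, Finset.sum_const_zero, Finset.sum_ite_eq,
    Finset.mem_univ, if_true, sum_sum_sub hZ, Fintype.card_fin, code, hnN]
  push_cast
  simp only [mul_sub, Finset.sum_sub_distrib, Finset.mul_sum]
  refine congrArg₂ (· - ·) ?_ ?_
  · exact Finset.sum_congr rfl fun r _ => Finset.sum_congr rfl fun x _ => by ring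
  · exact Finset.sum_congr rfl fun r _ => Finset.sum_congr rfl fun x _ =>
      Finset.sum_congr rfl fun y _ => by ring

/-- The average of a semidefinite form at a vector of `ℤ[ζ]` outside its kernel. -/
theorem avg_form_ge (hp : p.Prime) (k : ℕ) (hZ : ∀ φ θ, Z φ θ = Z θ φ)
    (hpsd : ∀ u, 0 ≤ zForm T Z u u) (a i : κ → ℕ) {ζ : ℂ} (hζ : IsPrimitiveRoot ζ (p ^ k))
    (hne : cycloForm T Z a a i i ζ ≠ 0) {c : ℤ}
    (hc : ∀ u, zForm T Z u u ≠ 0 → c ≤ zForm T Z u u) :
    ∃ S : ℤ, ∑ w ∈ primitiveRoots (p ^ k) ℂ, cycloForm T Z a a i i w = (S : ℂ) ∧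
      c * ((primitiveRoots (p ^ k) ℂ).card : ℤ) ≤ S := by
  classical
  cases k with
  | zero =>
    rw [pow_zero, IsPrimitiveRoot.one_right_iff] at hζ
    subst hζ
    have h1 : cycloForm T Z a a i i 1 = ((zForm T Z (fun φ => (a φ : ℤ)) (fun φ => (a φ : ℤ)) : ℤ) : ℂ) := by
      simp only [cycloForm, zForm, Int.cast_sum, Int.cast_mul, Int.cast_natCast, one_pow, map_one,
        mul_one]
      exact Finset.sum_congr rfl fun φ _ => Finset.sum_congr rfl fun θ _ => by ring
    refine ⟨zForm T Z (fun φ => (a φ : ℤ)) (fun φ => (a φ : ℤ)), ?_, ?_⟩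
    · rw [pow_zero, IsPrimitiveRoot.primitiveRoots_one, Finset.sum_singleton, h1]
    · rw [pow_zero, IsPrimitiveRoot.primitiveRoots_one, Finset.card_singleton, Nat.cast_one, mul_one]
      exact hc _ fun h0 => hne (by rw [h1, h0, Int.cast_zero])
  | succ k =>
    set N := p ^ k with hN
    have hn0 : 0 < p ^ (k + 1) := Nat.pow_pos hp.pos
    have hN0 : 0 < N := Nat.pow_pos hp.pos
    let f : Fin N → Fin p → κ → ℤ := fun r x => expVec (p ^ (k + 1)) a i ((r : ℕ) + x * N)
    set F : Fin N → ℤ := fun r => ∑ x, ∑ y, zForm T Z (f r x - f r y) (f r x - f r y) with hF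
    have hex : ∃ r, ∃ x y, zForm T Z (f r x - f r y) (f r x - f r y) ≠ 0 := by
      by_contra hall
      push Not at hall
      apply hne
      rw [cycloForm_eq_sum_expVec hn0 a i hζ.pow_eq_one]
      -- the first vector may be moved within its class
      have hmove : ∀ e < p ^ (k + 1), ∀ u, zForm T Z (expVec (p ^ (k + 1)) a i e) u =
          zForm T Z (expVec (p ^ (k + 1)) a i (e % N)) u := by
        intro e he u
        have hx : e / N < p := Nat.div_lt_of_lt_mul (by rwa [hN, ← pow_succ])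
        have h := zForm_eq_zero_of_self_eq_zero hZ hpsd
          (hall ⟨e % N, Nat.mod_lt _ hN0⟩ ⟨e / N, hx⟩ ⟨0, hp.pos⟩) u
        rw [zForm_sub_left, sub_eq_zero] at h
        simp only [f, Nat.zero_mul, add_zero, mul_comm (e / N), Nat.mod_add_div] at h
        exact h
      have hzero : ∀ g : ℕ → ℂ, (∀ e < p ^ (k + 1), g e = g (e % N)) →
          ∑ e ∈ Finset.range (p ^ (k + 1)), g e * ζ ^ e = 0 := by
        intro g hg
        have hroot : IsPrimitiveRoot (ζ ^ N) p := hζ.pow hn0 (by rw [hN, pow_succ])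
        rw [show p ^ (k + 1) = p * N by rw [hN, pow_succ'],
          ← Fin.sum_univ_eq_sum_range (fun e => g e * ζ ^ e) (p * N),
          ← Fintype.sum_equiv (finProdFinEquiv : Fin p × Fin N ≃ Fin (p * N))
            (fun z : Fin p × Fin N => g ((z.2 : ℕ) * 1 + N * z.1) *
              ζ ^ ((z.2 : ℕ) * 1 + N * z.1)) _ fun z => ?_]
        · rw [Fintype.sum_prod_type, Finset.sum_comm]
          refine Finset.sum_eq_zero fun r _ => ?_
          have hgr : ∀ x : Fin p, g ((r : ℕ) * 1 + N * x) = g r := fun x => by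
            rw [mul_one, hg _ (by
              have h1 := r.isLt
              have h2 : N * ((x : ℕ) + 1) ≤ N * p := Nat.mul_le_mul_left _ x.isLt
              rw [pow_succ, ← hN]
              nlinarith), Nat.add_mul_mod_self_left, Nat.mod_eq_of_lt r.isLt]
          simp only [hgr]
          simp only [pow_add, pow_mul, mul_one, ← mul_assoc]
          rw [← Finset.mul_sum]
          rw [Fin.sum_univ_eq_sum_range (fun x => (ζ ^ N) ^ x) p,
            hroot.geom_sum_eq_zero hp.one_lt, mul_zero]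
        · obtain ⟨x, r⟩ := z
          simp [finProdFinEquiv]
      rw [Finset.sum_comm]
      refine Finset.sum_eq_zero fun e' _ => ?_
      have := hzero (fun e => ((zForm T Z (expVec (p ^ (k + 1)) a i e)
        (expVec (p ^ (k + 1)) a i e') : ℤ) : ℂ)) (fun e he => by rw [hmove e he])
      calc _ = (∑ e ∈ Finset.range (p ^ (k + 1)),
            ((zForm T Z (expVec (p ^ (k + 1)) a i e) (expVec (p ^ (k + 1)) a i e') : ℤ) : ℂ) *
              ζ ^ e) * conj (ζ ^ e') := by
            rw [Finset.sum_mul]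
            exact Finset.sum_congr rfl fun e _ => by ring
        _ = 0 := by rw [this, zero_mul]
    have hFnn : ∀ r, 0 ≤ F r := fun r =>
      Finset.sum_nonneg fun _ _ => Finset.sum_nonneg fun _ _ => hpsd _
    obtain ⟨r₀, hr₀⟩ := hex
    have hF0 : 2 * ((p : ℤ) - 1) * c ≤ F r₀ := by
      simpa using two_mul_le_sum_sum hZ hpsd (f r₀) hc hr₀
    have hsum := sum_cycloForm_eq (T := T) hp k hZ a i
    obtain ⟨S, hS⟩ : ∃ S : ℤ, ∑ r, F r = 2 * S := by
      refine ⟨∑ r, ((p : ℤ) * ∑ x, zForm T Z (f r x) (f r x) -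
        ∑ x, ∑ y, zForm T Z (f r x) (f r y)), ?_⟩
      rw [Finset.mul_sum]
      exact Finset.sum_congr rfl fun r _ => by simp only [hF, sum_sum_sub hZ, Fintype.card_fin]
    refine ⟨(N : ℤ) * S, ?_, ?_⟩
    · have h2 : (∑ r, F r : ℤ) = ∑ r : Fin (p ^ k), ∑ x : Fin p, ∑ y : Fin p,
          zForm T Z (expVec (p ^ (k + 1)) a i (r + x * p ^ k) -
              expVec (p ^ (k + 1)) a i (r + y * p ^ k))
            (expVec (p ^ (k + 1)) a i (r + x * p ^ k) -
              expVec (p ^ (k + 1)) a i (r + y * p ^ k)) := rfl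
      rw [← h2, hS] at hsum
      simp only [hN]
      push_cast at hsum ⊢
      linear_combination hsum / 2
    · have hcard : ((primitiveRoots (p ^ (k + 1)) ℂ).card : ℤ) = (N : ℤ) * ((p : ℤ) - 1) := by
        rw [hζ.card_primitiveRoots, Nat.totient_prime_pow_succ hp, Nat.cast_mul,
          Nat.cast_sub hp.one_lt.le, Nat.cast_one]
      have hle : ((p : ℤ) - 1) * c ≤ S := by
        have := (hF0.trans (Finset.single_le_sum (fun r _ => hFnn r) (Finset.mem_univ r₀))).trans_eq hS
        linarith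
      rw [hcard]
      calc c * ((N : ℤ) * ((p : ℤ) - 1)) = (N : ℤ) * (((p : ℤ) - 1) * c) := by ring
        _ ≤ (N : ℤ) * S := mul_le_mul_of_nonneg_left hle (Int.natCast_nonneg _)

/-- The average of the square of a linear form with nonzero value in the prime above `p`. -/
theorem avg_sq_ge_two (hp : p.Prime) (k : ℕ) (s : κ → ℤ) (a i : κ → ℕ) {ζ : ℂ}
    (hζ : IsPrimitiveRoot ζ (p ^ k))
    (hne : cycloForm T (fun φ θ => s φ * s θ) a a i i ζ ≠ 0)
    (hdvd : (p : ℤ) ∣ ∑ φ ∈ T, (a φ : ℤ) * s φ) :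
    ∃ S : ℤ, ∑ w ∈ primitiveRoots (p ^ k) ℂ, cycloForm T (fun φ θ => s φ * s θ) a a i i w =
        (S : ℂ) ∧ 2 * ((primitiveRoots (p ^ k) ℂ).card : ℤ) ≤ S := by
  classical
  set Z : κ → κ → ℤ := fun φ θ => s φ * s θ with hZdef
  have hZ : ∀ φ θ, Z φ θ = Z θ φ := fun φ θ => mul_comm _ _
  have hform : ∀ u v, zForm T Z u v = (∑ φ ∈ T, s φ * u φ) * ∑ θ ∈ T, s θ * v θ := fun u v => by
    rw [Finset.sum_mul_sum]
    exact Finset.sum_congr rfl fun φ _ => Finset.sum_congr rfl fun θ _ => by rw [hZdef]; ring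
  have hpsd : ∀ u, 0 ≤ zForm T Z u u := fun u => by rw [hform]; exact mul_self_nonneg _
  have hc : ∀ u, zForm T Z u u ≠ 0 → (1 : ℤ) ≤ zForm T Z u u := fun u hu => by
    have := hpsd u
    omega
  have htwo : (2 : ℤ) ≤ (p : ℤ) := by exact_mod_cast hp.two_le
  cases k with
  | zero =>
    rw [pow_zero, IsPrimitiveRoot.one_right_iff] at hζ
    subst hζ
    have h1 : cycloForm T Z a a i i 1 =
        ((((∑ φ ∈ T, (a φ : ℤ) * s φ) * ∑ φ ∈ T, (a φ : ℤ) * s φ) : ℤ) : ℂ) := by
      rw [Finset.sum_mul_sum, cycloForm]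
      simp only [Int.cast_sum, Int.cast_mul, Int.cast_natCast, one_pow, map_one, mul_one, hZdef]
      exact Finset.sum_congr rfl fun φ _ => Finset.sum_congr rfl fun θ _ => by push_cast; ring
    refine ⟨(∑ φ ∈ T, (a φ : ℤ) * s φ) * ∑ φ ∈ T, (a φ : ℤ) * s φ, ?_, ?_⟩
    · rw [pow_zero, IsPrimitiveRoot.primitiveRoots_one, Finset.sum_singleton, h1]
    · rw [pow_zero, IsPrimitiveRoot.primitiveRoots_one, Finset.card_singleton, Nat.cast_one, mul_one]
      obtain ⟨t, ht⟩ := hdvd
      have ht0 : t ≠ 0 := fun h0 => hne (by rw [h1, ht, h0]; simp)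
      rw [ht]
      have : 1 ≤ t * t := by
        rcases lt_or_gt_of_ne ht0 with h | h <;> nlinarith
      have h4 : (4 : ℤ) * 1 ≤ (p : ℤ) * p * (t * t) :=
        mul_le_mul (by nlinarith) this zero_le_one (by positivity)
      linarith
  | succ k =>
    obtain ⟨S0, hS0, hS0le⟩ := avg_form_ge (T := T) hp (k + 1) hZ hpsd a i hζ hne hc
    set N := p ^ k with hN
    have hN0 : 0 < N := Nat.pow_pos hp.pos
    let σ : Fin N → Fin p → ℤ := fun r x =>
      ∑ φ ∈ T, s φ * expVec (p ^ (k + 1)) a i ((r : ℕ) + x * N) φ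
    let F : Fin N → ℤ := fun r => ∑ x, ∑ y, (σ r x - σ r y) * (σ r x - σ r y)
    have hFf : ∀ r x y, zForm T Z
        (expVec (p ^ (k + 1)) a i ((r : Fin N) + (x : Fin p) * N) -
          expVec (p ^ (k + 1)) a i (r + (y : Fin p) * N))
        (expVec (p ^ (k + 1)) a i (r + x * N) - expVec (p ^ (k + 1)) a i (r + y * N)) =
        (σ r x - σ r y) * (σ r x - σ r y) := fun r x y => by
      rw [hform]
      simp only [σ, Pi.sub_apply, mul_sub, Finset.sum_sub_distrib]
    have hsum := sum_cycloForm_eq (T := T) hp k hZ a i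
    simp only [← hN, hFf] at hsum
    rw [hS0] at hsum
    have hF : (2 : ℤ) * S0 = (N : ℤ) * ∑ r, F r := by exact_mod_cast hsum
    have hF0 : ∀ r, 0 ≤ F r := fun r =>
      Finset.sum_nonneg fun _ _ => Finset.sum_nonneg fun _ _ => mul_self_nonneg _
    have hFnon : ∀ r, (∃ x y, σ r x ≠ σ r y) → 2 * ((p : ℤ) - 1) ≤ F r := by
      rintro r ⟨x, y, hxy⟩
      have h := two_mul_le_sum_sum (T := T) hZ hpsd
        (fun x : Fin p => expVec (p ^ (k + 1)) a i ((r : ℕ) + x * N)) hc
        ⟨x, y, by rw [hFf]; exact mul_self_ne_zero.mpr (sub_ne_zero.mpr hxy)⟩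
      simp only [hFf, Fintype.card_fin, mul_one] at h
      exact h
    have hexpand : ∀ (c : Fin p → ℤ), ∑ x, ∑ y, (c x - c y) * (c x - c y) =
        2 * ((p : ℤ) * ∑ x, c x * c x - (∑ x, c x) * ∑ y, c y) := by
      intro c
      rw [Finset.sum_mul_sum]
      simp only [sub_mul, mul_sub, Finset.sum_sub_distrib, Finset.sum_const, Finset.card_univ,
        Fintype.card_fin, nsmul_eq_mul, ← Finset.mul_sum]
      rw [Finset.sum_comm (f := fun x y => c y * c x)]
      simp only [← Finset.mul_sum]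
      ring
    have htotal : ∑ r, ∑ x, σ r x = ∑ φ ∈ T, (a φ : ℤ) * s φ := by
      simp only [σ]
      rw [Finset.sum_congr rfl fun r _ => Finset.sum_comm, Finset.sum_comm]
      refine Finset.sum_congr rfl fun φ _ => ?_
      have hlt : i φ % p ^ (k + 1) < p * N := by
        rw [hN, ← pow_succ']
        exact Nat.mod_lt _ (Nat.pow_pos hp.pos)
      rw [Finset.sum_eq_single ⟨i φ % p ^ (k + 1) % N, Nat.mod_lt _ hN0⟩,
        Finset.sum_eq_single ⟨i φ % p ^ (k + 1) / N, Nat.div_lt_of_lt_mul (by rwa [mul_comm])⟩]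
      · simp only [expVec]
        rw [if_pos (by rw [mul_comm _ N, Nat.mod_add_div])]
        ring
      · intro x _ hx
        simp only [expVec]
        rw [if_neg, mul_zero]
        intro h
        apply hx
        refine Fin.ext ?_
        have h2 := congrArg (· / N) h
        rw [Nat.add_mul_div_right _ _ hN0, Nat.div_eq_of_lt (Nat.mod_lt _ hN0), zero_add] at h2
        exact h2.symm
      · simp
      · intro r _ hr
        refine Finset.sum_eq_zero fun x _ => ?_
        simp only [expVec]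
        rw [if_neg, mul_zero]
        intro h
        apply hr
        refine Fin.ext ?_
        have h2 := congrArg (· % N) h
        rw [Nat.add_mul_mod_self_right, Nat.mod_eq_of_lt r.isLt] at h2
        exact h2.symm
      · simp
    have hcard : ((primitiveRoots (p ^ (k + 1)) ℂ).card : ℤ) = (N : ℤ) * ((p : ℤ) - 1) := by
      rw [hζ.card_primitiveRoots, Nat.totient_prime_pow_succ hp, Nat.cast_mul,
        Nat.cast_sub hp.one_lt.le, Nat.cast_one]
    refine ⟨S0, hS0, ?_⟩
    suffices hkey : 4 * ((p : ℤ) - 1) ≤ ∑ r, F r by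
      rw [hcard]
      have : (N : ℤ) * (4 * ((p : ℤ) - 1)) ≤ (N : ℤ) * ∑ r, F r :=
        mul_le_mul_of_nonneg_left hkey (Int.natCast_nonneg _)
      linarith
    obtain ⟨r₀, hr₀⟩ : ∃ r, ∃ x y, σ r x ≠ σ r y := by
      by_contra hall
      push Not at hall
      have hz : ∑ r, F r = 0 := Finset.sum_eq_zero fun r _ => Finset.sum_eq_zero fun x _ =>
        Finset.sum_eq_zero fun y _ => by rw [hall r x y]; simp
      have hpos : (0 : ℤ) < (primitiveRoots (p ^ (k + 1)) ℂ).card := by
        exact_mod_cast Finset.card_pos.mpr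
          ⟨ζ, (mem_primitiveRoots (Nat.pow_pos hp.pos)).mpr hζ⟩
      rw [hz, mul_zero] at hF
      linarith
    by_cases hsecond : ∃ r, r ≠ r₀ ∧ ∃ x y, σ r x ≠ σ r y
    · obtain ⟨r₁, hr₁, hr₁'⟩ := hsecond
      calc 4 * ((p : ℤ) - 1) ≤ F r₀ + F r₁ := by linarith [hFnon r₀ hr₀, hFnon r₁ hr₁']
        _ = ∑ r ∈ ({r₀, r₁} : Finset (Fin N)), F r := (Finset.sum_pair (Ne.symm hr₁)).symm
        _ ≤ ∑ r, F r := Finset.sum_le_sum_of_subset_of_nonneg (Finset.subset_univ _)
            fun r _ _ => hF0 r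
    · push Not at hsecond
      have hS : (p : ℤ) ∣ ∑ x, σ r₀ x := by
        have hd := hdvd
        rw [← htotal, ← Finset.sum_erase_add _ _ (Finset.mem_univ r₀)] at hd
        refine (dvd_add_right (Finset.dvd_sum fun r hr => ?_)).mp hd
        have hconst := hsecond r (Finset.ne_of_mem_erase hr)
        rw [Finset.sum_congr rfl fun x _ => hconst x ⟨0, hp.pos⟩, Finset.sum_const,
          Finset.card_univ, Fintype.card_fin, nsmul_eq_mul]
        exact dvd_mul_right _ _
      obtain ⟨t, ht⟩ := hS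
      let d : Fin p → ℤ := fun x => σ r₀ x - t
      have hd0 : ∑ x, d x = 0 := by
        simp only [d, Finset.sum_sub_distrib, ht, Finset.sum_const, Finset.card_univ,
          Fintype.card_fin, nsmul_eq_mul, sub_self]
      have hFd : F r₀ = 2 * ((p : ℤ) * ∑ x, d x * d x) := by
        have h := hexpand d
        rw [hd0, mul_zero, sub_zero] at h
        rw [← h]
        exact Finset.sum_congr rfl fun x _ => Finset.sum_congr rfl fun y _ => by simp [d]
      obtain ⟨x, y, hxy⟩ := hr₀
      have hd2 : (2 : ℤ) ≤ ∑ x, d x * d x := by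
        have hne0 : ∃ x, d x ≠ 0 := by
          by_contra hall
          push Not at hall
          exact hxy (by have := hall x; have := hall y; simp only [d] at *; linarith)
        obtain ⟨u, hu⟩ := hne0
        have hother : ∃ v, v ≠ u ∧ d v ≠ 0 := by
          by_contra hall
          push Not at hall
          rw [Finset.sum_eq_single u (fun v _ hv => hall v hv) (by simp)] at hd0
          exact hu hd0
        obtain ⟨v, hv, hv0⟩ := hother
        have h1 : (0 : ℤ) < d u * d u := mul_self_pos.mpr hu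
        have h2 : (0 : ℤ) < d v * d v := mul_self_pos.mpr hv0
        calc (2 : ℤ) ≤ d u * d u + d v * d v := by linarith
          _ = ∑ z ∈ ({u, v} : Finset (Fin p)), d z * d z :=
            (Finset.sum_pair (f := fun z => d z * d z) (Ne.symm hv)).symm
          _ ≤ _ := Finset.sum_le_sum_of_subset_of_nonneg (Finset.subset_univ _)
              fun z _ _ => mul_self_nonneg _
      have hle := Finset.single_le_sum (fun r _ => hF0 r) (Finset.mem_univ r₀)
      nlinarith

end CfsgLib.BlockRank
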