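import Cfsg.Agent.Lib.BlockRank.MinNorm
import Cfsg.Agent.Lib.BlockRank.NilpotentAbelian
import Cfsg.Agent.S4710

/-!
# The Brauer–Feit bounds `k ≤ p^d` for `d ≤ 2` and `k ≤ p^(2d-2)` for `d ≥ 3`
-/

set_option autoImplicit false
set_option maxHeartbeats 800000
set_option synthInstance.maxHeartbeats 400000

open Cfsg CfsgLib.Blocks CfsgLib.Blocks.Pairs CfsgLib.BlockRank
open scoped Classical

namespace CfsgLib.BrauerFeit

universe u

variable {G : Type u} [Group G] [Finite G] {p : ℕ} [Fact p.Prime] {M : Ideal AlgInt}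

/-- A central element of a defect group carries a major subsection. -/
theorem exists_major_central [M.IsMaximal] [CharP (ResField M) p] (hM : IsPModular p M)
    {B : Set (IrrCharacter G)} (hB : IsPBlock M B) {P : Subgroup G}
    (hD : IsDefectGroup p M B P) {u : G} (hu : u ∈ P) (huc : ∀ a ∈ P, a * u = u * a)
    {C : Subgroup G} (hC : C = Subgroup.centralizer ({u} : Set G)) :
    ∃ b, IsInducedBlock M C b B ∧ blockDefect p b = blockDefect p B := by
  subst hC
  have hmax := (isDefectGroup_iff_maxR hM hB).1 hD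
  obtain ⟨e, hP⟩ := exists_pairOf (p := p) (isBlockIdem_ebar hB) hmax.pgroup hmax.ne_zero
  have hno := hmax.noExt hP
  obtain ⟨f, hle⟩ := (existsUnique_sle hP.pair (Subgroup.zpowers_le.2 hu)).1
  have hfB := (SLE.pairOf_iff hle).1 hP
  have hH : Subgroup.centralizer ({u} : Set G) =
      Subgroup.centralizer (Subgroup.zpowers u : Set G) := by
    rw [Subgroup.zpowers_eq_closure, Subgroup.centralizer_closure]
  obtain ⟨b, hb, rfl⟩ := exists_eIn_eq (hH.symm ▸ hfB.pair.block)
  refine ⟨b, (isInducedBlock_singleton_iff hM hfB.pair.pgroup hB hb).2 hfB, ?_⟩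
  have hPH : P ≤ (Subgroup.centralizer ({u} : Set G)) := fun a ha => Subgroup.mem_centralizer_singleton_iff.2 (huc a ha)
  have hCH : Subgroup.centralizer (P : Set G) ≤ (Subgroup.centralizer ({u} : Set G)) := by rw [hH]; exact centralizer_anti hle.le
  have hPN : P ≤ Subgroup.normalizer (Subgroup.zpowers u : Set G) :=
    (hPH.trans hH.le).trans (Subgroup.centralizer_le_normalizer _)
  obtain ⟨f', hf'⟩ := exists_ns hP.pair hle.le hPN
  have hff : eIn hb = f' := SLE.unique hP.pair hle hf'.sle
  subst hff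
  have hf := (hle.pair_left hP.pair).block
  rw [← hH] at hf
  have hes : SuppIn (Subgroup.centralizer ({u} : Set G)) e := hP.pair.block.mem.supp.mono hCH
  have hsupp : SuppIn (Subgroup.centralizer ({u} : Set G)) (eIn hb) := hf.mem.supp
  have hbl : IsBlockIdem (⊤ : Subgroup (Subgroup.centralizer ({u} : Set G))) (down (Subgroup.centralizer ({u} : Set G)) (eIn hb)) := by
    rw [← isBlockIdem_up_iff, up_down hsupp, ← MonoidHom.range_eq_map, Subgroup.range_subtype]
    exact hf
  have hP' : PairOf p (down (Subgroup.centralizer ({u} : Set G)) (eIn hb)) (P.subgroupOf (Subgroup.centralizer ({u} : Set G))) (down (Subgroup.centralizer ({u} : Set G)) e) := by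
    refine ⟨hbl, hP.pair.down_of_le hPH hCH, up_injective (Subgroup.centralizer ({u} : Set G)) ?_⟩
    rw [up_mul, up_trunc, up_down hsupp, up_down hes, Subgroup.map_subgroupOf_eq_of_le hPH]
    exact hf'.br
  have hno' : NoExt p (P.subgroupOf (Subgroup.centralizer ({u} : Set G))) (down (Subgroup.centralizer ({u} : Set G)) e) := noExt_down hP.pair hPH hCH hno
  rw [show down (Subgroup.centralizer ({u} : Set G)) (eIn hb) = ebar hb by rw [eIn, down_up]] at hP'
  refine Nat.pow_right_injective (Fact.out : p.Prime).two_le ?_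
  show p ^ blockDefect p b = p ^ blockDefect p B
  rw [← card_defectGroup hM hb ((isDefectGroup_iff_maxR hM hb).2 (maxR_of_noExt hP' hno')),
    ← card_defectGroup hM hB hD]
  exact Nat.card_congr (Subgroup.subgroupOfEquivOfLe hPH).toEquiv

theorem defect_add_minExp (hM : IsPModular p M) {B : Set (IrrCharacter G)} (hB : IsPBlock M B) :
    blockDefect p B + CfsgLib.BlockReg.minExp p B = (Nat.card G).factorization p := by
  obtain ⟨χ₀, hχ₀, hχ₀m⟩ := CfsgLib.BlockReg.exists_minExp (p := p)
    (CfsgLib.BlockReg.block_nonempty hM hB)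
  have hle := CfsgLib.BlockReg.factorization_deg_le (p := p) χ₀
  rw [CfsgLib.BlockReg.blockDefect_eq]
  omega

/-- The two bounds. -/
theorem card_block_le (hM : IsPModular p M) (d : ℕ) :
    ∀ {G : Type u} [Group G] [Finite G] {B : Set (IrrCharacter G)}, IsPBlock M B →
      blockDefect p B = d →
      (d ≤ 2 → Nat.card B ≤ p ^ d) ∧ (3 ≤ d → Nat.card B ≤ p ^ (2 * d - 2)) := by
  induction d using Nat.strong_induction_on with
  | _ d ih =>
  intro G _ _ B hB hd
  have hp : p.Prime := Fact.out
  haveI : M.IsMaximal := hM.2.1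
  haveI : CharP (ResField M) p := charP_resField hM.1 hM.2.2
  cases nonempty_fintype G
  obtain ⟨hpos, hhts⟩ := Cfsg.Agent.S4710.result p M hM B hB d hd
  by_cases hposE : ∃ χ ∈ B, 0 < blockHeight p B (χ : G → ℂ)
  · refine ⟨fun h2 => ?_, fun _ => by have := hpos hposE; omega⟩
    obtain ⟨χ, hχ, hχ0⟩ := hposE
    rcases le_or_gt d 1 with h | h
    · have := (hhts χ hχ).1 h
      omega
    · have := (hhts χ hχ).2 h
      omega
  push Not at hposE
  have hh : ∀ χ ∈ B, (charDegree (χ : G → ℂ)).factorization p = CfsgLib.BlockReg.minExp p B := by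
    intro χ hχ
    have h := hposE χ hχ
    rw [CfsgLib.BlockReg.blockHeight_eq] at h
    have := CfsgLib.BlockReg.minExp_le (p := p) hχ
    omega
  rcases Nat.eq_zero_or_pos d with hd0 | hd0
  · subst hd0
    refine ⟨fun _ => ?_, fun h => by omega⟩
    have h := CfsgLib.BlockReg.brauer_feit hM hB
    rw [hd, Nat.mul_zero, pow_zero] at h
    rw [pow_zero]
    omega
  -- a central element of order `p` of a defect group
  obtain ⟨D, hD⟩ := exists_defectGroup hM hB
  have hcard : Nat.card D = p ^ d := by rw [card_defectGroup hM hB hD, hd]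
  have hDp := isPGroup_defectGroup hD
  haveI : Nontrivial D := Finite.one_lt_card_iff_nontrivial.1 (by
    rw [hcard]; exact Nat.one_lt_pow (by omega) hp.one_lt)
  have hZdvd : p ∣ Nat.card (Subgroup.center D) := by
    obtain ⟨n, hn⟩ := IsPGroup.iff_card.1 (hDp.to_subgroup (Subgroup.center D))
    haveI := hDp.center_nontrivial
    rw [hn]
    refine dvd_pow_self p fun h0 => ?_
    rw [h0, pow_zero] at hn
    exact absurd hn (ne_of_gt Finite.one_lt_card)
  obtain ⟨⟨⟨u, huD⟩, huZ⟩, huo⟩ := exists_prime_orderOf_dvd_card' p hZdvd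
  rw [← Subgroup.orderOf_coe, ← Subgroup.orderOf_coe] at huo
  simp only at huo
  have huc : ∀ a ∈ D, a * u = u * a := fun a ha =>
    congrArg Subtype.val (Subgroup.mem_center_iff.1 huZ ⟨a, ha⟩)
  obtain ⟨C, hC⟩ : ∃ C : Subgroup G, C = Subgroup.centralizer ({u} : Set G) := ⟨_, rfl⟩
  obtain ⟨b, hind, hbd⟩ := exists_major_central hM hB hD huD huc hC
  haveI := Fintype.ofFinite C
  have hbB : IsPBlock M b := hind.1
  -- the quotient by `⟨u⟩`
  have huC : u ∈ C := hC ▸ Subgroup.mem_centralizer_singleton_iff.2 rfl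
  set N : Subgroup C := Subgroup.zpowers ⟨u, huC⟩ with hN
  have hNc : N ≤ Subgroup.center C := Subgroup.zpowers_le.2 (Subgroup.mem_center_iff.2 fun g =>
    Subtype.ext (Subgroup.mem_centralizer_singleton_iff.1 (hC ▸ g.2 : (g : G) ∈ Subgroup.centralizer ({u} : Set G))))
  have hNcard : Nat.card N = p := by rw [hN, Nat.card_zpowers, Subgroup.orderOf_mk, huo]
  have hNp : IsPGroup p N := IsPGroup.of_card (n := 1) (by rw [hNcard, pow_one])
  haveI : N.Normal := ⟨fun n hn g => by
    rwa [Subgroup.mem_center_iff.1 (hNc hn) g, mul_inv_cancel_right]⟩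
  haveI := Fintype.ofFinite (C ⧸ N)
  obtain ⟨bbar, hbbar, hiff, hdd⟩ := CfsgLib.CentralQuot.exists_quotient_block N hM hNc hNp hbB
  rw [hNcard, hbd, hd, ← pow_succ'] at hdd
  have hdbar : blockDefect p bbar = d - 1 := by
    have := Nat.pow_right_injective hp.two_le hdd
    omega
  have hrk : blockRank p b ≤ blockRank p bbar :=
    CfsgLib.CentralQuot.blockRank_le N hM hNc hNp hbB hbbar hiff
  have hrk2 : blockRank p b ≤ Nat.card bbar := hrk.trans (blockRank_le_card bbar)
  obtain ⟨ih1, ih2⟩ := ih (d - 1) (by omega) hbbar hdbar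
  haveI := Fintype.ofFinite b
  haveI := Fintype.ofFinite B
  have hxk : orderOf u = p ^ 1 := by rw [pow_one, huo]
  have hbd' : d + CfsgLib.BlockReg.minExp p b = (Nat.card C).factorization p := by
    rw [← defect_add_minExp hM hbB, hbd, hd]
  refine ⟨fun h2 => ?_, fun h3 => ?_⟩
  · by_cases hd1 : d = 1
    · have hl : blockRank p b = 1 := by
        have h1 := ih1 (by omega)
        have h0 := blockRank_pos (p := p) hp.ne_one (CfsgLib.BlockReg.block_nonempty hM hbB)
        rw [hd1] at h1
        simp only [Nat.sub_self, pow_zero] at h1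
        omega
      have := card_le_of_rankOne_major hM hC ⟨1, hxk⟩ hind (by rw [hbd]) hl
      rwa [hd] at this
    · have hd2 : d = 2 := by omega
      rw [Nat.card_eq_fintype_card, ← Set.toFinset_card]
      refine card_le_of_norm_ge hM hC hxk hind hbd' hh fun Z hval u' hu' => ?_
      haveI := Fintype.ofFinite bbar
      have hb1 : 1 + CfsgLib.BlockReg.minExp p bbar = (Nat.card (C ⧸ N)).factorization p := by
        rw [← defect_add_minExp hM hbbar, hdbar, hd2]
      obtain ⟨c, Z', -, -, -, hval', -, -, -⟩ := exists_local_matrix hM hbbar hb1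
      obtain ⟨v, hv⟩ := exists_zForm_quotient hM N hNc hNp hbB hbbar hiff (d := d) (d' := 1)
        (by rw [hNcard, hd2, pow_one, pow_two]) Z hval Z' hval' u'
      rw [hv] at hu' ⊢
      exact le_trans (Int.ofNat_le.2 hrk) (norm_ge_of_defect_one hM hbbar hb1 Z' hval' v hu')
  · have hsq := card_sq_le hM hC ⟨1, hxk⟩ hind hbd' hh
    have hl : blockRank p b ≤ p ^ (2 * d - 4) := by
      refine hrk2.trans ?_
      rcases le_or_gt (d - 1) 2 with h | h
      · exact (ih1 h).trans (Nat.pow_le_pow_right hp.pos (by omega))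
      · exact (ih2 h).trans (Nat.pow_le_pow_right hp.pos (by omega))
    have h1 : Nat.card B ^ 2 ≤ (p ^ (2 * d - 2)) ^ 2 := by
      refine hsq.trans ((Nat.mul_le_mul_left _ hl).trans (le_of_eq ?_))
      rw [← pow_add, ← pow_mul]
      congr 1
      omega
    exact (Nat.pow_le_pow_iff_left two_ne_zero).1 h1

end CfsgLib.BrauerFeit
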