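import Cfsg.Agent.Lib.BlockRank.Basic
import Cfsg.Agent.Lib.BlockRank.Major
import Cfsg.Agent.Lib.Blocks.QuotientDefect
import Cfsg.Agent.Lib.Char.Brauer
import Cfsg.Agent.Lib.Char.Exceptional
import Mathlib.GroupTheory.Nilpotent

/-!
# A block and its image in the quotient by a central `p`-subgroup
-/

set_option autoImplicit false
set_option maxHeartbeats 800000

open Cfsg CfsgLib.Blocks
open scoped ComplexConjugate

namespace CfsgLib.CentralQuot

universe u

variable {G : Type u} [Group G] [Finite G] {p : ℕ} [hp : Fact p.Prime] {M : Ideal Cfsg.AlgInt}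

/-- An exponent killing the `p`-part and fixing the rest. -/
theorem exists_exponent (n : ℕ) (hn : n ≠ 0) :
    ∃ k : ℕ, p ^ n.factorization p ∣ k ∧ k ≡ 1 [MOD n / p ^ n.factorization p] := by
  have hcop : Nat.Coprime (p ^ n.factorization p) (n / p ^ n.factorization p) :=
    (Nat.coprime_ordCompl hp.out hn).pow_left _
  obtain ⟨k, h0, h1⟩ := Nat.chineseRemainder hcop 0 1
  exact ⟨k, Nat.modEq_zero_iff_dvd.1 h0, h1⟩

omit hp in
/-- In a nilpotent group a power map killing one primary part and fixing the others is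
multiplicative. -/
theorem mul_pow_of_nilpotent {P : Type u} [Group P] [Finite P] [Group.IsNilpotent P] {k : ℕ}
    (hk : p ^ (Nat.card P).factorization p ∣ k)
    (hrest : ∀ q : ℕ, q.Prime → q ≠ p → k ≡ 1 [MOD q ^ (Nat.card P).factorization q]) (x y : P) :
    (x * y) ^ k = x ^ k * y ^ k := by
  obtain ⟨e⟩ := ((Group.isNilpotent_of_finite_tfae (G := P)).out 0 4 rfl rfl).1 ‹_›
  apply e.symm.injective
  rw [map_pow, map_mul, map_mul, map_pow, map_pow]
  funext q Q
  simp only [Pi.pow_apply, Pi.mul_apply]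
  haveI hq : Fact (Nat.Prime (q : ℕ)) := ⟨Nat.prime_of_mem_primeFactors q.2⟩
  have hQ : Nat.card (Q : Subgroup P) = (q : ℕ) ^ (Nat.card P).factorization (q : ℕ) :=
    Q.card_eq_multiplicity
  have hpow : ∀ w : (Q : Subgroup P), w ^ k = if (q : ℕ) = p then 1 else w := by
    intro w
    have hw : orderOf w ∣ (q : ℕ) ^ (Nat.card P).factorization (q : ℕ) := hQ ▸ orderOf_dvd_natCard w
    split_ifs with h
    · exact orderOf_dvd_iff_pow_eq_one.1 (hw.trans (by rw [h]; exact hk))
    · calc w ^ k = w ^ 1 := pow_eq_pow_iff_modEq.2 (Nat.ModEq.of_dvd hw (hrest _ hq.out h))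
        _ = w := pow_one w
  rw [hpow, hpow, hpow]
  split_ifs <;> simp

variable (N : Subgroup G) [hN : N.Normal]

theorem index_centralizer_eq (hc : N ≤ Subgroup.center G) :
    (Subgroup.centralizer (N : Set G)).index = p ^ 0 := by
  rw [pow_zero, Subgroup.index_eq_one, Subgroup.centralizer_eq_top_iff_subset]
  exact hc

/-- The function `g ↦ θ(g')` on the quotient, with `g'` the `p`-regular part, is a generalized
character. -/
theorem exists_generalized (hc : N ≤ Subgroup.center G) (hP : IsPGroup p N) {θ : G → ℂ}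
    (hθ : Cfsg.IsGeneralizedCharacter G θ) :
    ∃ F : G ⧸ N → ℂ, Cfsg.IsGeneralizedCharacter (G ⧸ N) F ∧
      ∀ g : G, ¬ p ∣ orderOf g → F g = θ g := by
  classical
  set n := Nat.card G with hn
  obtain ⟨k, hk0, hk1⟩ := exists_exponent (p := p) n Nat.card_pos.ne'
  have hNk : ∀ z ∈ N, z ^ k = 1 := by
    intro z hz
    obtain ⟨j, hj⟩ := IsPGroup.iff_orderOf.1 hP ⟨z, hz⟩
    rw [← Subgroup.orderOf_coe] at hj
    refine orderOf_dvd_iff_pow_eq_one.1 (dvd_trans ?_ hk0)
    change orderOf z = _ at hj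
    rw [hj]
    refine Nat.pow_dvd_pow p ((hp.out.pow_dvd_iff_le_factorization Nat.card_pos.ne').1 ?_)
    exact hj ▸ orderOf_dvd_natCard z
  have hwell : ∀ c d : G, (c : G ⧸ N) = d → c ^ k = d ^ k := by
    intro c d h
    have hz : c⁻¹ * d ∈ N := QuotientGroup.eq.1 h
    have hd : d = c * (c⁻¹ * d) := by group
    rw [hd, Commute.mul_pow (Subgroup.mem_center_iff.1 (hc hz) c), hNk _ hz, mul_one]
  have hfix : ∀ g : G, ¬ p ∣ orderOf g → g ^ k = g := by
    intro g hg
    have hxm : orderOf g ∣ n / p ^ n.factorization p := by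
      refine ((hp.out.coprime_iff_not_dvd.2 hg).symm.pow_right (n.factorization p)).dvd_of_dvd_mul_left ?_
      rw [Nat.ordProj_mul_ordCompl_eq_self]
      exact orderOf_dvd_natCard g
    calc g ^ k = g ^ 1 := pow_eq_pow_iff_modEq.2 (Nat.ModEq.of_dvd hxm hk1)
      _ = g := pow_one g
  refine ⟨fun q => θ (q.out ^ k), ?_, fun g hg => ?_⟩
  swap
  · show θ ((g : G ⧸ N).out ^ k) = θ g
    rw [hwell _ g (QuotientGroup.out_eq' _), hfix g hg]
  have hcl : Cfsg.IsClassFunction (G ⧸ N) (fun q : G ⧸ N => θ (q.out ^ k)) := by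
    intro q d
    obtain ⟨c, rfl⟩ := QuotientGroup.mk_surjective d
    show θ (_ ^ k) = θ (q.out ^ k)
    rw [hwell _ (c * q.out * c⁻¹) (by simp), conj_pow]
    exact CfsgLib.Char.IsGeneralizedCharacter.isClassFunction hθ _ _
  haveI := Fintype.ofFinite (G ⧸ N)
  refine CfsgLib.Char.isGeneralizedCharacter_of_elementary _ hcl fun E q hq hE => ?_
  have := CfsgLib.Char.isNilpotent_of_isElementary hq hE
  set E' := E.comap (QuotientGroup.mk' N) with hE'
  haveI : Group.IsNilpotent E' := by
    let f : E' →* E := (((QuotientGroup.mk' N).comp E'.subtype).codRestrict E fun x => x.2)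
    refine Subgroup.isNilpotent_of_ker_le_center f fun x hx => ?_
    have h1 : (x : G) ∈ N := (QuotientGroup.eq_one_iff _).1 (congrArg Subtype.val (hx : f x = 1))
    rw [Subgroup.mem_center_iff]
    intro w
    exact Subtype.ext (Subgroup.mem_center_iff.1 (hc h1) (w : G))
  have hout : ∀ e : E, (e : G ⧸ N).out ∈ E' := fun e => by
    rw [hE', Subgroup.mem_comap, QuotientGroup.mk'_apply, QuotientGroup.out_eq']
    exact e.2
  have hdiv : Nat.card E' ∣ n := Subgroup.card_subgroup_dvd_card E'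
  have hmul : ∀ a b : E, ((a : G ⧸ N) * b).out ^ k = (a : G ⧸ N).out ^ k * (b : G ⧸ N).out ^ k := by
    intro a b
    have h := mul_pow_of_nilpotent (P := E') (k := k) (p := p)
      ((Nat.pow_dvd_pow p
        ((Nat.factorization_le_iff_dvd Nat.card_pos.ne' Nat.card_pos.ne').2 hdiv p)).trans hk0)
      (fun r hr hrp => Nat.ModEq.of_dvd (by
        refine (Nat.Coprime.dvd_of_dvd_mul_left ?_ (?_ : r ^ (Nat.card E').factorization r ∣
          p ^ n.factorization p * (n / p ^ n.factorization p)))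
        · exact Nat.Coprime.pow _ _ ((Nat.coprime_primes hr hp.out).2 hrp)
        · rw [Nat.ordProj_mul_ordCompl_eq_self]
          exact (Nat.ordProj_dvd _ _).trans hdiv) hk1)
      ⟨_, hout a⟩ ⟨_, hout b⟩
    have h' := congrArg Subtype.val h
    rw [hwell _ ((a : G ⧸ N).out * (b : G ⧸ N).out) (by simp)]
    exact h'
  exact CfsgLib.Char.IsGeneralizedCharacter.comp hθ
    (MonoidHom.mk' (fun e : E => (e : G ⧸ N).out ^ k) hmul)

omit hp in
/-- Sums over regular elements pass to the quotient. -/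
theorem sum_regular [Fintype G] [Fintype (G ⧸ N)] (hp' : p.Prime) (hc : N ≤ Subgroup.center G)
    (hP : IsPGroup p N) (f : G ⧸ N → ℂ) :
    ∑ g ∈ CfsgLib.BlockRank.regSet (G := G) p, f g =
      ∑ x ∈ CfsgLib.BlockRank.regSet (G := G ⧸ N) p, f x := by
  classical
  refine Finset.sum_nbij (fun g => (g : G ⧸ N)) (fun g hg => ?_) ?_ ?_ (fun g _ => rfl)
  · exact Finset.mem_filter.2 ⟨Finset.mem_univ _, regular_mk N (Finset.mem_filter.1 hg).2⟩
  · intro g hg h hh heq
    have hu : g⁻¹ * h ∈ N := QuotientGroup.eq.1 heq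
    obtain ⟨j, hj⟩ := hP ⟨_, hu⟩
    haveI : Fact p.Prime := ⟨hp'⟩
    have h2 : g⁻¹ * h = 1 := by
      refine CfsgLib.BlockReg.eq_one_of_regular_mul (p := p) (k := j) ?_ (Finset.mem_filter.1 hg).2
        (congrArg Subtype.val hj) (by
          rw [mul_inv_cancel_left]; exact (Finset.mem_filter.1 hh).2)
      exact Subgroup.mem_center_iff.1 (hc hu) g
    exact inv_mul_eq_one.1 h2
  · intro x hx
    obtain ⟨g, hg, rfl⟩ := exists_regular_lift N hp' (Finset.mem_filter.1 hx).2
    exact ⟨g, Finset.mem_filter.2 ⟨Finset.mem_univ _, hg⟩, rfl⟩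

/-- The block of the quotient contained in a block. -/
theorem exists_quotient_block (hM : IsPModular p M) (hc : N ≤ Subgroup.center G)
    (hP : IsPGroup p N) {B : Set (IrrCharacter G)} (hB : IsPBlock M B) :
    ∃ Bbar : Set (IrrCharacter (G ⧸ N)), IsPBlock M Bbar ∧
      (∀ η, η ∈ Bbar ↔ infl N η ∈ B) ∧
      Nat.card N * p ^ blockDefect p Bbar = p ^ blockDefect p B := by
  haveI : M.IsMaximal := hM.2.1
  haveI : CharP (ResField M) p := charP_resField hM.1 hM.2.2
  obtain ⟨Bbar, hBbar, hsub, hD⟩ := exists_block_quotient_defectGroup N hM hP hB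
  refine ⟨Bbar, hBbar, fun η => ⟨hsub η, fun hη => ?_⟩, ?_⟩
  · obtain ⟨η₀, hη₀⟩ := IsPBlock.nonempty hBbar
    rw [IsPBlock.eq_blockOf hBbar hη₀]
    refine sameBlock_of_infl_of_pCentral N hM hP (index_centralizer_eq N hc) ?_
    have h := IsPBlock.eq_blockOf hB (hsub η₀ hη₀) ▸ hη
    exact h
  · obtain ⟨Dbar, hDbar⟩ := exists_defectGroup hM hBbar
    obtain ⟨P, hBP, rfl⟩ := (hD Dbar).1 hDbar
    have hNP : N ≤ P := le_defectGroup_of_normal hM hB hBP hP
    rw [← card_defectGroup hM hB hBP, ← card_defectGroup hM hBbar hDbar,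
      ← Subgroup.card_mul_index (N.subgroupOf P), Nat.card_congr (Subgroup.subgroupOfEquivOfLe hNP).toEquiv]
    congr 1
    have h := Subgroup.index_ker ((QuotientGroup.mk' N).comp P.subtype)
    rw [← MonoidHom.comap_ker, QuotientGroup.ker_mk', MonoidHom.range_comp, Subgroup.range_subtype] at h
    exact h.symm

/-- The restrictions to regular elements of the characters of a block are integral combinations of
those of the block of the quotient. -/
theorem exists_int_lift [Fintype (G ⧸ N)] (hM : IsPModular p M) (hc : N ≤ Subgroup.center G)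
    (hP : IsPGroup p N) {B : Set (IrrCharacter G)} (hB : IsPBlock M B)
    {Bbar : Set (IrrCharacter (G ⧸ N))} [Fintype Bbar] (hBbar : IsPBlock M Bbar)
    (hiff : ∀ η, η ∈ Bbar ↔ infl N η ∈ B) {φ : IrrCharacter G} (hφ : φ ∈ B) :
    ∃ n : IrrCharacter (G ⧸ N) → ℤ, ∀ g : G, ¬ p ∣ orderOf g →
      (φ : G → ℂ) g = ∑ η ∈ Bbar.toFinset, (n η : ℂ) * (η : G ⧸ N → ℂ) g := by
  classical
  letI := Fintype.ofFinite G
  obtain ⟨F, hF, hFφ⟩ := exists_generalized (p := p) N hc hP
    (CfsgLib.Char.IsIrrCharacter.isGeneralizedCharacter φ.2)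
  have hFcl := CfsgLib.Char.IsGeneralizedCharacter.isClassFunction hF
  choose n hn using fun η : IrrCharacter (G ⧸ N) =>
    CfsgLib.CharExc.exists_int_classInner hF η.2
  set f : G ⧸ N → ℂ := pRegularPart p F with hf
  have hfcl : IsClassFunction (G ⧸ N) f := fun q d => by
    simp only [hf, CfsgLib.BlockRank.pRegularPart_apply, CfsgLib.BlockRank.isPRegular_conj]
    rw [hFcl q d]
  have horth : ∀ η, η ∉ Bbar → classInner f (η : G ⧸ N → ℂ) = 0 := by
    intro η hη
    have hne : infl N η ∉ B := fun h => hη ((hiff η).2 h)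
    have h := CfsgLib.BlockRank.regClosed_of_isPBlock hM hB φ hφ _ hne
    rw [CfsgLib.BlockRank.classInner_pRegularPart_eq] at h
    have h0 := (mul_eq_zero.1 h).resolve_left
      (inv_ne_zero (Nat.cast_ne_zero.2 Nat.card_pos.ne'))
    rw [hf, CfsgLib.BlockRank.classInner_pRegularPart_eq, mul_eq_zero]
    refine Or.inr ?_
    rw [CfsgLib.BlockRank.regPair, ← sum_regular N hp.out hc hP]
    refine (Finset.sum_congr rfl fun g hg => ?_).trans h0
    rw [hFφ g (Finset.mem_filter.1 hg).2]
    rfl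
  refine ⟨n, fun g hg => ?_⟩
  have hq : ¬ p ∣ orderOf (g : G ⧸ N) := regular_mk N hg
  have hFexp := congrFun (CfsgLib.Char.IsClassFunction.eq_sum_classInner hFcl)
  have hfexp := congrFun (CfsgLib.Char.IsClassFunction.eq_sum_classInner hfcl)
  have hfin : ∀ c : IrrCharacter (G ⧸ N) → ℂ, ∀ x : G ⧸ N,
      ∑ᶠ η ∈ Bbar, c η * (η : G ⧸ N → ℂ) x = ∑ η ∈ Bbar.toFinset, c η * (η : G ⧸ N → ℂ) x :=
    fun c x => finsum_mem_eq_toFinset_sum _ Bbar
  have hproj := CfsgLib.BlockReg.proj_regular hM hBbar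
    (fun η => classInner f (η : G ⧸ N → ℂ)) (fun η => (n η : ℂ)) (fun x hx => ?_) _ hq
  · rw [hfin, hfin] at hproj
    rw [← hproj, ← hFφ g hg]
    have : f g = F g := by
      simp [hf, CfsgLib.BlockRank.pRegularPart_apply, Cfsg.IsPRegular, hq]
    rw [← this, hfexp]
    simp only [Finset.sum_apply, Pi.smul_apply, smul_eq_mul]
    refine (Finset.sum_subset (Finset.subset_univ _) fun η _ hη => ?_).symm
    rw [horth η (fun h => hη (Set.mem_toFinset.2 h)), zero_mul]
  · rw [hfin, finsum_eq_sum_of_fintype]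
    have hx' : f x = F x := by
      simp [hf, CfsgLib.BlockRank.pRegularPart_apply, Cfsg.IsPRegular, hx]
    rw [Finset.sum_subset (Finset.subset_univ Bbar.toFinset) fun η _ hη => by
      rw [horth η (fun h => hη (Set.mem_toFinset.2 h)), zero_mul]]
    have h1 := hfexp x
    have h2 := hFexp x
    simp only [Finset.sum_apply, Pi.smul_apply, smul_eq_mul] at h1 h2
    rw [← h1, hx', h2]
    exact Finset.sum_congr rfl fun η _ => by rw [hn η]

/-- The rank of a block is at most that of the block of the quotient. -/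
theorem blockRank_le (hM : IsPModular p M) (hc : N ≤ Subgroup.center G)
    (hP : IsPGroup p N) {B : Set (IrrCharacter G)} (hB : IsPBlock M B)
    {Bbar : Set (IrrCharacter (G ⧸ N))} (hBbar : IsPBlock M Bbar)
    (hiff : ∀ η, η ∈ Bbar ↔ infl N η ∈ B) :
    blockRank p B ≤ blockRank p Bbar := by
  classical
  letI := Fintype.ofFinite (G ⧸ N)
  letI := Fintype.ofFinite Bbar
  let L : (G ⧸ N → ℂ) →ₗ[ℂ] (G → ℂ) :=
    { toFun := fun f g => if IsPRegular p g then f g else 0
      map_add' := fun a b => by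
        funext g
        by_cases h : IsPRegular p g <;> simp [h]
      map_smul' := fun c a => by
        funext g
        by_cases h : IsPRegular p g <;> simp [h] }
  set S := Submodule.span ℂ
    ((fun η : IrrCharacter (G ⧸ N) => pRegularPart p (η : G ⧸ N → ℂ)) '' Bbar) with hS
  have hle : Submodule.span ℂ ((fun χ : IrrCharacter G => pRegularPart p (χ : G → ℂ)) '' B) ≤
      S.map L := by
    rw [Submodule.span_le]
    rintro _ ⟨φ, hφ, rfl⟩
    obtain ⟨n, hn⟩ := exists_int_lift N hM hc hP hB hBbar hiff hφ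
    refine ⟨∑ η ∈ Bbar.toFinset, (n η : ℂ) • pRegularPart p (η : G ⧸ N → ℂ), ?_, ?_⟩
    · exact Submodule.sum_mem _ fun η hη => Submodule.smul_mem _ _
        (Submodule.subset_span ⟨η, Set.mem_toFinset.1 hη, rfl⟩)
    · funext g
      by_cases h : IsPRegular p g
      · have hq : IsPRegular p (g : G ⧸ N) := regular_mk N h
        simp [L, h, hq, CfsgLib.BlockRank.pRegularPart_apply, Finset.sum_apply, hn g h]
      · simp [L, h, CfsgLib.BlockRank.pRegularPart_apply]
  exact (Submodule.finrank_mono hle).trans (Submodule.finrank_map_le L S)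

end CfsgLib.CentralQuot
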