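import Cfsg.Agent.Lib.BlockRank.Major

/-!
# Contribution numbers of a subsection as cyclotomic integers
-/

set_option autoImplicit false

open scoped ComplexConjugate
open Polynomial

namespace CfsgLib.BlockRank

universe u

/-- The value at `w` of the bilinear cyclotomic expression with coefficients `a b Z`. -/
noncomputable def cycloForm {κ : Type*} (T : Finset κ) (Z : κ → κ → ℤ) (a b : κ → ℕ)
    (i j : κ → ℕ) (w : ℂ) : ℂ :=
  ∑ φ ∈ T, ∑ θ ∈ T, ((a φ : ℂ) * (b θ : ℂ) * (Z φ θ : ℂ)) * (w ^ i φ * conj (w ^ j θ))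

theorem conj_cycloForm {κ : Type*} (T : Finset κ) {Z : κ → κ → ℤ} (hZ : ∀ φ θ, Z φ θ = Z θ φ)
    (a b i j : κ → ℕ) (w : ℂ) :
    conj (cycloForm T Z a b i j w) = cycloForm T Z b a j i w := by
  simp only [cycloForm, map_sum, map_mul, map_natCast, map_intCast, Complex.conj_conj]
  rw [Finset.sum_comm]
  refine Finset.sum_congr rfl fun θ _ => Finset.sum_congr rfl fun φ _ => ?_
  rw [hZ φ θ]
  ring

/-- The cyclotomic form as a polynomial in a primitive root of unity. -/
noncomputable def cycloPoly {κ : Type*} (n : ℕ) (T : Finset κ) (Z : κ → κ → ℤ) (a b : κ → ℕ)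
    (i j : κ → ℕ) : ℤ[X] :=
  ∑ φ ∈ T, ∑ θ ∈ T,
    Polynomial.C ((a φ : ℤ) * (b θ : ℤ) * Z φ θ) * X ^ (i φ + (n - 1) * j θ)

theorem aeval_cycloPoly {κ : Type*} {n : ℕ} (hn : 0 < n) {w : ℂ} (hw : w ^ n = 1) (T : Finset κ)
    (Z : κ → κ → ℤ) (a b i j : κ → ℕ) :
    aeval w (cycloPoly n T Z a b i j) = cycloForm T Z a b i j w := by
  have hinv : ∀ e : ℕ, w ^ ((n - 1) * e) = conj (w ^ e) := fun e => by
    rw [pow_mul, map_pow]
    congr 1
    rw [← Complex.inv_eq_conj (Complex.norm_eq_one_of_pow_eq_one hw hn.ne')]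
    refine eq_inv_of_mul_eq_one_left ?_
    rw [← pow_succ, Nat.sub_add_cancel hn, hw]
  simp only [cycloPoly, cycloForm, map_sum, map_mul, aeval_X_pow, map_intCast, eq_intCast,
    Int.cast_natCast, map_natCast]
  refine Finset.sum_congr rfl fun φ _ => Finset.sum_congr rfl fun θ _ => ?_
  rw [pow_add, hinv]

theorem aeval_eq_zero_of_primitive {n : ℕ} (hn : 0 < n) {ζ w : ℂ} (hζ : IsPrimitiveRoot ζ n)
    (hw : IsPrimitiveRoot w n) (P : ℤ[X]) (h : aeval ζ P = 0) : aeval w P = 0 := by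
  have h' := CfsgLib.CharPower.aeval_eq_of_rat hn hζ hw P 0 (by simpa using h)
  simpa using h'

variable {G : Type u} [Group G] [Fintype G] {p : ℕ} {M : Ideal Cfsg.AlgInt}

/-- The contribution of the subsection `(x, e)` to the pair `χ`, `ψ`, scaled by `p ^ d`. -/
noncomputable def contrib (p d : ℕ) (x : G) {C : Subgroup G} [Fintype C]
    (e : Set (Cfsg.IrrCharacter C)) (χ ψ : Cfsg.IrrCharacter G) : ℂ :=
  ((p ^ d : ℕ) : ℂ) * ((Nat.card C : ℂ)⁻¹ *
    regPair p (Cfsg.blockPart e (fun c : C => (χ : G → ℂ) (x * c)))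
      (Cfsg.blockPart e (fun c : C => (ψ : G → ℂ) (x * c))))

open CfsgLib.BlockReg in
/-- Contributions are cyclotomic forms with a symmetric integral matrix; on the characters of
height zero the matrix gives an integer prime to `p`. -/
theorem exists_contrib_form [Fact p.Prime] (hM : Cfsg.IsPModular p M) {C : Subgroup G} {x : G}
    (hC : C = Subgroup.centralizer {x}) [Fintype C] {ζ : ℂ}
    (hζ : IsPrimitiveRoot ζ (orderOf x)) {e : Set (Cfsg.IrrCharacter C)} [Fintype e]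
    {B : Set (Cfsg.IrrCharacter G)} (hind : Cfsg.IsInducedBlock M C e B) {d : ℕ}
    (hd : d + minExp p e = (Nat.card C).factorization p) :
    ∃ (m i : Cfsg.IrrCharacter G → Cfsg.IrrCharacter C → ℕ)
      (Z : Cfsg.IrrCharacter C → Cfsg.IrrCharacter C → ℤ),
      (∀ φ θ, Z φ θ = Z θ φ) ∧
      (∀ χ ψ, contrib p d x e χ ψ = cycloForm e.toFinset Z (m χ) (m ψ) (i χ) (i ψ) ζ) ∧
      ∀ χ ∈ B, ∀ ψ ∈ B, (Cfsg.charDegree (χ : G → ℂ)).factorization p = minExp p B →
        (Cfsg.charDegree (ψ : G → ℂ)).factorization p = minExp p B →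
        ¬ (p : ℤ) ∣ ∑ φ ∈ e.toFinset, ∑ θ ∈ e.toFinset, (m χ φ : ℤ) * (m ψ θ : ℤ) * Z φ θ := by
  classical
  obtain ⟨c, hc, hc', -, hcN⟩ := exists_unit_congr hM hind.1
  choose m i hmi using exists_blockPart_translate (G := G) hC hζ
  have hN : ∀ φ θ : Cfsg.IrrCharacter C, ∃ z : ℤ, (φ ∈ e → θ ∈ e →
      Cfsg.classInner (tilde p (φ : C → ℂ)) (θ : C → ℂ) / ((p ^ minExp p e : ℕ) : ℂ) = (z : ℂ)) ∧
      (φ ∉ e ∨ θ ∉ e → z = 0) := by
    intro φ θ
    by_cases h : φ ∈ e ∧ θ ∈ e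
    · obtain ⟨z, hz⟩ := exists_int_classInner_tilde (p := p) (G := C) hM.1 φ θ
      obtain ⟨w, hw⟩ : ((p ^ minExp p e : ℕ) : ℤ) ∣ z :=
        dvd_trans (Int.natCast_dvd_natCast.mpr (Nat.pow_dvd_pow p (minExp_le h.1)))
          (dvd_coeff_iff hM φ θ z hz).1
      refine ⟨w, fun _ _ => ?_, fun h' => absurd h (by tauto)⟩
      rw [hz, hw, Int.cast_mul, Int.cast_natCast,
        mul_div_cancel_left₀ _ (Nat.cast_ne_zero.mpr (pow_ne_zero _ hM.1.ne_zero))]
    · exact ⟨0, fun h1 h2 => absurd ⟨h1, h2⟩ h, fun _ => rfl⟩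
  choose Z hZ hZ0 using hN
  refine ⟨m, i, Z, fun φ θ => ?_, fun χ ψ => ?_, fun χ hχ ψ hψ hhχ hhψ hdvd => ?_⟩
  · by_cases h : φ ∈ e ∧ θ ∈ e
    · have h1 := hZ φ θ h.1 h.2
      have h2 := hZ θ φ h.2 h.1
      rw [classInner_tilde_conj] at h2
      have h3 := congrArg conj h1
      rw [map_div₀, map_natCast, map_intCast, h2] at h3
      exact_mod_cast h3.symm
    · rw [hZ0 φ θ (by tauto), hZ0 θ φ (by tauto)]
  · simp only [contrib, cycloForm, regPair, (hmi χ).2 e, (hmi ψ).2 e, map_sum, map_mul,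
      map_natCast, Finset.sum_mul, Finset.mul_sum]
    rw [Finset.sum_comm]
    conv_lhs => rw [Finset.sum_congr rfl fun _ _ => Finset.sum_comm]
    rw [Finset.sum_comm]
    refine Finset.sum_congr rfl fun φ hφ => Finset.sum_congr rfl fun θ hθ => ?_
    have hz := hZ φ θ (Set.mem_toFinset.mp hφ) (Set.mem_toFinset.mp hθ)
    rw [classInner_tilde_eq, regPair] at hz
    rw [← hz, ← hd, pow_add, Nat.cast_mul]
    have hp0 : (p : ℂ) ≠ 0 := Nat.cast_ne_zero.mpr hM.1.ne_zero
    push_cast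
    simp only [Finset.mul_sum, Finset.sum_mul, Finset.sum_div]
    refine Finset.sum_congr rfl fun s _ => ?_
    field_simp
  · have hER : ∀ χ' : Cfsg.IrrCharacter G, Cfsg.MemLocalRing M (∑ φ ∈ e.toFinset, (m χ' φ : ℂ) *
        ((Cfsg.charDegree (φ : C → ℂ) : ℂ) / ((p ^ minExp p e : ℕ) : ℂ))) := fun χ' =>
      memRing_sum hM _ fun φ hφ => memRing_mul hM (memRing_natCast hM _)
        (deg_div_memRing hM (Set.mem_toFinset.mp hφ))
    refine not_memIdeal_mul hM hc (memRing_mul hM (hER χ) (hER ψ)) hc'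
      (not_memIdeal_mul hM (hER χ) (hER ψ)
        (not_memIdeal_degree_blockPart hM hind hχ hhχ (m χ) (hmi χ).1)
        (not_memIdeal_degree_blockPart hM hind hψ hhψ (m ψ) (hmi ψ).1)) ?_
    have hA : Cfsg.MemLocalIdeal M
        ((∑ φ ∈ e.toFinset, ∑ θ ∈ e.toFinset, (m χ φ : ℤ) * (m ψ θ : ℤ) * Z φ θ : ℤ) : ℂ) :=
      (memIdeal_intCast_iff hM _).mpr hdvd
    have hdiff : Cfsg.MemLocalIdeal M (c *
        ((∑ φ ∈ e.toFinset, (m χ φ : ℂ) *
          ((Cfsg.charDegree (φ : C → ℂ) : ℂ) / ((p ^ minExp p e : ℕ) : ℂ))) *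
        ∑ θ ∈ e.toFinset, (m ψ θ : ℂ) *
          ((Cfsg.charDegree (θ : C → ℂ) : ℂ) / ((p ^ minExp p e : ℕ) : ℂ))) -
        ((∑ φ ∈ e.toFinset, ∑ θ ∈ e.toFinset, (m χ φ : ℤ) * (m ψ θ : ℤ) * Z φ θ : ℤ) : ℂ)) := by
      simp only [Int.cast_sum, Finset.sum_mul_sum]
      simp only [Finset.mul_sum, ← Finset.sum_sub_distrib]
      refine memIdeal_sum hM _ fun φ hφ => memIdeal_sum hM _ fun θ hθ => ?_
      have h1 := hcN φ (Set.mem_toFinset.mp hφ) θ (Set.mem_toFinset.mp hθ)
      rw [hZ φ θ (Set.mem_toFinset.mp hφ) (Set.mem_toFinset.mp hθ)] at h1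
      have h3 := memIdeal_mul_left hM (memRing_natCast hM (m χ φ * m ψ θ)) (memIdeal_neg h1)
      convert h3 using 1
      push_cast
      ring
    have h4 := memIdeal_add hM hdiff hA
    rwa [sub_add_cancel] at h4

/-- The row relation of the contribution matrix. -/
theorem sum_contrib_mul_conj [Fact p.Prime] (hM : Cfsg.IsPModular p M) {C : Subgroup G} {x : G}
    (hC : C = Subgroup.centralizer {x}) (hx : ∃ k : ℕ, orderOf x = p ^ k) [Fintype C]
    {e : Set (Cfsg.IrrCharacter C)} {B : Set (Cfsg.IrrCharacter G)} [Fintype B]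
    (hind : Cfsg.IsInducedBlock M C e B) (d : ℕ) (χ : Cfsg.IrrCharacter G) :
    ∑ ψ ∈ B.toFinset, contrib p d x e χ ψ * conj (contrib p d x e χ ψ) =
      ((p ^ d : ℕ) : ℂ) * contrib p d x e χ χ := by
  classical
  have := Fintype.ofFinite e
  set f := Cfsg.blockPart e (fun c : C => (χ : G → ℂ) (x * c)) with hf
  have hcardC : (Nat.card C : ℂ) ≠ 0 := Nat.cast_ne_zero.mpr Nat.card_pos.ne'
  have hswap : ∀ {τ : Type u} (T : Finset τ) (F : τ → C → ℂ),
      ∑ a ∈ T, regPair p f (F a) * conj (regPair p f (F a)) =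
        ∑ s ∈ regSet p, ∑ t ∈ regSet p,
          f s * conj (f t) * conj (∑ a ∈ T, F a s * conj (F a t)) := by
    intro τ T F
    simp only [regPair, map_sum, map_mul, Complex.conj_conj, Finset.sum_mul, Finset.mul_sum]
    rw [Finset.sum_congr rfl fun a _ => Finset.sum_comm, Finset.sum_comm]
    refine Finset.sum_congr rfl fun s _ => ?_
    rw [Finset.sum_comm]
    exact Finset.sum_congr rfl fun t _ => Finset.sum_congr rfl fun a _ => by ring
  have hker : ∑ ψ ∈ B.toFinset,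
      regPair p f (Cfsg.blockPart e (fun c : C => (ψ : G → ℂ) (x * c))) *
        conj (regPair p f (Cfsg.blockPart e (fun c : C => (ψ : G → ℂ) (x * c)))) =
      ∑ φ ∈ e.toFinset, regPair p f (φ : C → ℂ) * conj (regPair p f (φ : C → ℂ)) := by
    rw [hswap, hswap]
    exact Finset.sum_congr rfl fun s hs => Finset.sum_congr rfl fun t ht => by
      rw [sum_blockPart_translate_mul_conj hM hC hx hind (Finset.mem_filter.mp hs).2
        (Finset.mem_filter.mp ht).2]
  have hfsum : f = ∑ φ ∈ e.toFinset,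
      Cfsg.classInner (fun c : C => (χ : G → ℂ) (x * c)) (φ : C → ℂ) • (φ : C → ℂ) := by
    funext s
    rw [hf, blockPart_apply, Finset.sum_apply]
    exact Finset.sum_congr rfl fun φ _ => by rw [Pi.smul_apply, smul_eq_mul]
  have hclass : Cfsg.IsClassFunction C f := fun g h => by
    rw [hf, blockPart_apply, blockPart_apply]
    exact Finset.sum_congr rfl fun φ _ => by
      rw [CfsgLib.Char.IsIrrCharacter.isClassFunction φ.2 g h]
  have hpar : ∑ φ ∈ e.toFinset, regPair p f (φ : C → ℂ) * conj (regPair p f (φ : C → ℂ)) =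
      (Nat.card C : ℂ) * regPair p f f := by
    have h1 : ∀ a b : C → ℂ, regPair p a b =
        (Nat.card C : ℂ) * Cfsg.classInner (Cfsg.pRegularPart p a) b := fun a b => by
      rw [classInner_pRegularPart_eq, ← mul_assoc, mul_inv_cancel₀ hcardC, one_mul]
    have h2 := CfsgLib.Char.classInner_eq_sum
      (isClassFunction_pRegularPart (p := p) hclass) (isClassFunction_pRegularPart (p := p) hclass)
    rw [← classInner_pRegularPart_left] at h2
    rw [h1 f f, h2, Finset.mul_sum, Finset.mul_sum]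
    refine (Finset.sum_congr rfl fun θ _ => ?_).trans
      (Finset.sum_subset (Finset.subset_univ _) fun θ _ hθ => ?_)
    · rw [h1, map_mul, map_natCast]
      ring
    · have h0 : Cfsg.classInner (Cfsg.pRegularPart p f) (θ : C → ℂ) = 0 := by
        rw [hfsum, ← regLin_apply, map_sum, CfsgLib.Char.classInner_sum_left]
        refine Finset.sum_eq_zero fun φ hφ => ?_
        rw [map_smul, CfsgLib.Char.classInner_smul_left, regLin_apply,
          regClosed_of_isPBlock hM hind.1 φ (Set.mem_toFinset.mp hφ) θ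
            (fun h => hθ (Set.mem_toFinset.mpr h)), mul_zero]
      rw [h0]
      simp
  calc ∑ ψ ∈ B.toFinset, contrib p d x e χ ψ * conj (contrib p d x e χ ψ)
      = (((p ^ d : ℕ) : ℂ) * (Nat.card C : ℂ)⁻¹) ^ 2 * ∑ ψ ∈ B.toFinset,
          regPair p f (Cfsg.blockPart e (fun c : C => (ψ : G → ℂ) (x * c))) *
            conj (regPair p f (Cfsg.blockPart e (fun c : C => (ψ : G → ℂ) (x * c)))) := by
        rw [Finset.mul_sum]
        refine Finset.sum_congr rfl fun ψ _ => ?_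
        simp only [contrib, map_mul, map_inv₀, map_natCast, ← hf]
        ring
    _ = _ := by
        rw [hker, hpar, contrib, ← hf]
        field_simp

/-- The trace of the contribution matrix. -/
theorem sum_contrib_self [Fact p.Prime] (hM : Cfsg.IsPModular p M) {C : Subgroup G} {x : G}
    (hC : C = Subgroup.centralizer {x}) (hx : ∃ k : ℕ, orderOf x = p ^ k) [Fintype C]
    {e : Set (Cfsg.IrrCharacter C)} {B : Set (Cfsg.IrrCharacter G)} [Fintype B]
    (hind : Cfsg.IsInducedBlock M C e B) (d : ℕ) :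
    ∑ χ ∈ B.toFinset, contrib p d x e χ χ = ((p ^ d : ℕ) : ℂ) * Cfsg.blockRank p e := by
  classical
  have hcardC : (Nat.card C : ℂ) ≠ 0 := Nat.cast_ne_zero.mpr Nat.card_pos.ne'
  have h := sum_regNorm_translate_block hM hC hx hind.1 hind
  rw [Finset.sum_congr rfl fun χ _ => regNorm_eq (p := p) e _] at h
  simp only [contrib, regPair, ← Finset.mul_sum, h]
  field_simp

end CfsgLib.BlockRank
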