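import Cfsg.Agent.Lib.BlockPrincipal.LatticeBound

/-!
# The bound for an integral projection with a kernel vector system of controlled Gram determinant
-/

set_option autoImplicit false
set_option maxHeartbeats 1000000

open Matrix

namespace CfsgLib.LatticeBound

universe u v

/-- **The bound.** -/
theorem le_quadratic_of_kernel {ι : Type u} [Fintype ι] [DecidableEq ι] {κ : Type v} [Fintype κ]
    [DecidableEq κ] {p : ℤ} (hp : 0 < p)
    (M : Matrix ι ι ℤ) (hsymm : Mᵀ = M) (hsq : M * M = p • M) (l : ℤ)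
    (htr : M.trace = p * l) (Y : Matrix ι κ ℤ) (hMY : M * Y = 0)
    (hκ : (Fintype.card κ : ℤ) + l = Fintype.card ι) (v : ℤ) (hdetY : (Yᵀ * Y).det = p * v)
    (hv : IsCoprime p v) (hdiag : ∀ i, M i i ≠ p) (z : ι → ℤ) (hz : M *ᵥ z ≠ 0) :
    l ≤ z ⬝ᵥ M *ᵥ z := by
  classical
  set f : (ι → ℤ) →ₗ[ℤ] (ι → ℤ) := Matrix.mulVecLin M with hf
  set K := LinearMap.ker f
  set n := Module.finrank ℤ K
  set bK : Module.Basis (Fin n) ℤ K := Module.finBasis ℤ K
  obtain ⟨s, hs⟩ := f.rangeRestrict.exists_rightInverse_of_surjective f.range_rangeRestrict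
  have hproj : ∀ w, w - s (f.rangeRestrict w) ∈ K := by
    intro w
    rw [LinearMap.mem_ker, map_sub, sub_eq_zero]
    have := LinearMap.congr_fun hs (f.rangeRestrict w)
    exact (congrArg Subtype.val this).symm
  let proj : (ι → ℤ) →ₗ[ℤ] K :=
    LinearMap.codRestrict K (LinearMap.id - s.comp f.rangeRestrict) hproj
  let Lf : (ι → ℤ) →ₗ[ℤ] (Fin n → ℤ) := bK.equivFun.toLinearMap.comp proj
  set L : Matrix (Fin n) ι ℤ := LinearMap.toMatrix' Lf with hL
  set B : Matrix ι (Fin n) ℤ := fun i j => (bK j : ι → ℤ) i with hB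
  have hBmul : ∀ c : Fin n → ℤ, B *ᵥ c = ((bK.equivFun.symm c : K) : ι → ℤ) := by
    intro c
    funext i
    rw [Module.Basis.equivFun_symm_apply]
    simp [Matrix.mulVec, dotProduct, hB, mul_comm]
  have hLw : ∀ w, L *ᵥ w = Lf w := fun w => by
    rw [hL, LinearMap.toMatrix'_mulVec]
  have hBL : ∀ w, M *ᵥ w = 0 → B *ᵥ (L *ᵥ w) = w := by
    intro w hw
    have h0 : f.rangeRestrict w = 0 := Subtype.ext hw
    rw [hLw, hBmul]
    simp [Lf, proj, h0]
  have hker : ∀ w : K, f (w : ι → ℤ) = 0 := fun w => LinearMap.mem_ker.1 w.2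
  have hLB : L * B = 1 := by
    refine Matrix.toLin'.injective (LinearMap.ext fun c => ?_)
    rw [Matrix.toLin'_apply, Matrix.toLin'_apply, ← Matrix.mulVec_mulVec, hLw, hBmul,
      Matrix.one_mulVec]
    have h0 : f.rangeRestrict ((bK.equivFun.symm c : K) : ι → ℤ) = 0 := Subtype.ext (hker _)
    have : proj ((bK.equivFun.symm c : K) : ι → ℤ) = bK.equivFun.symm c := by
      refine Subtype.ext ?_
      show ((bK.equivFun.symm c : K) : ι → ℤ) - s (f.rangeRestrict _) = _
      rw [h0, map_zero, sub_zero]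
    show bK.equivFun (proj _) = c
    rw [this, LinearEquiv.apply_symm_apply]
  have hMB : M * B = 0 := by
    refine Matrix.toLin'.injective (LinearMap.ext fun c => ?_)
    rw [Matrix.toLin'_apply, ← Matrix.mulVec_mulVec, hBmul, map_zero, LinearMap.zero_apply]
    exact hker _
  set Q : Matrix ι ι ℤ := p • 1 - M with hQ
  have hQt : Qᵀ = Q := by rw [hQ, transpose_sub, transpose_smul, transpose_one, hsymm]
  have hMQ : M * Q = 0 := by
    rw [hQ, Matrix.mul_sub, Matrix.mul_smul, Matrix.mul_one, hsq, sub_self]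
  set N : Matrix (Fin n) ι ℤ := L * Q with hN
  have hBN : B * N = Q := by
    refine Matrix.toLin'.injective (LinearMap.ext fun c => ?_)
    rw [Matrix.toLin'_apply, Matrix.toLin'_apply, hN, ← Matrix.mulVec_mulVec,
      ← Matrix.mulVec_mulVec]
    exact hBL _ (by rw [Matrix.mulVec_mulVec, hMQ, Matrix.zero_mulVec])
  have hBtQ : Bᵀ * Q = p • Bᵀ := by
    have h : Bᵀ * M = 0 := by rw [← hsymm, ← transpose_mul, hMB, transpose_zero]
    rw [hQ, Matrix.mul_sub, Matrix.mul_smul, Matrix.mul_one, h, sub_zero]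
  set G : Matrix (Fin n) (Fin n) ℤ := Bᵀ * B with hG
  have hGN : G * N = p • Bᵀ := by rw [hG, Matrix.mul_assoc, hBN, hBtQ]
  have hprod : G * (N * Lᵀ) = p • 1 := by
    rw [← Matrix.mul_assoc, hGN, Matrix.smul_mul, ← transpose_mul, hLB, transpose_one]
  have hdprod : G.det * (N * Lᵀ).det = p ^ n := by
    have := congrArg Matrix.det hprod
    rwa [Matrix.det_mul, Matrix.det_smul, Matrix.det_one, mul_one, Fintype.card_fin] at this
  have hGd : G.det ≠ 0 := fun h0 => by
    rw [h0, zero_mul] at hdprod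
    exact (pow_pos hp n).ne hdprod
  have hGpos : 0 < G.det := gram_det_pos B hGd
  -- the trace gives the rank of the kernel
  have hNB : N * B = p • 1 := by
    have h : G * (N * B) = G * (p • 1) := by
      rw [← Matrix.mul_assoc, hGN, Matrix.smul_mul, ← hG, Matrix.mul_smul, Matrix.mul_one]
    have h' := congrArg (fun X => G.adjugate * X) h
    simp only [← Matrix.mul_assoc, Matrix.adjugate_mul, Matrix.smul_mul, Matrix.one_mul] at h'
    exact smul_right_injective _ hGd h'
  have hcard : (Fintype.card ι : ℤ) = n + l := by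
    have h : (B * N).trace = (N * B).trace := Matrix.trace_mul_comm B N
    rw [hBN, hNB, hQ, Matrix.trace_sub, Matrix.trace_smul, Matrix.trace_smul, Matrix.trace_one,
      Matrix.trace_one, htr, Fintype.card_fin, smul_eq_mul, smul_eq_mul] at h
    have h2 : p * ((Fintype.card ι : ℤ) - l - n) = 0 := by rw [mul_sub, mul_sub, h]; ring
    have := (mul_eq_zero.1 h2).resolve_left hp.ne'
    omega
  have hdle : G.det ≤ p := by
    have hn : Fintype.card κ = n := by omega
    set e₀ : Fin n ≃ κ := (Fintype.equivFinOfCardEq hn).symm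
    set Y' : Matrix ι (Fin n) ℤ := Y.submatrix id e₀ with hY'
    have hMY' : ∀ c, M *ᵥ (Y' *ᵥ c) = 0 := by
      intro c
      rw [hY', Matrix.mulVec_mulVec]
      have : M * Y.submatrix id e₀ = (M * Y).submatrix id e₀ := rfl
      rw [this, hMY]
      simp
    have hBY : B * (L * Y') = Y' := by
      refine Matrix.toLin'.injective (LinearMap.ext fun c => ?_)
      rw [Matrix.toLin'_apply, Matrix.toLin'_apply, ← Matrix.mulVec_mulVec,
        ← Matrix.mulVec_mulVec]
      exact hBL _ (hMY' c)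
    have h1 : (Y'ᵀ * Y').det = (Yᵀ * Y).det := by
      rw [show Y'ᵀ * Y' = (Yᵀ * Y).submatrix e₀ e₀ from rfl, Matrix.det_submatrix_equiv_self]
    have h2 : G.det ∣ p * v := by
      rw [← hdetY, ← h1, ← hBY, transpose_mul, Matrix.mul_assoc, ← Matrix.mul_assoc Bᵀ, ← hG,
        Matrix.det_mul, Matrix.det_mul]
      exact dvd_mul_of_dvd_right (dvd_mul_right _ _) _
    have h3 : IsCoprime G.det v :=
      (hv.pow_left (m := n)).of_isCoprime_of_dvd_left ⟨_, hdprod.symm⟩
    exact Int.le_of_dvd hp (h3.dvd_of_dvd_mul_right h2)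
  -- adjoin `z`
  set B₁ : Matrix ι (Fin n ⊕ Unit) ℤ := Matrix.fromCols B (replicateCol Unit z) with hB₁
  set c : Fin n → ℤ := Bᵀ *ᵥ z with hc
  have hG₁ : B₁ᵀ * B₁ = Matrix.fromBlocks G (replicateCol Unit c) (replicateRow Unit c)
      (Matrix.of fun _ _ => z ⬝ᵥ z) := by
    ext (i | i) (j | j) <;>
      simp only [hB₁, hG, hc, Matrix.mul_apply, Matrix.transpose_apply, Matrix.fromCols_apply_inl,
        Matrix.fromCols_apply_inr, Matrix.replicateCol_apply, Matrix.replicateRow_apply,
        Matrix.fromBlocks_apply₁₁, Matrix.fromBlocks_apply₁₂, Matrix.fromBlocks_apply₂₁,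
        Matrix.fromBlocks_apply₂₂, Matrix.of_apply, Matrix.mulVec, dotProduct]
    exact Finset.sum_congr rfl fun k _ => mul_comm _ _
  have hquad : c ⬝ᵥ N *ᵥ z = p * (z ⬝ᵥ z) - z ⬝ᵥ M *ᵥ z := by
    rw [hc, Matrix.mulVec_transpose, ← Matrix.dotProduct_mulVec, Matrix.mulVec_mulVec, hBN, hQ,
      Matrix.sub_mulVec, dotProduct_sub, Matrix.smul_mulVec, Matrix.one_mulVec,
      dotProduct_smul, smul_eq_mul]
  have hdet : (B₁ᵀ * B₁).det * p = G.det * (z ⬝ᵥ M *ᵥ z) := by
    have h1 : B₁ᵀ * B₁ * Matrix.fromBlocks (1 : Matrix (Fin n) (Fin n) ℤ)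
          (replicateCol Unit (fun i => -(N *ᵥ z) i)) 0 (Matrix.of fun _ _ => p) =
        Matrix.fromBlocks G 0 (replicateRow Unit c) (Matrix.of fun _ _ => z ⬝ᵥ M *ᵥ z) := by
      have hcol : G *ᵥ (N *ᵥ z) = p • c := by
        rw [Matrix.mulVec_mulVec, hGN, Matrix.smul_mulVec, hc]
      rw [hG₁, Matrix.fromBlocks_multiply]
      congr 1
      · simp
      · ext i j
        have := congrFun hcol i
        simp [Matrix.mul_apply, Matrix.mulVec, dotProduct] at this ⊢
        rw [this]
        ring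
      · simp
      · ext i j
        have : z ⬝ᵥ M *ᵥ z = p * (z ⬝ᵥ z) - c ⬝ᵥ N *ᵥ z := by rw [hquad]; ring
        simp only [Matrix.mul_apply, Matrix.add_apply, Matrix.replicateRow_apply,
          Matrix.replicateCol_apply, Matrix.of_apply, Finset.univ_unique, Finset.sum_singleton,
          mul_neg, Finset.sum_neg_distrib]
        simp only [dotProduct] at this ⊢
        rw [this]
        ring
    have h2 := congrArg Matrix.det h1
    rw [Matrix.det_mul, Matrix.det_fromBlocks_zero₂₁, Matrix.det_fromBlocks_zero₁₂,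
      Matrix.det_one, one_mul, Matrix.det_unique (n := Unit), Matrix.det_unique (n := Unit)] at h2
    simpa using h2
  have hzMz : z ⬝ᵥ M *ᵥ z ≠ 0 := by
    intro h0
    refine hz (funext fun i => ?_)
    have h1 : (M *ᵥ z) ⬝ᵥ (M *ᵥ z) = p * (z ⬝ᵥ M *ᵥ z) := by
      rw [Matrix.dotProduct_mulVec, Matrix.dotProduct_mulVec z,
        ← Matrix.mulVec_transpose, Matrix.mulVec_mulVec, hsymm, hsq, Matrix.smul_mulVec,
        smul_dotProduct, smul_eq_mul]
      rw [← Matrix.mulVec_transpose M z, hsymm, dotProduct_comm]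
    rw [h0, mul_zero] at h1
    exact mul_self_eq_zero.1 ((Finset.sum_eq_zero_iff_of_nonneg fun a _ => mul_self_nonneg _).1 h1 i
      (Finset.mem_univ i))
  have hd₁ : (B₁ᵀ * B₁).det ≠ 0 := fun h0 => by
    rw [h0, zero_mul] at hdet
    exact mul_ne_zero hGd hzMz hdet.symm
  have hrows : ∀ i, ∃ j, B₁ i j ≠ 0 := by
    intro i
    by_contra hall
    push Not at hall
    refine hdiag i ?_
    have h : (B * N) i i = 0 := by
      rw [Matrix.mul_apply]
      exact Finset.sum_eq_zero fun j _ => by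
        have := hall (Sum.inl j)
        simp [hB₁] at this
        rw [this, zero_mul]
    rw [hBN, hQ, Matrix.sub_apply, Matrix.smul_apply, Matrix.one_apply_eq, smul_eq_mul,
      mul_one] at h
    omega
  set e := Fintype.equivFin ι
  have hgram : (B₁.submatrix e.symm id)ᵀ * B₁.submatrix e.symm id = B₁ᵀ * B₁ := by
    ext x y
    simp only [Matrix.mul_apply, Matrix.transpose_apply, Matrix.submatrix_apply, id]
    exact e.symm.sum_comp fun i => B₁ i x * B₁ i y
  have hmain := card_le_gram_det _ (B₁.submatrix e.symm id) (fun i => hrows (e.symm i))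
    (by rw [hgram]; exact hd₁)
  rw [hgram, Fintype.card_sum, Fintype.card_fin, Fintype.card_unit] at hmain
  have hpos₁ := gram_det_pos B₁ hd₁
  have hfin : (B₁ᵀ * B₁).det ≤ z ⬝ᵥ M *ᵥ z := by
    have h1 : (B₁ᵀ * B₁).det * G.det ≤ (z ⬝ᵥ M *ᵥ z) * G.det := by
      calc (B₁ᵀ * B₁).det * G.det ≤ (B₁ᵀ * B₁).det * p :=
            mul_le_mul_of_nonneg_left hdle hpos₁.le
        _ = _ := by rw [hdet, mul_comm]
    exact le_of_mul_le_mul_right h1 hGpos
  push_cast at hmain
  linarith

end CfsgLib.LatticeBound
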