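import Mathlib

/-!
# The determinant of the orbit sums of the characters of a cyclic group under a free action
-/

set_option autoImplicit false

open Matrix
open scoped ComplexConjugate

namespace CfsgLib.OrbitDet

variable {N : ℕ} [NeZero N] (E : Subgroup (ZMod N)ˣ) [Fintype E]

/-- The orbit sum of a character minus as many trivial characters. -/
noncomputable def orbChar (r x : ZMod N) : ℂ :=
  ∑ g : E, ((ZMod.stdAddChar (N := N) (((g : (ZMod N)ˣ) : ZMod N) * x * r) : ℂ) - 1)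

theorem orbChar_zero (r : ZMod N) : orbChar E r 0 = 0 := by
  simp [orbChar]

theorem orbChar_smul (h : E) (r x : ZMod N) :
    orbChar E r (((h : (ZMod N)ˣ) : ZMod N) * x) = orbChar E r x := by
  refine Fintype.sum_equiv (Equiv.mulRight h) _ _ fun g => ?_
  simp [mul_assoc]

theorem conj_stdAddChar (x : ZMod N) :
    conj (ZMod.stdAddChar (N := N) x : ℂ) = ZMod.stdAddChar (N := N) (-x) := by
  rw [AddChar.map_neg_eq_inv, Complex.inv_eq_conj]
  exact AddChar.norm_apply _ _

theorem sum_stdAddChar (a : ZMod N) :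
    ∑ x : ZMod N, (ZMod.stdAddChar (N := N) (x * a) : ℂ) = if a = 0 then (N : ℂ) else 0 := by
  rw [AddChar.sum_mulShift a (ZMod.isPrimitive_stdAddChar N), ZMod.card]
  split_ifs <;> simp

/-- Representatives of the orbits on the nonzero classes. -/
structure Reps (R : Finset (ZMod N)) : Prop where
  ne_zero : ∀ r ∈ R, r ≠ 0
  cover : ∀ x : ZMod N, x ≠ 0 → ∃ r ∈ R, ∃ g : E, ((g : (ZMod N)ˣ) : ZMod N) * r = x
  unique : ∀ r ∈ R, ∀ s ∈ R, ∀ g : E, ((g : (ZMod N)ˣ) : ZMod N) * r = s → r = s ∧ g = 1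

theorem exists_reps (hfree : ∀ g : E, ∀ x : ZMod N, x ≠ 0 →
    ((g : (ZMod N)ˣ) : ZMod N) * x = x → g = 1) : ∃ R, Reps E R := by
  classical
  let s : Setoid (ZMod N) := MulAction.orbitRel E (ZMod N)
  have hrel : ∀ x y : ZMod N, s x y ↔ ∃ g : E, ((g : (ZMod N)ˣ) : ZMod N) * y = x := fun x y => by
    show MulAction.orbitRel E (ZMod N) x y ↔ _
    rw [MulAction.orbitRel_apply, MulAction.mem_orbit_iff]
    exact exists_congr fun g => Iff.rfl
  refine ⟨(Finset.univ.filter fun x : ZMod N => x ≠ 0).image fun x => (Quotient.mk s x).out,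
    ?_, ?_, ?_⟩
  · intro r hr
    obtain ⟨x, hx, rfl⟩ := Finset.mem_image.1 hr
    obtain ⟨g, hg⟩ := (hrel _ _).1 (Quotient.exact (Quotient.out_eq (Quotient.mk s x)))
    intro h0
    rw [← hg] at h0
    exact (Finset.mem_filter.1 hx).2 (((g : (ZMod N)ˣ).isUnit.mul_right_eq_zero).1 h0)
  · intro x hx
    obtain ⟨g, hg⟩ := (hrel _ _).1 (s.symm (Quotient.exact (Quotient.out_eq (Quotient.mk s x))))
    exact ⟨_, Finset.mem_image.2 ⟨x, Finset.mem_filter.2 ⟨Finset.mem_univ _, hx⟩, rfl⟩, g, hg⟩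
  · intro r hr r' hr' g hg
    obtain ⟨x, hx, rfl⟩ := Finset.mem_image.1 hr
    obtain ⟨y, -, rfl⟩ := Finset.mem_image.1 hr'
    have h : s (Quotient.mk s y).out (Quotient.mk s x).out := (hrel _ _).2 ⟨g, hg⟩
    have h2 : Quotient.mk s y = Quotient.mk s x := by
      have := Quotient.sound h
      rwa [Quotient.out_eq, Quotient.out_eq] at this
    rw [h2] at hg ⊢
    refine ⟨rfl, hfree g _ ?_ hg⟩
    obtain ⟨g', hg'⟩ := (hrel _ _).1 (Quotient.exact (Quotient.out_eq (Quotient.mk s x)))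
    intro h0
    rw [← hg'] at h0
    exact (Finset.mem_filter.1 hx).2 (((g' : (ZMod N)ˣ).isUnit.mul_right_eq_zero).1 h0)

variable {E} {R : Finset (ZMod N)}

theorem Reps.sum_eq (hR : Reps E R) (f : ZMod N → ℂ) :
    ∑ x, f x = f 0 + ∑ r ∈ R, ∑ g : E, f (((g : (ZMod N)ˣ) : ZMod N) * r) := by
  classical
  rw [← Finset.add_sum_erase _ f (Finset.mem_univ (0 : ZMod N)), ← Finset.sum_product']
  congr 1
  symm
  refine Finset.sum_bij (fun a _ => ((a.2 : (ZMod N)ˣ) : ZMod N) * a.1) ?_ ?_ ?_ fun a _ => rfl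
  · intro a ha
    refine Finset.mem_erase.2 ⟨fun h => ?_, Finset.mem_univ _⟩
    exact hR.ne_zero _ (Finset.mem_product.1 ha).1 (((a.2 : (ZMod N)ˣ).isUnit.mul_right_eq_zero).1 h)
  · rintro ⟨r, g⟩ ha ⟨r', g'⟩ ha' h
    have h' : (((g'⁻¹ * g : E) : (ZMod N)ˣ) : ZMod N) * r = r' := by
      simp only [Subgroup.coe_mul, Units.val_mul, mul_assoc] at h ⊢
      rw [h, ← mul_assoc, ← Units.val_mul, ← Subgroup.coe_mul, inv_mul_cancel]
      simp
    obtain ⟨rfl, hg⟩ := hR.unique r (Finset.mem_product.1 ha).1 r' (Finset.mem_product.1 ha').1 _ h'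
    rw [inv_mul_eq_one.1 hg]
  · intro x hx
    obtain ⟨r, hr, g, hg⟩ := hR.cover x (Finset.mem_erase.1 hx).1
    exact ⟨(r, g), Finset.mem_product.2 ⟨hr, Finset.mem_univ _⟩, hg⟩

theorem Reps.card_eq (hR : Reps E R) : 1 + Fintype.card E * R.card = N := by
  have h := hR.sum_eq fun _ => (1 : ℂ)
  simp only [Finset.sum_const, Finset.card_univ, ZMod.card, nsmul_eq_mul, mul_one] at h
  have h2 : (N : ℂ) = ((1 + Fintype.card E * R.card : ℕ) : ℂ) := by rw [h]; push_cast; ring
  exact_mod_cast h2.symm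

theorem Reps.gram (hR : Reps E R) (i j : R) :
    ∑ r : R, conj (orbChar E (i : ZMod N) r) * orbChar E (j : ZMod N) r =
      (N : ℂ) * ((if i = j then 1 else 0) + Fintype.card E) := by
  classical
  have hinner : ∀ g h : E, ∑ x : ZMod N,
      (conj ((ZMod.stdAddChar (N := N) (((g : (ZMod N)ˣ) : ZMod N) * x * i) : ℂ) - 1) *
        ((ZMod.stdAddChar (N := N) (((h : (ZMod N)ˣ) : ZMod N) * x * j) : ℂ) - 1)) =
      (N : ℂ) * ((if g = h ∧ i = j then 1 else 0) + 1) := by
    intro g h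
    have hg : ((g : (ZMod N)ˣ) : ZMod N) * i ≠ 0 := fun h0 =>
      hR.ne_zero _ i.2 (((g : (ZMod N)ˣ).isUnit.mul_right_eq_zero).1 h0)
    have hh : ((h : (ZMod N)ˣ) : ZMod N) * j ≠ 0 := fun h0 =>
      hR.ne_zero _ j.2 (((h : (ZMod N)ˣ).isUnit.mul_right_eq_zero).1 h0)
    have key : ∀ x : ZMod N,
        conj ((ZMod.stdAddChar (N := N) (((g : (ZMod N)ˣ) : ZMod N) * x * i) : ℂ) - 1) *
          ((ZMod.stdAddChar (N := N) (((h : (ZMod N)ˣ) : ZMod N) * x * j) : ℂ) - 1) =
        ZMod.stdAddChar (N := N)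
            (x * (((h : (ZMod N)ˣ) : ZMod N) * j - ((g : (ZMod N)ˣ) : ZMod N) * i)) -
          ZMod.stdAddChar (N := N) (x * -(((g : (ZMod N)ˣ) : ZMod N) * i)) -
          ZMod.stdAddChar (N := N) (x * (((h : (ZMod N)ˣ) : ZMod N) * j)) + 1 := by
      intro x
      rw [map_sub, map_one, conj_stdAddChar]
      rw [show x * (((h : (ZMod N)ˣ) : ZMod N) * j - ((g : (ZMod N)ˣ) : ZMod N) * i) =
          -(((g : (ZMod N)ˣ) : ZMod N) * x * i) + ((h : (ZMod N)ˣ) : ZMod N) * x * j by ring,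
        show x * -(((g : (ZMod N)ˣ) : ZMod N) * i) = -(((g : (ZMod N)ˣ) : ZMod N) * x * i) by ring,
        show x * (((h : (ZMod N)ˣ) : ZMod N) * j) = ((h : (ZMod N)ˣ) : ZMod N) * x * j by ring,
        AddChar.map_add_eq_mul]
      ring
    simp only [key, Finset.sum_add_distrib, Finset.sum_sub_distrib, sum_stdAddChar, neg_eq_zero,
      if_neg hg, if_neg hh, Finset.sum_const, Finset.card_univ, ZMod.card, nsmul_eq_mul, mul_one,
      sub_zero]
    by_cases hc : g = h ∧ i = j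
    · rw [if_pos (by rw [hc.1, hc.2, sub_self]), if_pos hc]; ring
    · rw [if_neg, if_neg hc]
      · ring
      · intro h0
        have h' : (((h⁻¹ * g : E) : (ZMod N)ˣ) : ZMod N) * i = (j : ZMod N) := by
          rw [sub_eq_zero] at h0
          rw [Subgroup.coe_mul, Units.val_mul, mul_assoc, ← h0, ← mul_assoc, ← Units.val_mul,
            ← Subgroup.coe_mul, inv_mul_cancel]
          simp
        obtain ⟨h1, h2⟩ := hR.unique _ i.2 _ j.2 _ h'
        exact hc ⟨(inv_mul_eq_one.1 h2).symm, Subtype.ext h1⟩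
  have h1 := hR.sum_eq fun x => conj (orbChar E (i : ZMod N) x) * orbChar E (j : ZMod N) x
  simp only [orbChar_zero, mul_zero, zero_add, orbChar_smul, Finset.sum_const, Finset.card_univ,
    nsmul_eq_mul] at h1
  rw [← Finset.sum_coe_sort R] at h1
  have h2 : ∑ x : ZMod N, conj (orbChar E (i : ZMod N) x) * orbChar E (j : ZMod N) x =
      (Fintype.card E : ℂ) * ((N : ℂ) * ((if i = j then 1 else 0) + Fintype.card E)) := by
    simp only [orbChar, map_sum, Finset.sum_mul_sum]
    rw [Finset.sum_comm, Finset.sum_congr rfl fun g _ => Finset.sum_comm]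
    simp only [hinner, ← Finset.mul_sum, Finset.sum_add_distrib, Finset.sum_const, Finset.card_univ,
      nsmul_eq_mul, mul_one]
    by_cases hij : i = j
    · simp [hij]; ring
    · simp [hij]; ring
  rw [h2, ← Finset.mul_sum] at h1
  exact (mul_left_cancel₀ (Nat.cast_ne_zero.2 Fintype.card_ne_zero) h1).symm

/-- The determinant of the weighted Gram matrix of the orbit sums. -/
theorem Reps.det_gram (hR : Reps E R) (D : R → ℂ) :
    (Matrix.of fun i j : R => (N : ℂ)⁻¹ *
      ∑ r : R, conj (orbChar E (i : ZMod N) r) * (D r * orbChar E (j : ZMod N) r)).det =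
      (N : ℂ) * ∏ r, D r := by
  classical
  let A : Matrix R R ℂ := Matrix.of fun r j => orbChar E (j : ZMod N) r
  have hN : (N : ℂ) ≠ 0 := Nat.cast_ne_zero.2 (NeZero.ne N)
  have hAA : Aᴴ * A = (N : ℂ) • ((1 : Matrix R R ℂ) +
      replicateCol Unit (fun _ : R => (Fintype.card E : ℂ)) * replicateRow Unit fun _ : R => (1 : ℂ)) := by
    ext i j
    simp only [Matrix.mul_apply, Matrix.conjTranspose_apply, A, Matrix.of_apply, Matrix.smul_apply,
      Matrix.add_apply, Matrix.one_apply, Matrix.replicateCol_apply, Matrix.replicateRow_apply,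
      Finset.univ_unique, Finset.sum_singleton, smul_eq_mul, mul_one]
    exact hR.gram i j
  have hdetA : Aᴴ.det * A.det = (N : ℂ) ^ R.card * N := by
    rw [← Matrix.det_mul, hAA, Matrix.det_smul, Matrix.det_one_add_replicateCol_mul_replicateRow,
      Fintype.card_coe]
    congr 1
    simp only [dotProduct, one_mul, Finset.sum_const, Finset.card_univ, Fintype.card_coe,
      nsmul_eq_mul]
    have := hR.card_eq
    calc (1 : ℂ) + R.card * Fintype.card E = ((1 + Fintype.card E * R.card : ℕ) : ℂ) := by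
          push_cast; ring
      _ = N := by rw [this]
  have hM : (Matrix.of fun i j : R => (N : ℂ)⁻¹ *
      ∑ r : R, conj (orbChar E (i : ZMod N) r) * (D r * orbChar E (j : ZMod N) r)) =
      (N : ℂ)⁻¹ • (Aᴴ * (Matrix.diagonal D * A)) := by
    ext i j
    rw [Matrix.smul_apply, Matrix.mul_apply, smul_eq_mul]
    simp only [A, Matrix.diagonal_mul, Matrix.conjTranspose_apply, Matrix.of_apply]
    rfl
  rw [hM, Matrix.det_smul, Matrix.det_mul, Matrix.det_mul, Matrix.det_diagonal, Fintype.card_coe]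
  calc (N : ℂ)⁻¹ ^ R.card * (Aᴴ.det * ((∏ r, D r) * A.det))
      = (N : ℂ)⁻¹ ^ R.card * (Aᴴ.det * A.det) * ∏ r, D r := by ring
    _ = (N : ℂ) * ∏ r, D r := by rw [hdetA, inv_pow, ← mul_assoc, inv_mul_cancel₀ (pow_ne_zero _ hN), one_mul]

end CfsgLib.OrbitDet
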