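import Cfsg.Agent.Lib.BlockRank.Contribution
import Cfsg.Agent.Lib.BlockRank.Major

/-!
# Orthogonality between different subsections of a block
-/

set_option autoImplicit false

open scoped ComplexConjugate

namespace CfsgLib.BlockRank

universe u

variable {G : Type u} [Group G] [Fintype G] {p : ℕ} [Fact p.Prime] {M : Ideal Cfsg.AlgInt}

/-- Second main theorem, pointwise. -/
theorem blockPart_translate_eq_zero (hM : Cfsg.IsPModular p M) {C : Subgroup G} {x : G}
    (hC : C = Subgroup.centralizer {x}) (hx : ∃ k : ℕ, orderOf x = p ^ k) [Fintype C]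
    {e : Set (Cfsg.IrrCharacter C)} {B : Set (Cfsg.IrrCharacter G)}
    (hind : Cfsg.IsInducedBlock M C e B) {χ : Cfsg.IrrCharacter G} (hχ : χ ∉ B) {s : C}
    (hs : Cfsg.IsPRegular p s) :
    Cfsg.blockPart e (fun c : C => (χ : G → ℂ) (x * c)) s = 0 := by
  subst hC
  have : M.IsMaximal := hM.2.1
  exact Cfsg.Agent.S0923.result p M hM x hx (Cfsg.blockOf M (χ : G → ℂ)) ⟨χ, rfl⟩ χ
    (CfsgLib.BlockReg.sameBlock_refl hM _) e hind.1 (fun hind' => hχ (by
      rw [CfsgLib.Blocks.IsInducedBlock.unique hind hind']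
      exact CfsgLib.BlockReg.sameBlock_refl hM _)) s hs

/-- Translates by nonconjugate `p`-elements are orthogonal. -/
theorem sum_translate_mul_conj_eq_zero {C D : Subgroup G} {x y : G}
    (hC : C = Subgroup.centralizer {x}) (hx : ∃ k : ℕ, orderOf x = p ^ k)
    (hD : D = Subgroup.centralizer {y}) (hy : ∃ k : ℕ, orderOf y = p ^ k) (hxy : ¬ IsConj x y)
    (c : C) (d : D) (hc : Cfsg.IsPRegular p c) (hd : Cfsg.IsPRegular p d) :
    ∑ χ : Cfsg.IrrCharacter G, (χ : G → ℂ) (x * c) * conj ((χ : G → ℂ) (y * d)) = 0 := by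
  classical
  rw [CfsgLib.Char.sum_mul_conj, if_neg]
  intro h
  obtain ⟨g, hg⟩ := isConj_iff.1 h
  obtain ⟨i, hi⟩ := hx
  obtain ⟨j, hj⟩ := hy
  have h1 : Cfsg.IsPPart p (x * (c : G)) x := CfsgLib.Blocks.isPPart_of_commute
    (Subgroup.mem_centralizer_singleton_iff.1 (hC ▸ c.2 : (c : G) ∈ Subgroup.centralizer {x})).symm
    hi (by rwa [Subgroup.orderOf_coe])
  have h2 : Cfsg.IsPPart p (y * (d : G)) y := CfsgLib.Blocks.isPPart_of_commute
    (Subgroup.mem_centralizer_singleton_iff.1 (hD ▸ d.2 : (d : G) ∈ Subgroup.centralizer {y})).symm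
    hj (by rwa [Subgroup.orderOf_coe])
  have h3 := CfsgLib.Blocks.IsPPart.conj h1 g
  rw [hg] at h3
  exact hxy (isConj_iff.2 ⟨g, CfsgLib.Blocks.IsPPart.unique Fact.out h3 h2⟩)

/-- Subsections at nonconjugate elements are orthogonal over the block. -/
theorem sum_blockPart_cross (hM : Cfsg.IsPModular p M) {C D : Subgroup G} {x y : G}
    (hC : C = Subgroup.centralizer {x}) (hx : ∃ k : ℕ, orderOf x = p ^ k)
    (hD : D = Subgroup.centralizer {y}) (hy : ∃ k : ℕ, orderOf y = p ^ k) (hxy : ¬ IsConj x y)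
    [Fintype C] [Fintype D] {e : Set (Cfsg.IrrCharacter C)} [Fintype e]
    {f : Set (Cfsg.IrrCharacter D)} [Fintype f] {B : Set (Cfsg.IrrCharacter G)} [Fintype B]
    (hind : Cfsg.IsInducedBlock M C e B) (hf : Cfsg.IsPBlock M f) {s : C} {t : D}
    (hs : Cfsg.IsPRegular p s) (ht : Cfsg.IsPRegular p t) :
    ∑ χ ∈ B.toFinset, Cfsg.blockPart e (fun c : C => (χ : G → ℂ) (x * c)) s *
      conj (Cfsg.blockPart f (fun c : D => (χ : G → ℂ) (y * c)) t) = 0 := by
  classical
  rw [Finset.sum_subset (Finset.subset_univ _) fun χ _ hχ => by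
    rw [blockPart_translate_eq_zero hM hC hx hind (fun h => hχ (Set.mem_toFinset.2 h)) hs, zero_mul]]
  simp only [blockPart_eq_projKer, map_sum, map_mul, Finset.sum_mul, Finset.mul_sum]
  rw [Finset.sum_comm]
  refine Finset.sum_eq_zero fun d _ => ?_
  rw [Finset.sum_comm]
  refine Finset.sum_eq_zero fun c _ => ?_
  by_cases hc : Cfsg.IsPRegular p c
  swap
  · simp [projKer_eq_zero hM hind.1 hs hc]
  by_cases hd : Cfsg.IsPRegular p d
  swap
  · simp [projKer_eq_zero hM hf ht hd]
  calc _ = projKer e s c * conj (projKer f t d) *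
      ∑ χ : Cfsg.IrrCharacter G, (χ : G → ℂ) (x * c) * conj ((χ : G → ℂ) (y * d)) := by
        rw [Finset.mul_sum]
        exact Finset.sum_congr rfl fun χ _ => by ring
    _ = 0 := by rw [sum_translate_mul_conj_eq_zero hC hx hD hy hxy c d hc hd, mul_zero]

/-- Different subsections at one element are orthogonal over the block. -/
theorem sum_blockPart_ne (hM : Cfsg.IsPModular p M) {C : Subgroup G} {x : G}
    (hC : C = Subgroup.centralizer {x}) (hx : ∃ k : ℕ, orderOf x = p ^ k) [Fintype C]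
    {e f : Set (Cfsg.IrrCharacter C)} [Fintype e] [Fintype f] (hf : Cfsg.IsPBlock M f)
    (hef : e ≠ f) {B : Set (Cfsg.IrrCharacter G)} [Fintype B]
    (hind : Cfsg.IsInducedBlock M C e B) {s t : C}
    (hs : Cfsg.IsPRegular p s) (ht : Cfsg.IsPRegular p t) :
    ∑ χ ∈ B.toFinset, Cfsg.blockPart e (fun c : C => (χ : G → ℂ) (x * c)) s *
      conj (Cfsg.blockPart f (fun c : C => (χ : G → ℂ) (x * c)) t) = 0 := by
  classical
  have hdis : ∀ φ, φ ∈ e → φ ∉ f := by
    intro φ h1 h2
    haveI : M.IsMaximal := hM.2.1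
    exact hef ((CfsgLib.Blocks.IsPBlock.eq_blockOf hind.1 h1).trans
      (CfsgLib.Blocks.IsPBlock.eq_blockOf hf h2).symm)
  have hexp : ∀ {ι : Type u} [Fintype ι] (F : ι → C → ℂ),
      ∑ i, Cfsg.blockPart e (F i) s * conj (Cfsg.blockPart f (F i) t) =
        ∑ c : C, ∑ d : C, projKer e s c * conj (projKer f t d) * ∑ i, F i c * conj (F i d) := by
    intro ι _ F
    simp only [blockPart_eq_projKer, map_sum, map_mul, Finset.sum_mul, Finset.mul_sum]
    conv_rhs => rw [Finset.sum_comm]
    rw [Finset.sum_comm]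
    refine Finset.sum_congr rfl fun d _ => ?_
    rw [Finset.sum_comm]
    exact Finset.sum_congr rfl fun c _ => Finset.sum_congr rfl fun i _ => by ring
  rw [Finset.sum_subset (Finset.subset_univ _) fun χ _ hχ => by
    rw [blockPart_translate_eq_zero hM hC hx hind (fun h => hχ (Set.mem_toFinset.2 h)) hs, zero_mul],
    hexp (fun (χ : Cfsg.IrrCharacter G) (c : C) => (χ : G → ℂ) (x * c))]
  calc _ = ∑ c : C, ∑ d : C, projKer e s c * conj (projKer f t d) *
      ∑ φ : Cfsg.IrrCharacter C, (φ : C → ℂ) c * conj ((φ : C → ℂ) d) := by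
        refine Finset.sum_congr rfl fun c _ => Finset.sum_congr rfl fun d _ => ?_
        by_cases hc : Cfsg.IsPRegular p c
        swap
        · simp [projKer_eq_zero hM hind.1 hs hc]
        by_cases hd : Cfsg.IsPRegular p d
        swap
        · simp [projKer_eq_zero hM hf ht hd]
        rw [sum_translate_mul_conj hC hx c d hc hd]
    _ = 0 := by
        rw [← hexp (fun φ : Cfsg.IrrCharacter C => (φ : C → ℂ))]
        refine Finset.sum_eq_zero fun φ _ => ?_
        rw [blockPart_irr, blockPart_irr]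
        by_cases h1 : φ ∈ e
        · rw [if_neg (hdis φ h1), map_zero, mul_zero]
        · rw [if_neg h1, zero_mul]

/-- A subsection away from the identity is orthogonal over the block to the regular elements. -/
theorem sum_blockPart_regular (hM : Cfsg.IsPModular p M) {C : Subgroup G} {x : G}
    (hC : C = Subgroup.centralizer {x}) (hx : ∃ k : ℕ, orderOf x = p ^ k) (hx1 : x ≠ 1) [Fintype C]
    {e : Set (Cfsg.IrrCharacter C)} [Fintype e] {B : Set (Cfsg.IrrCharacter G)} [Fintype B]
    (hind : Cfsg.IsInducedBlock M C e B) {s : C} (hs : Cfsg.IsPRegular p s) {g : G}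
    (hg : Cfsg.IsPRegular p g) :
    ∑ χ ∈ B.toFinset, Cfsg.blockPart e (fun c : C => (χ : G → ℂ) (x * c)) s *
      conj ((χ : G → ℂ) g) = 0 := by
  classical
  rw [Finset.sum_subset (Finset.subset_univ _) fun χ _ hχ => by
    rw [blockPart_translate_eq_zero hM hC hx hind (fun h => hχ (Set.mem_toFinset.2 h)) hs, zero_mul]]
  simp only [blockPart_eq_projKer, Finset.sum_mul]
  rw [Finset.sum_comm]
  refine Finset.sum_eq_zero fun c _ => ?_
  by_cases hc : Cfsg.IsPRegular p c
  swap
  · simp [projKer_eq_zero hM hind.1 hs hc]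
  have hD : (⊤ : Subgroup G) = Subgroup.centralizer {(1 : G)} :=
    ((Subgroup.eq_top_iff' _).2 fun y =>
      Subgroup.mem_centralizer_singleton_iff.2 (by rw [mul_one, one_mul])).symm
  have h := sum_translate_mul_conj_eq_zero hC hx hD ⟨0, by simp⟩
    (fun h => hx1 (isConj_one_left.1 h)) c ⟨g, Subgroup.mem_top g⟩ hc
    (by rw [Cfsg.IsPRegular, ← Subgroup.orderOf_coe]; exact hg)
  simp only [one_mul] at h
  rw [← mul_zero (projKer e s c), ← h, Finset.mul_sum]
  exact Finset.sum_congr rfl fun χ _ => by ring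

end CfsgLib.BlockRank
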