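import Cfsg.Agent.Lib.BlockRank.MinNorm
import Cfsg.Agent.Lib.BlockRank.SectionOrth

/-!
# Combinations of the contribution columns of the subsections away from the identity
-/

set_option autoImplicit false
set_option maxHeartbeats 800000

open scoped ComplexConjugate
open Cfsg CfsgLib.BlockReg

namespace CfsgLib.BlockRank

universe u

variable {G : Type u} [Group G] [Fintype G] {p : ℕ} [Fact p.Prime] {M : Ideal Cfsg.AlgInt}

omit [Fact p.Prime] in
theorem conj_contrib {C : Subgroup G} [Fintype C] (d : ℕ) (x : G) (e : Set (IrrCharacter C))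
    (χ ψ : IrrCharacter G) : conj (contrib p d x e χ ψ) = contrib p d x e ψ χ := by
  simp only [contrib, regPair, map_mul, map_sum, map_inv₀, map_natCast, Complex.conj_conj]
  congr 2
  exact Finset.sum_congr rfl fun s _ => mul_comm _ _

/-- Distinct subsections have orthogonal contribution columns. -/
theorem sum_contrib_mul_conj_ne (hM : IsPModular p M) {x y : G}
    (hx : ∃ k : ℕ, orderOf x = p ^ k) (hy : ∃ k : ℕ, orderOf y = p ^ k)
    [Fintype (Subgroup.centralizer ({x} : Set G))] [Fintype (Subgroup.centralizer ({y} : Set G))]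
    {e : Set (IrrCharacter (Subgroup.centralizer ({x} : Set G)))}
    {f : Set (IrrCharacter (Subgroup.centralizer ({y} : Set G)))}
    {B : Set (IrrCharacter G)} [Fintype B]
    (hind : IsInducedBlock M (Subgroup.centralizer ({x} : Set G)) e B)
    (hf : IsPBlock M f) (hne : ¬ IsConj x y ∨ (∃ h : x = y, ¬ HEq e f)) (d : ℕ)
    (ψ ψ' : IrrCharacter G) :
    ∑ χ ∈ B.toFinset, contrib p d x e χ ψ * conj (contrib p d y f χ ψ') = 0 := by
  classical
  haveI := Fintype.ofFinite e
  haveI := Fintype.ofFinite f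
  have key : ∀ (s : Subgroup.centralizer ({x} : Set G)) (t : Subgroup.centralizer ({y} : Set G)),
      IsPRegular p s → IsPRegular p t →
      ∑ χ ∈ B.toFinset, blockPart e (fun c => (χ : G → ℂ) (x * (c : G))) s *
        conj (blockPart f (fun c => (χ : G → ℂ) (y * (c : G))) t) = 0 := by
    intro s t hs ht
    rcases hne with h | ⟨rfl, h⟩
    · exact sum_blockPart_cross hM rfl hx rfl hy h hind hf hs ht
    · have h' : e ≠ f := fun he => h (he ▸ HEq.rfl)
      convert sum_blockPart_ne hM rfl hx hf h' hind hs ht using 4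
  simp only [contrib, regPair, map_mul, map_sum, map_inv₀, map_natCast, Complex.conj_conj,
    Finset.mul_sum, Finset.sum_mul]
  rw [Finset.sum_comm]
  refine Finset.sum_eq_zero fun t ht => ?_
  rw [Finset.sum_comm]
  refine Finset.sum_eq_zero fun s hs => ?_
  have h := key s t (Finset.mem_filter.1 hs).2 (Finset.mem_filter.1 ht).2
  calc _ = ((p ^ d : ℕ) : ℂ) * (Nat.card (Subgroup.centralizer ({x} : Set G)) : ℂ)⁻¹ *
        (((p ^ d : ℕ) : ℂ) * (Nat.card (Subgroup.centralizer ({y} : Set G)) : ℂ)⁻¹) *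
        conj (blockPart e (fun c => (ψ : G → ℂ) (x * (c : G))) s) *
        blockPart f (fun c => (ψ' : G → ℂ) (y * (c : G))) t *
        ∑ χ ∈ B.toFinset, blockPart e (fun c => (χ : G → ℂ) (x * (c : G))) s *
          conj (blockPart f (fun c => (χ : G → ℂ) (y * (c : G))) t) := by
        rw [Finset.mul_sum]
        exact Finset.sum_congr rfl fun χ _ => by ring
    _ = 0 := by rw [h, mul_zero]

/-- A contribution column away from the identity vanishes on the regular elements. -/
theorem sum_contrib_mul_regular (hM : IsPModular p M) {C : Subgroup G} {x : G}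
    (hC : C = Subgroup.centralizer {x}) (hx : ∃ k : ℕ, orderOf x = p ^ k) (hx1 : x ≠ 1) [Fintype C]
    {e : Set (IrrCharacter C)} {B : Set (IrrCharacter G)} [Fintype B]
    (hind : IsInducedBlock M C e B) (d : ℕ) (ψ : IrrCharacter G) {g : G} (hg : IsPRegular p g) :
    ∑ χ ∈ B.toFinset, contrib p d x e χ ψ * (χ : G → ℂ) g = 0 := by
  classical
  haveI := Fintype.ofFinite e
  simp only [contrib, regPair, Finset.mul_sum, Finset.sum_mul]
  rw [Finset.sum_comm]
  refine Finset.sum_eq_zero fun s hs => ?_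
  have h := sum_blockPart_regular hM hC hx hx1 hind (Finset.mem_filter.1 hs).2
    (g := g⁻¹) ((isPRegular_inv g).2 hg)
  calc _ = ((p ^ d : ℕ) : ℂ) * (Nat.card C : ℂ)⁻¹ *
        conj (blockPart e (fun c : C => (ψ : G → ℂ) (x * c)) s) *
        ∑ χ ∈ B.toFinset, blockPart e (fun c : C => (χ : G → ℂ) (x * c)) s *
          conj ((χ : G → ℂ) g⁻¹) := by
        rw [Finset.mul_sum]
        refine Finset.sum_congr rfl fun χ _ => ?_
        rw [← CfsgLib.Char.IsIrrCharacter.apply_inv χ.2, inv_inv]
        ring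
    _ = 0 := by rw [h, mul_zero]

/-- The subsection at a major element has a unit contribution at a character of height zero. -/
theorem contrib_self_unit (hM : IsPModular p M) {C : Subgroup G} {x : G}
    (hC : C = Subgroup.centralizer {x}) {k : ℕ} (hx : orderOf x = p ^ k) [Fintype C]
    {e : Set (IrrCharacter C)} {B : Set (IrrCharacter G)}
    (hind : IsInducedBlock M C e B) {d : ℕ}
    (hd : d + minExp p e = (Nat.card C).factorization p) {ψ : IrrCharacter G} (hψ : ψ ∈ B)
    (hh : (charDegree (ψ : G → ℂ)).factorization p = minExp p B) :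
    MemLocalRing M (contrib p d x e ψ ψ) ∧ ¬ MemLocalIdeal M (contrib p d x e ψ ψ) := by
  classical
  haveI := Fintype.ofFinite e
  have hp : p.Prime := Fact.out
  set n := p ^ k with hn
  have hn0 : 0 < n := Nat.pow_pos hp.pos
  let ζ := Complex.exp (2 * Real.pi * Complex.I / n)
  have hζ : IsPrimitiveRoot ζ n := Complex.isPrimitiveRoot_exp n hn0.ne'
  have hζx : IsPrimitiveRoot ζ (orderOf x) := by rw [hx]; exact hζ
  obtain ⟨c, Z, hc, hc', hZ, hval, hsq, htr, hcong⟩ := exists_local_matrix hM hind.1 hd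
  choose a i hai using exists_blockPart_translate (G := G) hC hζx
  set T := e.toFinset with hT
  have hcf : ∀ χ ψ, contrib p d x e χ ψ = cycloForm T Z (a χ) (a ψ) (i χ) (i ψ) ζ :=
    contrib_eq_cycloForm (d := d) hval a i fun χ s => (hai χ).2 e s
  let r : IrrCharacter C → ℂ := fun φ =>
    (charDegree (φ : C → ℂ) : ℂ) / ((p ^ minExp p e : ℕ) : ℂ)
  let R : ℂ := ∑ φ ∈ T, (a ψ φ : ℂ) * r φ
  have hR : MemLocalRing M R :=
    memRing_sum hM _ fun φ hφ => memRing_mul hM (memRing_natCast hM _)
      (deg_div_memRing hM (Set.mem_toFinset.mp hφ))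
  have hR0 : ¬ MemLocalIdeal M R := fun hmem =>
    not_memIdeal_degree_blockPart hM hind hψ hh (a ψ) (hai ψ).1 hmem
  have hmemR : MemLocalRing M (contrib p d x e ψ ψ) := by
    rw [hcf, cycloForm]
    refine memRing_sum hM _ fun φ _ => memRing_sum hM _ fun θ _ => ?_
    refine memRing_mul hM (memRing_mul hM (memRing_mul hM (memRing_natCast hM _)
      (memRing_natCast hM _)) (memRing_intCast hM _)) (memRing_algInt hM ?_)
    rw [map_pow, ← Complex.inv_eq_conj (Complex.norm_eq_one_of_pow_eq_one hζ.pow_eq_one hn0.ne')]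
    exact ((hζ.isIntegral hn0).pow _).mul ((hζ.inv.isIntegral hn0).pow _)
  have hred : MemLocalIdeal M (contrib p d x e ψ ψ - c * (R * R)) := by
    rw [hcf, cycloForm]
    simp only [R, Finset.sum_mul_sum]
    simp only [Finset.mul_sum, ← Finset.sum_sub_distrib]
    refine memIdeal_sum hM _ fun φ hφ => memIdeal_sum hM _ fun θ hθ => ?_
    have h1 := memIdeal_mul_left hM (memRing_natCast hM (a ψ φ * a ψ θ))
      (hcong φ (Set.mem_toFinset.mp hφ) θ (Set.mem_toFinset.mp hθ))
    have hz : MemLocalIdeal M (ζ ^ i ψ φ * conj (ζ ^ i ψ θ) - 1) := by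
      rw [map_pow, ← Complex.inv_eq_conj
        (Complex.norm_eq_one_of_pow_eq_one hζ.pow_eq_one hn0.ne'),
        show ζ⁻¹ = ζ ^ (n - 1) from (eq_inv_of_mul_eq_one_left (by
          rw [← pow_succ, Nat.sub_add_cancel hn0, hζ.pow_eq_one])).symm, ← pow_mul, ← pow_add]
      exact memIdeal_pow_sub_one hM hζ _
    have h2 := memIdeal_mul_left hM
      (memRing_intCast hM (((a ψ φ * a ψ θ : ℕ) : ℤ) * Z φ θ)) hz
    convert memIdeal_add hM h1 h2 using 1
    simp only [r]
    push_cast
    ring
  refine ⟨hmemR, fun h0 => not_memIdeal_mul hM hc (memRing_mul hM hR hR) hc'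
    (not_memIdeal_mul hM hR hR hR0 hR0) ?_⟩
  simpa using memIdeal_sub hM h0 hred

end CfsgLib.BlockRank
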