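import Cfsg.Agent.Lib.BlockRank.AbelianRank
import Cfsg.Agent.Lib.BlockRank.AbelianSections
import Cfsg.Agent.Lib.BlockRank.KernelLattice
import Cfsg.Agent.Lib.BlockRank.OrbitDet
import Cfsg.Agent.Lib.BlockRank.SectionColumns
import Cfsg.Agent.Lib.Blocks.Pairs.CyclicInertial

/-!
# The least nonzero value of the local form of a block with cyclic defect group

It is at least the rank: the kernel of the form contains integral combinations of contribution
columns with Gram determinant `p ^ a` times a unit.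
-/

set_option autoImplicit false
set_option maxHeartbeats 1600000
set_option synthInstance.maxHeartbeats 400000

open Cfsg CfsgLib.Blocks CfsgLib.Blocks.Pairs CfsgLib.BlockReg
open scoped Classical ComplexConjugate
open Matrix

namespace CfsgLib.BlockRank

universe u

variable {p : ℕ} [Fact p.Prime] {M : Ideal AlgInt}

theorem mulAut_zmod_apply {N : ℕ} [NeZero N] (f : MulAut (Multiplicative (ZMod N))) (x : ZMod N) :
    (f (Multiplicative.ofAdd x)).toAdd = x * (f (Multiplicative.ofAdd 1)).toAdd := by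
  have h : Multiplicative.ofAdd x = Multiplicative.ofAdd (1 : ZMod N) ^ x.val := by
    rw [← ofAdd_nsmul, nsmul_one, ZMod.natCast_zmod_val]
  rw [h, map_pow, toAdd_pow, nsmul_eq_mul, ZMod.natCast_zmod_val]

/-- The unit by which an automorphism of `ZMod N` multiplies. -/
def zmodScale (N : ℕ) [NeZero N] : MulAut (Multiplicative (ZMod N)) →* (ZMod N)ˣ :=
  MonoidHom.toHomUnits
    { toFun := fun f => (f (Multiplicative.ofAdd 1)).toAdd
      map_one' := rfl
      map_mul' := fun f g => by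
        rw [MulAut.mul_apply, ← ofAdd_toAdd (g (Multiplicative.ofAdd 1)), mulAut_zmod_apply,
          mul_comm, toAdd_ofAdd] }

theorem zmodScale_apply (N : ℕ) [NeZero N] (f : MulAut (Multiplicative (ZMod N)))
    (x : Multiplicative (ZMod N)) :
    (f x).toAdd = (zmodScale N f : ZMod N) * x.toAdd := by
  rw [← ofAdd_toAdd x, mulAut_zmod_apply, mul_comm]
  rfl

variable [M.IsMaximal] [CharP (ResField M) p]

/-- The coefficients of the star products of the functions on an abelian defect group vanishing at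
the identity and invariant under the inertial group are integers. -/
def StarIntegral (p : ℕ) (M : Ideal AlgInt) [M.IsMaximal] : Prop :=
  ∀ {G : Type u} [Group G] [Fintype G] {B : Set (IrrCharacter G)} (hB : IsPBlock M B)
    {P : Subgroup G} {e : MonoidAlgebra (ResField M) G}, PairOf p (ebar hB) P e → NoExt p P e →
    (∀ x ∈ P, ∀ y ∈ P, x * y = y * x) →
    ∀ η : G → ℂ, η 1 = 0 →
      (∀ y ∈ pairStab P e, ∀ u ∈ P, η (y * u * y⁻¹) = η u) →
      (∃ (n : ℕ) (lam : Fin n → (P →* ℂˣ)) (c : Fin n → ℤ),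
        ∀ u : P, η u = ∑ i, (c i : ℂ) * (lam i u : ℂ)) →
    ∀ (T : Finset (Σ x : G, Set (IrrCharacter (Subgroup.centralizer ({x} : Set G)))))
      (φ : (Σ x : G, Set (IrrCharacter (Subgroup.centralizer ({x} : Set G)))) → G),
      (∀ u ∈ P, ∃ s ∈ T, ∃ y ∈ pairStab P e, y * φ s * y⁻¹ = u) →
      (∀ s₁ ∈ T, ∀ s₂ ∈ T, ∀ y ∈ pairStab P e, y * φ s₁ * y⁻¹ = φ s₂ → s₁ = s₂) →
      (∀ s₁ ∈ T, ∀ s₂ ∈ T, IsConj s₁.1 s₂.1 → s₁.1 = s₂.1) →
      (∀ s ∈ T, ∃ (g : G) (hb : IsPBlock M s.2), g * s.1 * g⁻¹ = φ s ∧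
        SLE p (Subgroup.zpowers (φ s)) (conjA g (eIn hb)) P e) →
    ∀ χ ∈ B, ∀ ψ ∈ B, ∃ z : ℤ, (z : ℂ) = ((p ^ blockDefect p B : ℕ) : ℂ)⁻¹ *
      ∑ s ∈ T, η (φ s) * contrib p (blockDefect p B) s.1 s.2 χ ψ

variable {G : Type u} [Group G] [Fintype G]

omit [M.IsMaximal] [CharP (ResField M) p] in
/-- A block with a diagonal entry of the local form equal to `p ^ d` has a character vanishing at
all singular elements. -/
theorem eq_zero_of_regPair_eq_card (χ : IrrCharacter G)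
    (h : regPair p (χ : G → ℂ) (χ : G → ℂ) = (Nat.card G : ℂ)) {g : G}
    (hg : ¬ IsPRegular p g) : (χ : G → ℂ) g = 0 := by
  have hsum : ∑ x : G, (χ : G → ℂ) x * conj ((χ : G → ℂ) x) = (Nat.card G : ℂ) := by
    have h1 := CfsgLib.Char.classInner_irrCharacter χ χ
    rw [if_pos rfl, Cfsg.classInner] at h1
    have hc : (Nat.card G : ℂ) ≠ 0 := Nat.cast_ne_zero.2 Nat.card_pos.ne'
    field_simp at h1
    exact h1
  rw [← h, regPair, regSet, ← Finset.sum_filter_add_sum_filter_not Finset.univ (IsPRegular p),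
    add_eq_left] at hsum
  simp only [Complex.mul_conj] at hsum
  have hsum' : ∑ x ∈ Finset.univ.filter (fun x : G => ¬ IsPRegular p x),
      Complex.normSq ((χ : G → ℂ) x) = 0 := by exact_mod_cast hsum
  exact Complex.normSq_eq_zero.1 ((Finset.sum_eq_zero_iff_of_nonneg
    fun x _ => Complex.normSq_nonneg _).1 hsum' g (Finset.mem_filter.2 ⟨Finset.mem_univ _, hg⟩))

/-- **The bound.** -/
theorem norm_ge_of_cyclic (hstar : StarIntegral.{u} p M) (hM : IsPModular p M)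
    {B : Set (IrrCharacter G)} [Fintype B] (P : Subgroup G) (hB : IsPBlock M B)
    (hD : IsDefectGroup p M B P) (hcyc : IsCyclic P)
    (Z : IrrCharacter G → IrrCharacter G → ℤ)
    (hval : ∀ φ ∈ B, ∀ θ ∈ B, (Z φ θ : ℂ) = ((p ^ blockDefect p B : ℕ) : ℂ) *
      ((Nat.card G : ℂ)⁻¹ * regPair p (φ : G → ℂ) (θ : G → ℂ)))
    (u : IrrCharacter G → ℤ) (hu : zForm B.toFinset Z u u ≠ 0) :
    (blockRank p B : ℤ) ≤ zForm B.toFinset Z u u := by
  have hp : p.Prime := Fact.out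
  set a := blockDefect p B with ha
  obtain ⟨c₀, Z', -, -, hZ', hval', hsq, htr, -⟩ := exists_local_matrix hM hB
    (d := a) (CfsgLib.BrauerFeit.defect_add_minExp hM hB)
  set Tb := B.toFinset with hTb
  have hmemB : ∀ χ, χ ∈ Tb ↔ χ ∈ B := fun χ => Set.mem_toFinset
  have hZZ : ∀ φ ∈ Tb, ∀ θ ∈ Tb, Z φ θ = Z' φ θ := fun φ hφ θ hθ => by
    have e1 := hval φ ((hmemB φ).1 hφ) θ ((hmemB θ).1 hθ)
    rw [← hval' φ ((hmemB φ).1 hφ) θ ((hmemB θ).1 hθ)] at e1
    exact_mod_cast e1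
  have hzz : zForm Tb Z u u = zForm Tb Z' u u :=
    Finset.sum_congr rfl fun φ hφ => Finset.sum_congr rfl fun θ hθ => by rw [hZZ φ hφ θ hθ]
  rw [hzz] at hu ⊢
  have hNpos : (0 : ℤ) < ((p ^ a : ℕ) : ℤ) := by exact_mod_cast Nat.pow_pos (n := a) hp.pos
  rcases Nat.eq_zero_or_pos a with ha0 | hapos
  · have h1 := CfsgLib.BlockReg.brauer_feit hM hB
    rw [← ha, ha0, mul_zero, pow_zero] at h1
    have h2 := blockRank_le_card (p := p) B
    have := zForm_self_nonneg hZ' hNpos hsq u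
    omega
  -- the pairs and subsections
  have hmax := (isDefectGroup_iff_maxR hM hB).1 hD
  obtain ⟨e, hP⟩ := exists_pairOf (p := p) (isBlockIdem_ebar hB) hmax.pgroup hmax.ne_zero
  have hno := hmax.noExt hP
  have hab : ∀ x ∈ P, ∀ y ∈ P, x * y = y * x := fun x hx y hy => by
    letI := hcyc.commGroup
    exact congrArg Subtype.val (mul_comm (⟨x, hx⟩ : P) ⟨y, hy⟩)
  have hcardP : Nat.card P = p ^ a := card_defectGroup hM hB hD
  have hP1 : P ≠ ⊥ := by
    intro h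
    rw [h, Subgroup.card_bot] at hcardP
    exact absurd hcardP.symm (Nat.one_lt_pow hapos.ne' hp.one_lt).ne'
  set S := pairStab P e with hS
  haveI : ((Subgroup.centralizer (P : Set G)).subgroupOf S).Normal := by
    have h2 : (Subgroup.centralizer (P : Set G)).subgroupOf S =
        (P.normalizerMonoidHom.comp
          (Subgroup.inclusion (show S ≤ Subgroup.normalizer (P : Set G) from fun y hy => (hy : y ∈ pairStab P e).1))).ker := by
      ext y
      rw [MonoidHom.mem_ker, MonoidHom.comp_apply, ← MonoidHom.mem_ker,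
        Subgroup.normalizerMonoidHom_ker, Subgroup.mem_subgroupOf, Subgroup.mem_subgroupOf]
      rfl
    rw [h2]
    infer_instance
  have hfree : Free P S := (cyclic_inertial hP.pair.pgroup hP1 hcyc (fun y hy => (hy : y ∈ pairStab P e).1)
    fun g hg => exists_pow_mem_centralizer hM hP hno hab hg).2.2
  obtain ⟨T, φ, hk, hφP, hsurj, hinj, hone, hloc, hreps, hpair⟩ :=
    exists_sections_reps hM hB hP hno hab
  -- coordinates on `P`
  set N := Nat.card P with hN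
  haveI : NeZero N := ⟨Nat.card_pos.ne'⟩
  set π : Multiplicative (ZMod N) ≃* P := zmodCyclicMulEquiv hcyc with hπ
  let co : P → ZMod N := fun v => (π.symm v).toAdd
  let act : S →* (ZMod N)ˣ := (zmodScale N).comp ((MulAut.congr π.symm).toMonoidHom.comp
    (P.normalizerMonoidHom.comp
      (Subgroup.inclusion (show S ≤ Subgroup.normalizer (P : Set G) from fun y hy => (hy : y ∈ pairStab P e).1))))
  have hconj : ∀ (y : S) (v : P), ∃ h : (y : G) * v * (y : G)⁻¹ ∈ P,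
      co ⟨(y : G) * v * (y : G)⁻¹, h⟩ = ((act y : (ZMod N)ˣ) : ZMod N) * co v := by
    intro y v
    refine ⟨(Subgroup.mem_normalizer_iff.1 y.2.1 _).1 v.2, ?_⟩
    show _ = ((zmodScale N _ : (ZMod N)ˣ) : ZMod N) * (π.symm v).toAdd
    rw [← zmodScale_apply]
    simp only [co, MulAut.congr, MulEquiv.coe_toMonoidHom, MonoidHom.comp_apply]
    congr 1
    simp
    rfl
  set E : Subgroup (ZMod N)ˣ := act.range with hE
  letI : Fintype E := Fintype.ofFinite E
  have hco0 : ∀ v : P, co v = 0 ↔ v = 1 := fun v => by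
    constructor
    · intro h
      have : π.symm v = 1 := Multiplicative.toAdd.injective h
      rwa [MulEquiv.map_eq_one_iff] at this
    · rintro rfl; simp [co]
  have hcoinj : Function.Injective co := fun v w h =>
    π.symm.injective (Multiplicative.toAdd.injective h)
  have hcosurj : ∀ x, ∃ v : P, co v = x := fun x => ⟨π (Multiplicative.ofAdd x), by simp [co]⟩
  obtain ⟨R, hR⟩ := CfsgLib.OrbitDet.exists_reps E (by
    rintro ⟨_, y, rfl⟩ x hx hfix
    obtain ⟨v, rfl⟩ := hcosurj x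
    obtain ⟨h, hy⟩ := hconj y v
    have hv : (y : G) * v * (y : G)⁻¹ = v := congrArg Subtype.val (hcoinj (hy.trans hfix))
    have hyC := hfree y y.2 v v.2 (fun h1 => hx ((hco0 v).2 (Subtype.ext h1))) hv
    refine Subtype.ext (Units.ext ?_)
    obtain ⟨w, hw⟩ := hcosurj 1
    obtain ⟨h', hy'⟩ := hconj y w
    have hw' : (⟨(y : G) * w * (y : G)⁻¹, h'⟩ : P) = w := Subtype.ext
      (mul_inv_eq_iff_eq_mul.2 (Subgroup.mem_centralizer_iff.1 hyC _ w.2).symm)
    rw [hw', hw, mul_one] at hy'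
    exact hy'.symm)
  have hstab : ∀ {v w : P}, (∃ g : E, ((g : (ZMod N)ˣ) : ZMod N) * co v = co w) ↔
      ∃ y ∈ S, y * (v : G) * y⁻¹ = w := by
    intro v w
    constructor
    · rintro ⟨⟨_, y, rfl⟩, h⟩
      obtain ⟨h', hy⟩ := hconj y v
      exact ⟨y, y.2, congrArg Subtype.val (hcoinj (hy.trans h))⟩
    · rintro ⟨y, hy, h⟩
      obtain ⟨h', hy'⟩ := hconj ⟨y, hy⟩ v
      refine ⟨⟨_, ⟨y, hy⟩, rfl⟩, hy'.symm.trans (congrArg co (Subtype.ext h))⟩
  -- representatives against subsections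
  choose rv hrv using fun r : R => hcosurj (r : ZMod N)
  choose σ hσT yσ hyσS hyσ using fun r : R => hsurj (rv r : G) (rv r).2
  set T' := T.filter (fun s => φ s ≠ 1) with hT'
  have hσT' : ∀ r, σ r ∈ T' := fun r => Finset.mem_filter.2 ⟨hσT r, fun h1 => by
    have := hyσ r
    rw [h1, mul_one, mul_inv_cancel] at this
    exact hR.ne_zero _ r.2 (by rw [← hrv r, hco0]; exact Subtype.ext this.symm)⟩
  have hσbij : Function.Bijective fun r : R => (⟨σ r, hσT' r⟩ : T') := by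
    constructor
    · intro r r' h
      have h' : σ r = σ r' := congrArg Subtype.val h
      obtain ⟨g, hg⟩ := (hstab (v := rv r) (w := rv r')).2 ⟨yσ r' * (yσ r)⁻¹,
        mul_mem (hyσS r') (inv_mem (hyσS r)), by
          rw [← hyσ r, ← hyσ r', h']; group⟩
      rw [hrv, hrv] at hg
      exact Subtype.ext (hR.unique _ r.2 _ r'.2 g hg).1
    · rintro ⟨s, hs⟩
      obtain ⟨hsT, hs1⟩ := Finset.mem_filter.1 hs
      obtain ⟨r, hr, g, hg⟩ := hR.cover (co ⟨φ s, hφP s hsT⟩)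
        (fun h => hs1 (congrArg Subtype.val ((hco0 _).1 h)))
      obtain ⟨y, hy, hyv⟩ := (hstab (v := rv ⟨r, hr⟩) (w := ⟨φ s, hφP s hsT⟩)).1
        ⟨g, by rw [hrv]; exact hg⟩
      refine ⟨⟨r, hr⟩, Subtype.ext (hinj _ (hσT _) s hsT (y * yσ ⟨r, hr⟩)
        (mul_mem hy (hyσS _)) ?_)⟩
      calc _ = y * (yσ ⟨r, hr⟩ * φ (σ ⟨r, hr⟩) * (yσ ⟨r, hr⟩)⁻¹) * y⁻¹ := by group
        _ = φ s := by rw [hyσ]; exact hyv
  have hl1 : ∀ s ∈ T', blockRank p s.2 = 1 := fun s hs => by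
    obtain ⟨hsT, hs1⟩ := Finset.mem_filter.1 hs
    exact (hloc s hsT).2.2.2 fun y hy h => hfree y hy _ (hφP s hsT) hs1 h
  have hcount : Nat.card B = blockRank p B + R.card := by
    obtain ⟨s₀, hs₀, y₀, -, hy₀⟩ := hsurj 1 (one_mem P)
    have hs₀1 : φ s₀ = 1 := by
      calc φ s₀ = y₀⁻¹ * (y₀ * φ s₀ * y₀⁻¹) * y₀ := by group
        _ = 1 := by rw [hy₀]; group
    have hsing : T.filter (fun s => ¬ φ s ≠ 1) = {s₀} := by
      ext s
      rw [Finset.mem_filter, not_not, Finset.mem_singleton]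
      exact ⟨fun h => hinj s h.1 s₀ hs₀ 1 (one_mem S) (by rw [h.2, hs₀1]; simp),
        fun h => by rw [h]; exact ⟨hs₀, hs₀1⟩⟩
    rw [hk, ← Finset.sum_filter_add_sum_filter_not T (fun s => φ s ≠ 1), hsing,
      Finset.sum_singleton, hone s₀ hs₀ hs₀1, ← hT', Finset.sum_congr rfl hl1,
      ← Finset.card_eq_sum_ones, add_comm, ← Fintype.card_coe T',
      ← Fintype.card_of_bijective hσbij, Fintype.card_coe]
  -- the functions
  let η : R → G → ℂ := fun r g =>
    if h : g ∈ P then CfsgLib.OrbitDet.orbChar E (r : ZMod N) (co ⟨g, h⟩) else 0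
  have hη1 : ∀ r, η r 1 = 0 := fun r => by
    simp only [η, dif_pos (one_mem P)]
    rw [show co ⟨1, one_mem P⟩ = 0 from (hco0 _).2 rfl, CfsgLib.OrbitDet.orbChar_zero]
  have hηinv : ∀ r, ∀ y ∈ S, ∀ v ∈ P, η r (y * v * y⁻¹) = η r v := by
    intro r y hy v hv
    obtain ⟨h', hy'⟩ := hconj ⟨y, hy⟩ ⟨v, hv⟩
    simp only [η, dif_pos hv]
    rw [dif_pos h', hy']
    exact CfsgLib.OrbitDet.orbChar_smul E ⟨_, ⟨y, hy⟩, rfl⟩ _ _
  have hηchar : ∀ r, ∃ (n : ℕ) (lam : Fin n → (P →* ℂˣ)) (c : Fin n → ℤ),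
      ∀ v : P, η r v = ∑ i, (c i : ℂ) * (lam i v : ℂ) := by
    intro r
    let lam : E ⊕ E → (P →* ℂˣ) := Sum.elim
      (fun g => MonoidHom.toHomUnits
        { toFun := fun v => (ZMod.stdAddChar (N := N)
            (((g : (ZMod N)ˣ) : ZMod N) * co v * (r : ZMod N)) : ℂ)
          map_one' := by simp [co]
          map_mul' := fun v w => by
            rw [← AddChar.map_add_eq_mul]
            simp only [co, map_mul, toAdd_mul]
            ring_nf })
      (fun _ => 1)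
    let c : E ⊕ E → ℤ := Sum.elim (fun _ => 1) (fun _ => -1)
    refine ⟨_, lam ∘ (Fintype.equivFin (E ⊕ E)).symm, c ∘ (Fintype.equivFin (E ⊕ E)).symm,
      fun v => ?_⟩
    refine Eq.trans ?_ ((Fintype.equivFin (E ⊕ E)).symm.sum_comp
      fun i => (c i : ℂ) * (lam i v : ℂ)).symm
    simp only [η, dif_pos v.2, CfsgLib.OrbitDet.orbChar, Fintype.sum_sum_type, lam, c,
      Sum.elim_inl, Sum.elim_inr, ← Finset.sum_add_distrib]
    refine Finset.sum_congr rfl fun g _ => ?_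
    simp
    rfl
  obtain ⟨ψ, hψ, hψm⟩ := exists_minExp (p := p) (block_nonempty hM hB)
  choose Y hY using fun (χ : {χ // χ ∈ Tb}) (r : R) => hstar hB hP hno hab (η r) (hη1 r) (hηinv r)
    (hηchar r) T φ hsurj hinj hreps hpair χ.1 ((hmemB _).1 χ.2) ψ hψ
  let A : Matrix {χ // χ ∈ Tb} {χ // χ ∈ Tb} ℤ := Matrix.of fun χ θ => Z' χ θ
  let Ym : Matrix {χ // χ ∈ Tb} R ℤ := Matrix.of Y
  have hsymm : A.transpose = A := by ext χ θ; exact hZ' _ _
  have hA2 : A * A = ((p ^ a : ℕ) : ℤ) • A := by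
    ext χ θ
    rw [Matrix.mul_apply, Matrix.smul_apply, smul_eq_mul]
    simp only [A, Matrix.of_apply]
    rw [Finset.sum_coe_sort Tb (fun ξ => Z' χ ξ * Z' ξ θ), hsq χ χ.2 θ θ.2]
  have hAtr : A.trace = ((p ^ a : ℕ) : ℤ) * (blockRank p B : ℤ) := by
    simp only [Matrix.trace, Matrix.diag_apply, A, Matrix.of_apply]
    rw [Finset.sum_coe_sort Tb (fun ξ => Z' ξ ξ), htr]
    push_cast
    ring
  -- the columns are orthogonal to the regular elements
  have hreg : ∀ (r : R) (g : G), IsPRegular p g →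
      ∑ χ : {χ // χ ∈ Tb}, (Y χ r : ℂ) * (χ.1 : G → ℂ) g = 0 := by
    intro r g hg
    simp only [hY, Finset.mul_sum, Finset.sum_mul]
    rw [Finset.sum_comm]
    refine Finset.sum_eq_zero fun s hs => ?_
    by_cases hs1 : φ s = 1
    · simp [hs1, hη1]
    have hsx : s.1 ≠ 1 := by
      intro h
      obtain ⟨g', _, hg', -⟩ := hpair s hs
      rw [h, mul_one, mul_inv_cancel] at hg'
      exact hs1 hg'.symm
    have h0 := sum_contrib_mul_regular hM rfl (hloc s hs).1 hsx (hloc s hs).2.1 a ψ hg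
    rw [← Finset.sum_coe_sort B.toFinset] at h0
    calc _ = ((p ^ a : ℕ) : ℂ)⁻¹ * η r (φ s) *
          ∑ χ : {χ // χ ∈ Tb}, contrib p a s.1 s.2 χ.1 ψ * (χ.1 : G → ℂ) g := by
          rw [Finset.mul_sum]
          exact Finset.sum_congr rfl fun χ _ => by ring
      _ = 0 := by rw [h0, mul_zero]
  have hAY : A * Ym = 0 := by
    ext χ r
    apply Int.cast_injective (α := ℂ)
    rw [Matrix.mul_apply, Matrix.zero_apply, Int.cast_zero, Int.cast_sum]
    simp only [A, Ym, Matrix.of_apply, Int.cast_mul]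
    rw [Finset.sum_congr rfl fun θ _ => by
      rw [hval' _ ((hmemB _).1 χ.2) _ ((hmemB _).1 θ.2)]]
    simp only [regPair, Finset.mul_sum, Finset.sum_mul]
    rw [Finset.sum_comm]
    refine Finset.sum_eq_zero fun g hg => ?_
    calc _ = ((p ^ a : ℕ) : ℂ) * (Nat.card G : ℂ)⁻¹ * (χ.1 : G → ℂ) g *
          ∑ θ : {θ // θ ∈ Tb}, (Y θ r : ℂ) * (θ.1 : G → ℂ) g⁻¹ := by
          rw [Finset.mul_sum]
          refine Finset.sum_congr rfl fun θ _ => ?_
          rw [CfsgLib.Char.IsIrrCharacter.apply_inv θ.1.2]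
          ring
      _ = 0 := by rw [hreg r g⁻¹ ((isPRegular_inv g).2 (Finset.mem_filter.1 hg).2), mul_zero]
  -- the Gram matrix
  let w : R → ℂ := fun r => contrib p a (σ r).1 (σ r).2 ψ ψ
  have hw : ∀ r, MemLocalRing M (w r) ∧ ¬ MemLocalIdeal M (w r) := fun r => by
    obtain ⟨⟨k, hk⟩, hind, hdef, -⟩ := hloc (σ r) (hσT r)
    exact contrib_self_unit hM rfl hk hind (d := a)
      (by rw [ha, ← hdef]; exact CfsgLib.BrauerFeit.defect_add_minExp hM hind.1) hψ hψm
  have hgram : ((Ymᵀ * Ym).map (Int.cast : ℤ → ℂ)) = Matrix.of fun i j : R => (N : ℂ)⁻¹ *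
      ∑ r : R, conj (CfsgLib.OrbitDet.orbChar E (i : ZMod N) r) *
        (w r * CfsgLib.OrbitDet.orbChar E (j : ZMod N) r) := by
    ext i j
    have hcol : ∀ r : R, η i (φ (σ r)) = CfsgLib.OrbitDet.orbChar E (i : ZMod N) (r : ZMod N) ∧
        η j (φ (σ r)) = CfsgLib.OrbitDet.orbChar E (j : ZMod N) (r : ZMod N) := by
      intro r
      have h : ∀ i : R, η i (φ (σ r)) = CfsgLib.OrbitDet.orbChar E (i : ZMod N) (r : ZMod N) := by
        intro i
        rw [← hηinv i _ (hyσS r) _ (hφP _ (hσT r)), hyσ r]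
        simp only [η, dif_pos (rv r).2]
        rw [← hrv r]
      exact ⟨h i, h j⟩
    rw [Matrix.map_apply, Matrix.mul_apply, Int.cast_sum]
    simp only [Ym, Matrix.transpose_apply, Matrix.of_apply, Int.cast_mul]
    have hexp : ∀ χ : {χ // χ ∈ Tb}, (Y χ i : ℂ) * (Y χ j : ℂ) =
        ∑ s ∈ T, ∑ t ∈ T, ((p ^ a : ℕ) : ℂ)⁻¹ * ((p ^ a : ℕ) : ℂ)⁻¹ * η j (φ s) * conj (η i (φ t)) *
          (contrib p a s.1 s.2 χ.1 ψ * conj (contrib p a t.1 t.2 χ.1 ψ)) := by
      intro χ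
      rw [mul_comm, show (Y χ i : ℂ) = conj ((Y χ i : ℤ) : ℂ) by rw [map_intCast], hY, hY]
      simp only [map_mul, map_sum, map_inv₀, map_natCast, Finset.mul_sum, Finset.sum_mul]
      rw [Finset.sum_comm]
      exact Finset.sum_congr rfl fun s _ => Finset.sum_congr rfl fun t _ => by ring
    rw [Finset.sum_congr rfl fun χ _ => hexp χ, Finset.sum_comm]
    have hrow : ∀ s ∈ T, ∀ t ∈ T,
        ∑ χ : {χ // χ ∈ Tb}, contrib p a s.1 s.2 χ.1 ψ * conj (contrib p a t.1 t.2 χ.1 ψ) =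
          if s = t then ((p ^ a : ℕ) : ℂ) * contrib p a s.1 s.2 ψ ψ else 0 := by
      intro s hs t ht
      rw [Finset.sum_coe_sort Tb fun χ => contrib p a s.1 s.2 χ ψ * conj (contrib p a t.1 t.2 χ ψ)]
      split_ifs with hst
      · subst hst
        rw [← sum_contrib_mul_conj hM rfl (hloc s hs).1 (hloc s hs).2.1 a ψ]
        refine Finset.sum_congr rfl fun χ _ => ?_
        rw [conj_contrib a s.1 s.2 χ ψ, conj_contrib a s.1 s.2 ψ χ, mul_comm]
      · refine sum_contrib_mul_conj_ne hM (hloc s hs).1 (hloc t ht).1 (hloc s hs).2.1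
          (hloc t ht).2.1.1 ?_ a ψ ψ
        by_cases hc : IsConj s.1 t.1
        · exact Or.inr ⟨hreps s hs t ht hc, fun h => hst (Sigma.ext (hreps s hs t ht hc) h)⟩
        · exact Or.inl hc
    have hstep : ∀ s ∈ T, (∑ χ : {χ // χ ∈ Tb}, ∑ t ∈ T,
        ((p ^ a : ℕ) : ℂ)⁻¹ * ((p ^ a : ℕ) : ℂ)⁻¹ * η j (φ s) * conj (η i (φ t)) *
          (contrib p a s.1 s.2 χ.1 ψ * conj (contrib p a t.1 t.2 χ.1 ψ))) =
        (N : ℂ)⁻¹ * (conj (η i (φ s)) * (contrib p a s.1 s.2 ψ ψ * η j (φ s))) := by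
      intro s hs
      rw [Finset.sum_comm, Finset.sum_congr rfl fun t ht => by rw [← Finset.mul_sum, hrow s hs t ht],
        Finset.sum_eq_single s (fun t _ h => by rw [if_neg (Ne.symm h), mul_zero])
          (fun h => absurd hs h), if_pos rfl, hcardP]
      have : ((p ^ a : ℕ) : ℂ) ≠ 0 := Nat.cast_ne_zero.2 (pow_ne_zero _ hp.ne_zero)
      field_simp
    rw [Finset.sum_congr rfl hstep, ← Finset.sum_filter_of_ne (p := fun s => φ s ≠ 1)
      (fun s _ h h1 => h (by rw [h1, hη1, map_zero, zero_mul, mul_zero])), ← hT',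
      ← Finset.sum_coe_sort T', ← (Equiv.ofBijective _ hσbij).sum_comp, Finset.mul_sum]
    refine Finset.sum_congr rfl fun r _ => ?_
    show (N : ℂ)⁻¹ * (conj (η i (φ (σ r))) * (w r * η j (φ (σ r)))) = _
    rw [(hcol r).1, (hcol r).2]
  have hdetC : (((Ymᵀ * Ym).det : ℤ) : ℂ) = ((p ^ a : ℕ) : ℂ) * ∏ r, w r := by
    rw [show (((Ymᵀ * Ym).det : ℤ) : ℂ) = ((Ymᵀ * Ym).map (Int.cast : ℤ → ℂ)).det from
      (Int.castRingHom ℂ).map_det _, hgram, hR.det_gram]
    exact congrArg (fun n : ℕ => (n : ℂ) * ∏ r, w r) hcardP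
  have hprod : MemLocalRing M (∏ r, w r) ∧ ¬ MemLocalIdeal M (∏ r, w r) := by
    refine Finset.prod_induction _ (fun z => MemLocalRing M z ∧ ¬ MemLocalIdeal M z)
      (fun x y hx hy => ⟨memRing_mul hM hx.1 hy.1, not_memIdeal_mul hM hx.1 hy.1 hx.2 hy.2⟩)
      ⟨by simpa using memRing_natCast hM 1, not_memIdeal_one hM⟩ fun r _ => hw r
  have hpa : ((p ^ a : ℕ) : ℂ) ≠ 0 := Nat.cast_ne_zero.2 (pow_ne_zero _ hp.ne_zero)
  have hquot : (((Ymᵀ * Ym).det : ℤ) : ℂ) / ((p ^ a : ℕ) : ℂ) = ∏ r, w r := by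
    rw [hdetC, mul_div_cancel_left₀ _ hpa]
  obtain ⟨hcrit1, hcrit2⟩ := memIdeal_intCast_div hM (Ymᵀ * Ym).det a
  obtain ⟨v, hv⟩ := hcrit1.2 (by rw [hquot]; exact hprod.1)
  have hvp : IsCoprime ((p ^ a : ℕ) : ℤ) v := by
    push_cast
    refine ((Nat.prime_iff_prime_int.1 hp).coprime_iff_not_dvd.2 fun hd => hprod.2 ?_).pow_left
    rw [← hquot]
    refine hcrit2.1 ?_
    rw [hv, pow_succ]
    push_cast
    exact mul_dvd_mul_left _ hd
  have hq : zForm Tb Z' u u = (fun φ : {χ // χ ∈ Tb} => u φ) ⬝ᵥ A.mulVec (fun φ => u φ) := by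
    rw [zForm_eq_sum_mul]
    simp only [dotProduct, Matrix.mulVec, A, Matrix.of_apply]
    rw [← Finset.sum_coe_sort Tb (fun φ => u φ * ∑ θ ∈ Tb, Z' φ θ * u θ)]
    refine Finset.sum_congr rfl fun φ _ => ?_
    rw [← Finset.sum_coe_sort Tb (fun θ => Z' φ θ * u θ)]
  rw [hq] at hu ⊢
  refine CfsgLib.LatticeBound.le_quadratic_of_kernel hNpos A hsymm hA2 _ hAtr Ym hAY ?_ v hv hvp
    (fun χ h => ?_) _ fun h0 => hu (by rw [h0, dotProduct_zero])
  · rw [Fintype.card_coe, Fintype.card_coe, Set.toFinset_card, ← Nat.card_eq_fintype_card, hcount]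
    push_cast
    ring
  · have hχB := (hmemB _).1 χ.2
    have h1 := hval' _ hχB _ hχB
    simp only [A, Matrix.of_apply] at h
    rw [h, Int.cast_natCast] at h1
    have h2 : regPair p (χ.1 : G → ℂ) (χ.1 : G → ℂ) = (Nat.card G : ℂ) := by
      have hc : (Nat.card G : ℂ) ≠ 0 := Nat.cast_ne_zero.2 Nat.card_pos.ne'
      field_simp at h1
      exact h1.symm
    obtain ⟨v₁, hv₁, hv₁1⟩ := (Subgroup.ne_bot_iff_exists_ne_one.1 hP1 : ∃ v : P, v ≠ 1) |>.elim
      fun v hv => (⟨v, v.2, fun h => hv (Subtype.ext h)⟩ : ∃ v, v ∈ P ∧ v ≠ 1)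
    obtain ⟨s, hs, y, -, hy⟩ := hsurj v₁ hv₁
    obtain ⟨⟨k, hk⟩, hind, hdef, -⟩ := hloc s hs
    obtain ⟨t, ht, hne⟩ := exists_apply_ne_zero_of_major hM rfl ⟨k, hk⟩ hind hdef hχB
    refine hne (eq_zero_of_regPair_eq_card _ h2 fun hreg' => ?_)
    have h3 := IsPPart.unique hp (isPPart_one_of_regular hreg') (isPPart_of_commute
      (Subgroup.mem_centralizer_singleton_iff.1 t.2).symm hk (by rwa [Subgroup.orderOf_coe]))
    obtain ⟨g', _, hg', -⟩ := hpair s hs
    rw [← h3, mul_one, mul_inv_cancel] at hg'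
    exact hv₁1 (by rw [← hy, ← hg', mul_one, mul_inv_cancel])

end CfsgLib.BlockRank
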