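import Cfsg.Agent.Lib.BlockRank.CycloBound
import Cfsg.Agent.Lib.BlockReg.LocalRing
import Cfsg.Agent.Lib.Blocks.Local
import Mathlib.RingTheory.Polynomial.Cyclotomic.Eval
import Mathlib.Algebra.Ring.GeomSum

/-!
# Integers in the field of a `2`-power root of unity
-/

set_option autoImplicit false

open Polynomial
open scoped ComplexConjugate

namespace CfsgLib.BlockRank

theorem isIntegral_aeval_int {ζ : ℂ} (hζ : IsIntegral ℤ ζ) (P : ℤ[X]) :
    IsIntegral ℤ (aeval ζ P) := by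
  have h1 := (aeval (⟨ζ, hζ⟩ : integralClosure ℤ ℂ) P).2
  rwa [← Subalgebra.coe_val, ← Polynomial.aeval_algHom_apply] at h1

variable {k : ℕ} {ζ : ℂ}

/-- `2` is the `2 ^ k`-th power of `ζ - 1` times an algebraic integer. -/
theorem exists_two_eq_pow_mul (hζ : IsPrimitiveRoot ζ (2 ^ (k + 1))) :
    ∃ r : ℂ, IsIntegral ℤ r ∧ (2 : ℂ) = (ζ - 1) ^ 2 ^ k * r := by
  classical
  have : Fact (Nat.Prime 2) := ⟨Nat.prime_two⟩
  have hn : 0 < 2 ^ (k + 1) := Nat.pow_pos (by norm_num)
  have : NeZero (2 ^ (k + 1)) := ⟨hn.ne'⟩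
  have h2 : (2 : ℂ) = ∏ w ∈ primitiveRoots (2 ^ (k + 1)) ℂ, (1 - w) := by
    have h := Polynomial.eval_one_cyclotomic_prime_pow (R := ℂ) (p := 2) k
    rw [Polynomial.cyclotomic_eq_prod_X_sub_primitiveRoots hζ, Polynomial.eval_prod] at h
    simpa using h.symm
  have hg : ∀ w ∈ primitiveRoots (2 ^ (k + 1)) ℂ,
      ∃ g : ℂ, IsIntegral ℤ g ∧ 1 - w = (ζ - 1) * g := by
    intro w hw
    obtain ⟨c, -, rfl⟩ := hζ.eq_pow_of_pow_eq_one ((mem_primitiveRoots hn).mp hw).pow_eq_one
    refine ⟨-∑ i ∈ Finset.range c, ζ ^ i,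
      (IsIntegral.sum _ fun i _ => (hζ.isIntegral hn).pow i).neg, ?_⟩
    have := geom_sum_mul ζ c
    linear_combination this
  choose g hgint hgeq using hg
  refine ⟨∏ a ∈ (primitiveRoots (2 ^ (k + 1)) ℂ).attach, g a.1 a.2,
    IsIntegral.prod _ fun a _ => hgint a.1 a.2, ?_⟩
  rw [h2, ← Finset.prod_attach,
    Finset.prod_congr rfl fun a _ => hgeq a.1 a.2, Finset.prod_mul_distrib, Finset.prod_const,
    Finset.card_attach, hζ.card_primitiveRoots, Nat.totient_prime_pow_succ Nat.prime_two]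
  norm_num

theorem memLocalIdeal_sub_one {M : Ideal Cfsg.AlgInt} (hM : Cfsg.IsPModular 2 M)
    (hζ : IsPrimitiveRoot ζ (2 ^ (k + 1))) : Cfsg.MemLocalIdeal M (ζ - 1) := by
  have : M.IsPrime := hM.2.1.isPrime
  have : M.IsMaximal := hM.2.1
  have hR : ζ ∈ CfsgLib.Blocks.locRing M :=
    BlockReg.memRing_algInt hM (hζ.isIntegral (Nat.pow_pos (by norm_num)))
  rw [← OneMemClass.coe_one (CfsgLib.Blocks.locRing M),
    CfsgLib.Blocks.memLocalIdeal_sub_iff (x := ⟨ζ, hR⟩), map_one]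
  exact CfsgLib.Blocks.red_eq_one_of_pow_prime_pow hM.1 hM.2.2 (k := k + 1)
    (Subtype.ext hζ.pow_eq_one)

/-- An integral combination of the powers of `ζ` below `2 ^ k` is divisible by `2` only if its
coefficients are. -/
theorem coeff_two_dvd {M : Ideal Cfsg.AlgInt} (hM : Cfsg.IsPModular 2 M)
    (hζ : IsPrimitiveRoot ζ (2 ^ (k + 1))) (P : ℤ[X]) (hdeg : P.natDegree < 2 ^ k) {y : ℂ}
    (hy : IsIntegral ℤ y) (h : aeval ζ P = 2 * y) : ∃ Q : ℤ[X], P = Polynomial.C 2 * Q := by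
  have hπint : IsIntegral ℤ (ζ - 1) :=
    (hζ.isIntegral (Nat.pow_pos (by norm_num))).sub isIntegral_one
  have hπ := memLocalIdeal_sub_one hM hζ
  obtain ⟨r, hr, h2⟩ := exists_two_eq_pow_mul hζ
  have hπ0 : ζ - 1 ≠ 0 := fun h0 => by
    rw [h0, zero_pow (by positivity), zero_mul] at h2
    norm_num at h2
  set S := P.comp (X + Polynomial.C 1) with hS
  have hSdeg : S.natDegree < 2 ^ k := by
    rw [hS, Polynomial.natDegree_comp, Polynomial.natDegree_X_add_C, mul_one]
    exact hdeg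
  have hSeval : aeval (ζ - 1) S = 2 * y := by
    rw [hS, aeval_comp]
    simp [h]
  have key : ∀ i, i ≤ 2 ^ k → ∀ j < i, (2 : ℤ) ∣ S.coeff j := by
    intro i
    induction i with
    | zero => intro _ j hj; omega
    | succ i ih =>
      intro hi j hj
      rcases Nat.lt_succ_iff_lt_or_eq.mp hj with hji | rfl
      · exact ih (by omega) j hji
      choose! c hc using fun l (hl : l < j) => ih (by omega) l hl
      have hlow : IsIntegral ℤ (∑ l ∈ Finset.range j, (c l : ℂ) * (ζ - 1) ^ l) :=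
        IsIntegral.sum _ fun l _ => (isIntegral_intCast (c l)).mul (hπint.pow l)
      have hsplit : ∑ l ∈ Finset.Ico j (2 ^ k), (S.coeff l : ℂ) * (ζ - 1) ^ l =
          2 * (y - ∑ l ∈ Finset.range j, (c l : ℂ) * (ζ - 1) ^ l) := by
        have hall := Polynomial.aeval_eq_sum_range' hSdeg (ζ - 1)
        simp only [zsmul_eq_mul] at hall
        rw [hSeval, ← Finset.sum_range_add_sum_Ico _ (by omega : j ≤ 2 ^ k)] at hall
        rw [mul_sub, Finset.mul_sum, eq_sub_iff_add_eq', hall]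
        congr 1
        refine Finset.sum_congr rfl fun l hl => ?_
        rw [hc l (Finset.mem_range.mp hl)]
        push_cast
        ring
      set z := y - ∑ l ∈ Finset.range j, (c l : ℂ) * (ζ - 1) ^ l with hz
      have hzint : IsIntegral ℤ z := hy.sub hlow
      have hrest : ∑ l ∈ Finset.Ico j (2 ^ k), (S.coeff l : ℂ) * (ζ - 1) ^ (l - j) =
          (ζ - 1) ^ (2 ^ k - j) * (r * z) := by
        refine mul_left_cancel₀ (pow_ne_zero j hπ0) ?_
        rw [Finset.mul_sum, ← mul_assoc, ← pow_add, Nat.add_sub_cancel' (by omega : j ≤ 2 ^ k),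
          ← mul_assoc, ← h2, ← hsplit]
        refine Finset.sum_congr rfl fun l hl => ?_
        rw [mul_left_comm, ← pow_add, Nat.add_sub_cancel' (Finset.mem_Ico.mp hl).1]
      rw [Finset.sum_eq_sum_Ico_succ_bot (by omega : j < 2 ^ k), Nat.sub_self, pow_zero,
        mul_one] at hrest
      have hmem : Cfsg.MemLocalIdeal M (S.coeff j : ℂ) := by
        rw [eq_sub_iff_add_eq.mpr hrest]
        refine BlockReg.memIdeal_sub hM ?_ (BlockReg.memIdeal_sum hM _ fun l hl => ?_)
        · rw [show 2 ^ k - j = (2 ^ k - j - 1) + 1 by omega, pow_succ']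
          rw [mul_assoc]
          exact BlockReg.memIdeal_mul_right hM hπ
            (BlockReg.memRing_algInt hM ((hπint.pow _).mul (hr.mul hzint)))
        · rw [show l - j = (l - j - 1) + 1 by
            have := (Finset.mem_Ico.mp hl).1; omega, pow_succ, ← mul_assoc]
          exact BlockReg.memIdeal_mul_left hM
            (BlockReg.memRing_algInt hM ((isIntegral_intCast _).mul (hπint.pow _))) hπ
      exact_mod_cast (BlockReg.memIdeal_intCast_iff hM _).mp hmem
  have hSdvd : Polynomial.C 2 ∣ S := (Polynomial.C_dvd_iff_dvd_coeff 2 S).mpr fun j => by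
    rcases lt_or_ge j (2 ^ k) with hj | hj
    · exact key (2 ^ k) le_rfl j hj
    · rw [Polynomial.coeff_eq_zero_of_natDegree_lt (lt_of_lt_of_le hSdeg hj)]
      exact dvd_zero _
  obtain ⟨Q, hQ⟩ := hSdvd
  refine ⟨Q.comp (X - Polynomial.C 1), ?_⟩
  have := congrArg (fun F : ℤ[X] => F.comp (X - Polynomial.C 1)) hQ
  simpa [hS, Polynomial.comp_assoc] using this

/-- Reduce an integral polynomial below the degree `2 ^ k`. -/
theorem exists_reduced (k : ℕ) (P : ℤ[X]) :
    ∃ R : ℤ[X], R.natDegree < 2 ^ k ∧ ∀ w : ℂ, IsPrimitiveRoot w (2 ^ (k + 1)) →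
      aeval w R = aeval w P := by
  refine ⟨P %ₘ cyclotomic (2 ^ (k + 1)) ℤ, ?_, fun w hw => ?_⟩
  · have hmon := cyclotomic.monic (2 ^ (k + 1)) ℤ
    have hne : cyclotomic (2 ^ (k + 1)) ℤ ≠ 1 := fun h => by
      have := congrArg Polynomial.natDegree h
      rw [natDegree_cyclotomic, natDegree_one] at this
      exact (Nat.totient_pos.mpr (Nat.pow_pos (by norm_num))).ne' this
    have h := Polynomial.natDegree_modByMonic_lt P hmon hne
    rwa [natDegree_cyclotomic, Nat.totient_prime_pow_succ Nat.prime_two, show (2 - 1) = 1 from rfl,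
      mul_one] at h
  · have h := congrArg (aeval w) (Polynomial.modByMonic_add_div P (cyclotomic (2 ^ (k + 1)) ℤ))
    rw [map_add, map_mul] at h
    have h0 : aeval w (cyclotomic (2 ^ (k + 1)) ℤ) = 0 := by
      rw [aeval_def, eval₂_eq_eval_map, map_cyclotomic, ← IsRoot.def]
      have : NeZero ((2 ^ (k + 1) : ℕ) : ℂ) := ⟨by exact_mod_cast (Nat.pow_pos (by norm_num : 0 < 2)).ne'⟩
      exact isRoot_cyclotomic_iff.mpr hw
    rw [h0, zero_mul, add_zero] at h
    exact h

/-- An integral polynomial value divisible by `2 ^ h` among the algebraic integers is so in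
`ℤ[ζ]`. -/
theorem exists_divided {M : Ideal Cfsg.AlgInt} (hM : Cfsg.IsPModular 2 M) {k : ℕ} {ζ : ℂ}
    (hζ : IsPrimitiveRoot ζ (2 ^ k)) (h : ℕ) (P : ℤ[X]) {y : ℂ} (hy : IsIntegral ℤ y)
    (hP : aeval ζ P = 2 ^ h * y) :
    ∃ Q : ℤ[X], aeval ζ Q = y := by
  induction h generalizing P with
  | zero => exact ⟨P, by simpa using hP⟩
  | succ h ih =>
    cases k with
    | zero =>
      rw [pow_zero, IsPrimitiveRoot.one_right_iff] at hζ
      subst hζ
      obtain ⟨q, hq⟩ : ∃ q : ℚ, y = (q : ℂ) := by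
        refine ⟨((P.eval 1 : ℤ) : ℚ) / 2 ^ (h + 1), ?_⟩
        have h1 : aeval (1 : ℂ) P = ((P.eval 1 : ℤ) : ℂ) := by
          have := Polynomial.aeval_algebraMap_apply ℂ (1 : ℤ) P
          simpa using this
        rw [h1] at hP
        push_cast
        rw [hP]
        field_simp
      subst hq
      obtain ⟨z, hz⟩ := CfsgLib.Char.exists_int_of_isIntegral_ratCast hy
      exact ⟨Polynomial.C z, by simp [← hz]⟩
    | succ k =>
      obtain ⟨R, hRdeg, hR⟩ := exists_reduced k P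
      obtain ⟨R', hR'⟩ := coeff_two_dvd hM hζ R hRdeg
        (((isIntegral_natCast 2).pow h).mul hy) (by
          rw [hR ζ hζ, hP]
          push_cast
          ring)
      refine ih R' ?_
      have := hP
      rw [← hR ζ hζ, hR', map_mul, aeval_C] at this
      simp only [map_ofNat, pow_succ] at this
      exact mul_left_cancel₀ (two_ne_zero' ℂ) (by linear_combination this)

/-- Only the zero reduced polynomial vanishes at `ζ`. -/
theorem eq_zero_of_aeval_eq_zero {M : Ideal Cfsg.AlgInt} (hM : Cfsg.IsPModular 2 M) {k : ℕ}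
    {ζ : ℂ} (hζ : IsPrimitiveRoot ζ (2 ^ (k + 1))) (P : ℤ[X]) (hdeg : P.natDegree < 2 ^ k)
    (h : aeval ζ P = 0) : P = 0 := by
  have key : ∀ j : ℕ, ∃ Q : ℤ[X], P = Polynomial.C ((2 : ℤ) ^ j) * Q ∧ Q.natDegree < 2 ^ k ∧
      aeval ζ Q = 0 := by
    intro j
    induction j with
    | zero => exact ⟨P, by simp, hdeg, h⟩
    | succ j ih =>
      obtain ⟨Q, hQ, hQd, hQ0⟩ := ih
      obtain ⟨Q', hQ'⟩ := coeff_two_dvd hM hζ Q hQd (y := 0) isIntegral_zero (by rw [hQ0, mul_zero])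
      refine ⟨Q', by rw [hQ, hQ', pow_succ, map_mul, mul_assoc], ?_, ?_⟩
      · rcases eq_or_ne Q' 0 with rfl | hne
        · simp
        · rwa [hQ', Polynomial.natDegree_C_mul (by norm_num)] at hQd
      · rw [hQ', map_mul, aeval_C, map_ofNat] at hQ0
        exact (mul_eq_zero.mp hQ0).resolve_left two_ne_zero
  refine Polynomial.ext fun i => ?_
  rw [Polynomial.coeff_zero]
  by_contra hne
  obtain ⟨j, hj⟩ : ∃ j, (P.coeff i).natAbs < 2 ^ j := ⟨_, Nat.lt_two_pow_self⟩
  obtain ⟨Q, hQ, -, -⟩ := key j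
  have hd : (2 : ℤ) ^ j ∣ P.coeff i := ⟨Q.coeff i, by rw [hQ, Polynomial.coeff_C_mul]⟩
  have h2 := Nat.le_of_dvd (Int.natAbs_pos.mpr hne) (Int.natAbs_dvd_natAbs.mpr hd)
  rw [Int.natAbs_pow] at h2
  exact absurd h2 (not_le.mpr hj)

theorem sum_primitiveRoots_pow_eq_zero {k j : ℕ} (hj : 0 < j) (hjk : j < 2 ^ k) :
    ∑ w ∈ primitiveRoots (2 ^ (k + 1)) ℂ, w ^ j = 0 := by
  classical
  set n := 2 ^ (k + 1) with hn
  have hn0 : 0 < n := Nat.pow_pos (by norm_num)
  have : NeZero n := ⟨hn0.ne'⟩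
  let ζ := Complex.exp (2 * Real.pi * Complex.I / n)
  have hζ : IsPrimitiveRoot ζ n := Complex.isPrimitiveRoot_exp n hn0.ne'
  have hn2 : n = 2 * 2 ^ k := by rw [hn, pow_succ, mul_comm]
  have hodd : ∀ c : ℕ, c.Coprime n ↔ c % 2 = 1 := fun c => by
    rw [hn, Nat.coprime_pow_right_iff (Nat.succ_pos k), Nat.coprime_two_right, Nat.odd_iff]
  have hsum : ∑ w ∈ primitiveRoots n ℂ, w ^ j =
      ∑ i ∈ Finset.range (2 ^ k), (ζ ^ (2 * i + 1)) ^ j := by
    symm
    refine Finset.sum_bij (fun i _ => ζ ^ (2 * i + 1)) (fun i _ => ?_) (fun a ha b hb h => ?_)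
      (fun w hw => ?_) fun i _ => rfl
    · exact (mem_primitiveRoots hn0).mpr (hζ.pow_of_coprime _ ((hodd _).mpr (by omega)))
    · have := hζ.pow_inj (by rw [Finset.mem_range] at ha; omega)
        (by rw [Finset.mem_range] at hb; omega) h
      omega
    · have hw' := (mem_primitiveRoots hn0).mp hw
      obtain ⟨c, hc, hcw⟩ := hζ.eq_pow_of_pow_eq_one hw'.pow_eq_one
      have := (hodd c).mp ((hζ.pow_iff_coprime hn0 c).mp (hcw ▸ hw'))
      exact ⟨c / 2, Finset.mem_range.mpr (by omega), by rw [← hcw]; congr 1; omega⟩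
  rw [hsum]
  have h1 : (ζ ^ (2 * j)) ^ 2 ^ k = 1 := by
    rw [← pow_mul, show 2 * j * 2 ^ k = n * j by rw [hn2]; ring, pow_mul, hζ.pow_eq_one, one_pow]
  have h2 : ζ ^ (2 * j) ≠ 1 := hζ.pow_ne_one_of_pos_of_lt (by omega) (by omega)
  calc ∑ i ∈ Finset.range (2 ^ k), (ζ ^ (2 * i + 1)) ^ j
      = ζ ^ j * ∑ i ∈ Finset.range (2 ^ k), (ζ ^ (2 * j)) ^ i := by
        rw [Finset.mul_sum]
        exact Finset.sum_congr rfl fun i _ => by
          rw [← pow_mul, ← pow_mul, ← pow_add]; congr 1; ring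
    _ = 0 := by rw [geom_sum_eq h2, h1, sub_self, zero_div, mul_zero]

/-- A real element of `ℤ[ζ]` is congruent to its average modulo `ζ - 1`. -/
theorem exists_real_avg {M : Ideal Cfsg.AlgInt} (hM : Cfsg.IsPModular 2 M) {k : ℕ} {ζ : ℂ}
    (hζ : IsPrimitiveRoot ζ (2 ^ k)) (P : ℤ[X]) (hreal : conj (aeval ζ P) = aeval ζ P) :
    ∃ z : ℤ, ∑ w ∈ primitiveRoots (2 ^ k) ℂ, aeval w P =
        (z : ℂ) * ((primitiveRoots (2 ^ k) ℂ).card : ℂ) ∧
      Cfsg.MemLocalIdeal M (aeval ζ P - (z : ℂ)) := by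
  classical
  have hone : ∀ F : ℤ[X], aeval (1 : ℂ) F = ((F.eval 1 : ℤ) : ℂ) := fun F => by
    simpa using Polynomial.aeval_algebraMap_apply ℂ (1 : ℤ) F
  cases k with
  | zero =>
    rw [pow_zero, IsPrimitiveRoot.one_right_iff] at hζ
    subst hζ
    refine ⟨P.eval 1, ?_, ?_⟩
    · rw [pow_zero, IsPrimitiveRoot.primitiveRoots_one]
      simp [hone]
    · rw [hone, sub_self]
      exact BlockReg.memIdeal_zero hM
  | succ k =>
    set n := 2 ^ (k + 1) with hn
    have hn0 : 0 < n := Nat.pow_pos (by norm_num)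
    obtain ⟨R, hRdeg, hR⟩ := exists_reduced k P
    have hexp : ∀ w : ℂ, aeval w R = ∑ j ∈ Finset.range (2 ^ k), (R.coeff j : ℂ) * w ^ j :=
      fun w => by rw [Polynomial.aeval_eq_sum_range' hRdeg]; simp [zsmul_eq_mul]
    refine ⟨R.coeff 0, ?_, ?_⟩
    · rw [Finset.sum_congr rfl fun w hw => (hR w ((mem_primitiveRoots hn0).mp hw)).symm]
      simp only [hexp]
      rw [Finset.sum_comm, Finset.sum_eq_single 0]
      · simp [mul_comm]
      · intro j hj hj0
        rw [← Finset.mul_sum, sum_primitiveRoots_pow_eq_zero (Nat.pos_of_ne_zero hj0)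
          (Finset.mem_range.mp hj), mul_zero]
      · intro h
        exact absurd (Finset.mem_range.mpr (Nat.pow_pos (by norm_num))) h
    · -- the conjugate polynomial
      let R' : ℤ[X] := Polynomial.C (R.coeff 0) + ∑ j ∈ Finset.Ico 1 (2 ^ k),
        Polynomial.C (-R.coeff j) * X ^ (2 ^ k - j)
      have hneg : ζ ^ 2 ^ k = -1 := by
        have h2 : (ζ ^ 2 ^ k) ^ 2 = 1 := by rw [← pow_mul, ← pow_succ, hζ.pow_eq_one]
        exact (sq_eq_one_iff.mp h2).resolve_left (hζ.pow_ne_one_of_pos_of_lt (by positivity)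
          (by rw [hn, pow_succ]; have : 0 < 2 ^ k := Nat.pow_pos (by norm_num); omega))
      have hconjζ : conj ζ = ζ⁻¹ :=
        (Complex.inv_eq_conj (Complex.norm_eq_one_of_pow_eq_one hζ.pow_eq_one hn0.ne')).symm
      have hζ0 : ζ ≠ 0 := hζ.ne_zero hn0.ne'
      have hR'ev : aeval ζ R' = conj (aeval ζ R) := by
        rw [hexp, map_sum, Finset.range_eq_Ico,
          Finset.sum_eq_sum_Ico_succ_bot (Nat.pow_pos (by norm_num))]
        simp only [R', map_add, map_sum, map_mul, map_pow, aeval_X, map_intCast,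
          pow_zero, mul_one, eq_intCast, Int.cast_neg, map_neg]
        congr 1
        refine Finset.sum_congr rfl fun j hj => ?_
        rw [hconjζ, inv_pow]
        have hsum : ζ ^ (2 ^ k - j) * ζ ^ j = -1 := by
          rw [← pow_add, Nat.sub_add_cancel (Finset.mem_Ico.mp hj).2.le, hneg]
        field_simp
        linear_combination (-(R.coeff j : ℂ)) * hsum
      have hR'deg : R'.natDegree < 2 ^ k := by
        refine lt_of_le_of_lt (Polynomial.natDegree_add_le _ _) (max_lt ?_ ?_)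
        · simp
        · refine lt_of_le_of_lt (Polynomial.natDegree_sum_le_of_forall_le _ _
            (n := 2 ^ k - 1) fun j hj => ?_) (by
              have : 0 < 2 ^ k := Nat.pow_pos (by norm_num); omega)
          refine (Polynomial.natDegree_C_mul_X_pow_le _ _).trans ?_
          have := (Finset.mem_Ico.mp hj).1
          omega
      have heq : R - R' = 0 := eq_zero_of_aeval_eq_zero hM hζ _
        (lt_of_le_of_lt (Polynomial.natDegree_sub_le _ _) (max_lt hRdeg hR'deg))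
        (by rw [map_sub, hR'ev, hR ζ hζ, hreal, sub_self])
      have h1 : R.eval 1 = R.coeff 0 := by
        have h2 : R.eval 1 = R'.eval 1 := by rw [sub_eq_zero.mp heq]
        have h3 : R'.eval 1 = R.coeff 0 - ∑ j ∈ Finset.Ico 1 (2 ^ k), R.coeff j := by
          simp [R', Polynomial.eval_finsetSum, sub_eq_add_neg]
        have h4 : R.eval 1 = R.coeff 0 + ∑ j ∈ Finset.Ico 1 (2 ^ k), R.coeff j := by
          rw [Polynomial.eval_eq_sum_range' hRdeg, Finset.range_eq_Ico,
            Finset.sum_eq_sum_Ico_succ_bot (Nat.pow_pos (by norm_num))]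
          simp
        omega
      rw [← hR ζ hζ, ← h1, ← hone, hexp, hexp, ← Finset.sum_sub_distrib]
      refine BlockReg.memIdeal_sum hM _ fun j _ => ?_
      rw [← mul_sub, one_pow]
      obtain ⟨s, hs, hs'⟩ : ∃ s : ℂ, IsIntegral ℤ s ∧ ζ ^ j - 1 = s * (ζ - 1) :=
        ⟨∑ i ∈ Finset.range j, ζ ^ i, IsIntegral.sum _ fun i _ => (hζ.isIntegral hn0).pow i,
          (geom_sum_mul ζ j).symm⟩
      rw [hs', ← mul_assoc]
      exact BlockReg.memIdeal_mul_left hM
        (BlockReg.memRing_algInt hM ((isIntegral_intCast _).mul hs)) (memLocalIdeal_sub_one hM hζ)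

end CfsgLib.BlockRank
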