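import Cfsg.Agent.Lib.BlockRank.StarBound
import Cfsg.Agent.Lib.BlockStar.Integral
import Cfsg.Agent.Lib.BlockStar.Section

/-!
# The facts about the star construction used for abelian defect groups
-/

set_option autoImplicit false
set_option maxHeartbeats 800000
set_option synthInstance.maxHeartbeats 400000

open Cfsg CfsgLib.Blocks CfsgLib.Blocks.Pairs
open scoped Classical

namespace CfsgLib.BlockRank

universe u

theorem starFacts {p : ℕ} [Fact p.Prime] {M : Ideal AlgInt} [M.IsMaximal]
    [CharP (ResField M) p] (hM : IsPModular p M) : StarFacts.{u} p M := by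
  intro G _ _ B hB P e hP hno η hst hη χ hχ
  exact ⟨CfsgLib.BlockStar.star_isGeneralizedCharacter hM hB hP hno hst hη hχ,
    fun z hz s hs => CfsgLib.BlockStar.star_section hM P e η
      (CfsgLib.Char.IsIrrCharacter.isClassFunction χ.2) z hz s hs⟩

end CfsgLib.BlockRank
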