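import Cfsg.Agent.Lib.BlockStar.Weights
import Cfsg.Agent.Lib.BlockRank.StarFacts
import Cfsg.Agent.Lib.BlockRank.SectionColumns
import Cfsg.Agent.Lib.BlockRank.FreeSections
import Cfsg.Agent.Lib.BlockRank.BrauerFeit

/-!
# The weights of a block with abelian defect group and freely acting inertial quotient

The facts about the contributions of the subsections, read on the elements of the defect group.
-/

set_option autoImplicit false
set_option maxHeartbeats 1000000
set_option synthInstance.maxHeartbeats 400000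

namespace CfsgLib.BlockRank

open Cfsg CfsgLib.Blocks CfsgLib.Blocks.Pairs CfsgLib.BlockReg CfsgLib.BlockStar
open scoped Classical ComplexConjugate

universe u

variable {G : Type u} [Group G] [Fintype G] {p : ℕ} [Fact p.Prime] {M : Ideal AlgInt} [M.IsMaximal]
  [CharP (ResField M) p] {B : Set (IrrCharacter G)} {P : Subgroup G}
  {e : MonoidAlgebra (ResField M) G}

/-- The weights are invariant under the inertial group. -/
theorem wt_conj_stab (hM : IsPModular p M) (he : IsPair p P e) {χ ψ : G → ℂ}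
    (hχ : IsClassFunction G χ) (hψ : IsClassFunction G ψ) {y u : G} (hy : y ∈ pairStab P e)
    (hu : u ∈ P) : wt p M P e χ ψ (y * u * y⁻¹) = wt p M P e χ ψ u := by
  have h1 : conjSub y P = P := conjSub_eq_of_mem_normalizer hy.1
  have hs := bel_spec hM he hu
  have hbel : bel p P e (y * u * y⁻¹) = conjA y (bel p P e u) := by
    refine bel_eq hM he ?_
    have h3 := hs.conj y
    rwa [conjSub_zpowers_eq, h1, hy.2] at h3
  have hb : bel p P e u ∈
      blks (F := ResField M) (Subgroup.centralizer (Subgroup.zpowers u : Set G)) :=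
    mem_blks.2 (hs.pair_left he).block
  have hc : Subgroup.centralizer (Subgroup.zpowers (y * u * y⁻¹) : Set G) =
      conjSub y (Subgroup.centralizer (Subgroup.zpowers u : Set G)) := by
    rw [← conjSub_zpowers_eq, centralizer_conjSub]
  have hi : P ⊓ Subgroup.centralizer (Subgroup.zpowers (y * u * y⁻¹) : Set G) =
      conjSub y (P ⊓ Subgroup.centralizer (Subgroup.zpowers u : Set G)) := by
    rw [hc, conjSub, conjSub, Subgroup.map_inf _ _ _ (MulAut.conj y).injective]
    exact congrArg₂ _ h1.symm rfl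
  rw [wt, wt, hbel, secSum_conj hM hχ hψ y u hb, hi, hc, card_map_conj, card_map_conj]

omit [CharP (ResField M) p] in
/-- A section sum at the block idempotent of the centralizer. -/
theorem secSum_eIn (hM : IsPModular p M) {χ ψ : G → ℂ} (hχ : IsClassFunction G χ)
    (hψ : IsClassFunction G ψ) {z : G} (hz : ∃ k : ℕ, orderOf z = p ^ k)
    [Fintype (Subgroup.centralizer ({z} : Set G))]
    {b : Set (IrrCharacter (Subgroup.centralizer ({z} : Set G)))} (hb : IsPBlock M b) :
    secSum p M χ ψ z (eIn hb) =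
      regPair p (blockPart b (fun c : Subgroup.centralizer ({z} : Set G) => χ (z * (c : G))))
        (blockPart b (fun c : Subgroup.centralizer ({z} : Set G) => ψ (z * (c : G)))) := by
  obtain ⟨k, hk⟩ := hz
  set C := Subgroup.centralizer ({z} : Set G) with hC
  unfold regPair secSum
  refine (Finset.sum_bij (fun (s : C) _ => z * (s : G)) (fun s hs => ?_)
    (fun _ _ _ _ h => Subtype.ext (mul_left_cancel h)) (fun h hh => ?_) (fun s _ => ?_)).symm
  · simp only [regSet, Finset.mem_filter, Finset.mem_univ, true_and] at hs ⊢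
    refine pp_eq (isPPart_of_commute (Subgroup.mem_centralizer_singleton_iff.mp s.2).symm hk ?_)
    rw [Subgroup.orderOf_coe]
    exact hs
  · simp only [Finset.mem_filter, Finset.mem_univ, true_and] at hh
    obtain ⟨y, hy, hc, -, hreg⟩ := isPPart_pp (p := p) h
    rw [hh] at hy hc
    refine ⟨⟨y, Subgroup.mem_centralizer_singleton_iff.mpr hc.eq.symm⟩, ?_, hy⟩
    simp only [regSet, Finset.mem_filter, Finset.mem_univ, true_and]
    unfold IsPRegular
    rwa [Subgroup.orderOf_mk]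
  · rw [val_eIn_eq_blockPart hM hχ hC hb s, val_eIn_eq_blockPart hM hψ hC hb s]

/-- The weight at the element of a subsection is its contribution. -/
theorem wt_eq_contrib (hM : IsPModular p M) (hB : IsPBlock M B) (hP : PairOf p (ebar hB) P e)
    (hno : NoExt p P e) (hab : ∀ x ∈ P, ∀ y ∈ P, x * y = y * x) {x g : G}
    [Fintype (Subgroup.centralizer ({x} : Set G))]
    {b : Set (IrrCharacter (Subgroup.centralizer ({x} : Set G)))} (hb : IsPBlock M b)
    (hle : SLE p (Subgroup.zpowers (g * x * g⁻¹)) (conjA g (eIn hb)) P e)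
    (χ ψ : IrrCharacter G) :
    wt p M P e (χ : G → ℂ) (ψ : G → ℂ) (g * x * g⁻¹) = contrib p (blockDefect p B) x b χ ψ := by
  have hcl : ∀ χ : IrrCharacter G, IsClassFunction G (χ : G → ℂ) :=
    fun χ => CfsgLib.Char.IsIrrCharacter.isClassFunction χ.2
  have hu : g * x * g⁻¹ ∈ P := hle.le (Subgroup.mem_zpowers _)
  have hxk : ∃ k : ℕ, orderOf x = p ^ k := by
    obtain ⟨k, hk⟩ := IsPGroup.iff_orderOf.1 hP.pair.pgroup ⟨_, hu⟩
    rw [Subgroup.orderOf_mk] at hk
    exact ⟨k, hk ▸ (MulEquiv.orderOf_eq (MulAut.conj g) x).symm⟩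
  have hin : P ⊓ Subgroup.centralizer (Subgroup.zpowers (g * x * g⁻¹) : Set G) = P :=
    inf_eq_left.2 fun a ha => Subgroup.mem_centralizer_iff.2 fun q hq =>
      hab q (Subgroup.zpowers_le.2 hu hq) a ha
  have hC : Subgroup.centralizer (Subgroup.zpowers (g * x * g⁻¹) : Set G) =
      conjSub g (Subgroup.centralizer ({x} : Set G)) := by
    rw [← conjSub_zpowers_eq, centralizer_conjSub, centralizer_zpowers_eq_singleton]
  rw [wt, bel_eq hM hP.pair hle, hin, hC, card_map_conj,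
    card_defectGroup hM hB ((isDefectGroup_iff_maxR hM hB).2 (maxR_of_noExt hP hno)),
    secSum_conj hM (hcl χ) (hcl ψ) g x (by
      rw [mem_blks, centralizer_zpowers_eq_singleton]; exact isBlockIdem_eIn hb),
    secSum_eIn hM (hcl χ) (hcl ψ) hxk hb, contrib, mul_assoc]

/-- Every element of the defect group gives the contributions of a major subsection. -/
theorem exists_section (hM : IsPModular p M) (hB : IsPBlock M B) (hP : PairOf p (ebar hB) P e)
    (hno : NoExt p P e) (hab : ∀ x ∈ P, ∀ y ∈ P, x * y = y * x) {u : G} (hu : u ∈ P) :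
    ∃ (x : G) (b : Set (IrrCharacter (Subgroup.centralizer ({x} : Set G)))),
      (∃ k : ℕ, orderOf x = p ^ k) ∧
      IsInducedBlock M (Subgroup.centralizer ({x} : Set G)) b B ∧
      blockDefect p b = blockDefect p B ∧
      ∀ χ ψ : IrrCharacter G, wt p M P e (χ : G → ℂ) (ψ : G → ℂ) u =
        contrib p (blockDefect p B) x b χ ψ := by
  obtain ⟨T, φ, -, hφP, hsurj, -, -, hloc, -, hpair⟩ := exists_sections_reps hM hB hP hno hab
  obtain ⟨s, hs, y, hy, rfl⟩ := hsurj u hu
  obtain ⟨g, hb, hg, hle⟩ := hpair s hs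
  obtain ⟨hk, hI, hd, -⟩ := hloc s hs
  refine ⟨s.1, s.2, hk, hI, hd, fun χ ψ => ?_⟩
  rw [wt_conj_stab hM hP.pair (CfsgLib.Char.IsIrrCharacter.isClassFunction χ.2)
    (CfsgLib.Char.IsIrrCharacter.isClassFunction ψ.2) hy (hφP s hs), ← hg]
  exact wt_eq_contrib hM hB hP hno hab hb (hg ▸ hle) χ ψ

/-- The weight of a character of height zero is a unit. -/
theorem wt_self_unit (hM : IsPModular p M) (hB : IsPBlock M B) (hP : PairOf p (ebar hB) P e)
    (hno : NoExt p P e) (hab : ∀ x ∈ P, ∀ y ∈ P, x * y = y * x) {u : G} (hu : u ∈ P)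
    {ψ : IrrCharacter G} (hψ : ψ ∈ B)
    (hmin : (charDegree (ψ : G → ℂ)).factorization p = minExp p B) :
    MemLocalRing M (wt p M P e (ψ : G → ℂ) (ψ : G → ℂ) u) ∧
      ¬ MemLocalIdeal M (wt p M P e (ψ : G → ℂ) (ψ : G → ℂ) u) := by
  obtain ⟨x, b, ⟨k, hk⟩, hI, hd, hw⟩ := exists_section hM hB hP hno hab hu
  rw [hw]
  exact contrib_self_unit hM rfl hk hI
    (by rw [← hd]; exact CfsgLib.BrauerFeit.defect_add_minExp hM hI.1) hψ hmin

/-- No weight against a character of height zero vanishes. -/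
theorem wt_ne_zero (hM : IsPModular p M) (hB : IsPBlock M B) (hP : PairOf p (ebar hB) P e)
    (hno : NoExt p P e) (hab : ∀ x ∈ P, ∀ y ∈ P, x * y = y * x) {u : G} (hu : u ∈ P)
    {χ ψ : IrrCharacter G} (hχ : χ ∈ B) (hψ : ψ ∈ B)
    (hmin : (charDegree (ψ : G → ℂ)).factorization p = minExp p B) :
    wt p M P e (χ : G → ℂ) (ψ : G → ℂ) u ≠ 0 := by
  obtain ⟨x, b, hk, hI, hd, hw⟩ := exists_section hM hB hP hno hab hu
  rw [hw]
  exact contrib_ne_zero hM rfl hk hI hd hχ hψ hmin

omit [CharP (ResField M) p] in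
/-- The weight of a function against itself is a nonnegative real number. -/
theorem wt_self_nonneg (χ : G → ℂ) (u : G) : ∃ r : ℝ, 0 ≤ r ∧ wt p M P e χ χ u = r := by
  refine ⟨(Nat.card (P ⊓ Subgroup.centralizer (Subgroup.zpowers u : Set G) : Subgroup G) : ℝ) *
      (Nat.card (Subgroup.centralizer (Subgroup.zpowers u : Set G)) : ℝ)⁻¹ *
      ∑ h ∈ Finset.univ.filter (fun h => pp p h = u), Complex.normSq (val M χ h (bel p P e u)),
    mul_nonneg (by positivity) (Finset.sum_nonneg fun h _ => Complex.normSq_nonneg _), ?_⟩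
  simp only [wt, secSum]
  push_cast
  congr 1
  exact Finset.sum_congr (by ext; simp) fun h _ => Complex.mul_conj _

variable [Fintype B]

/-- The norm of a column of weights. -/
theorem sum_wt_mul_conj_self (hM : IsPModular p M) (hB : IsPBlock M B)
    (hP : PairOf p (ebar hB) P e) (hno : NoExt p P e) (hab : ∀ x ∈ P, ∀ y ∈ P, x * y = y * x)
    {u : G} (hu : u ∈ P) (ψ : IrrCharacter G) :
    ∑ χ ∈ B.toFinset, wt p M P e (χ : G → ℂ) (ψ : G → ℂ) u *
        conj (wt p M P e (χ : G → ℂ) (ψ : G → ℂ) u) =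
      (Nat.card P : ℂ) * wt p M P e (ψ : G → ℂ) (ψ : G → ℂ) u := by
  obtain ⟨x, b, hk, hI, -, hw⟩ := exists_section hM hB hP hno hab hu
  rw [card_defectGroup hM hB ((isDefectGroup_iff_maxR hM hB).2 (maxR_of_noExt hP hno)), hw,
    ← sum_contrib_mul_conj hM rfl hk hI (blockDefect p B) ψ]
  refine Finset.sum_congr rfl fun χ _ => ?_
  rw [hw, conj_contrib, ← conj_contrib (blockDefect p B) x b ψ χ, mul_comm]

/-- Columns of weights at different orbits are orthogonal. -/
theorem sum_wt_mul_conj_ne (hM : IsPModular p M) (hB : IsPBlock M B)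
    (hP : PairOf p (ebar hB) P e) (hno : NoExt p P e) (hab : ∀ x ∈ P, ∀ y ∈ P, x * y = y * x)
    {u v : G} (hu : u ∈ P) (hv : v ∈ P) (hne : ∀ y ∈ pairStab P e, y * u * y⁻¹ ≠ v)
    (ψ ψ' : IrrCharacter G) :
    ∑ χ ∈ B.toFinset, wt p M P e (χ : G → ℂ) (ψ : G → ℂ) u *
      conj (wt p M P e (χ : G → ℂ) (ψ' : G → ℂ) v) = 0 := by
  obtain ⟨T, φ, -, hφP, hsurj, -, -, hloc, hreps, hpair⟩ := exists_sections_reps hM hB hP hno hab
  obtain ⟨s, hs, y, hy, rfl⟩ := hsurj u hu
  obtain ⟨s', hs', y', hy', rfl⟩ := hsurj v hv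
  have hss : s ≠ s' := fun h => hne (y' * y⁻¹) (mul_mem hy' (inv_mem hy)) (by rw [h]; group)
  have hw : ∀ s ∈ T, ∀ y ∈ pairStab P e, ∀ χ ψ : IrrCharacter G,
      wt p M P e (χ : G → ℂ) (ψ : G → ℂ) (y * φ s * y⁻¹) =
        contrib p (blockDefect p B) s.1 s.2 χ ψ := by
    intro s hs y hy χ ψ
    obtain ⟨g, hb, hg, hle⟩ := hpair s hs
    rw [wt_conj_stab hM hP.pair (CfsgLib.Char.IsIrrCharacter.isClassFunction χ.2)
      (CfsgLib.Char.IsIrrCharacter.isClassFunction ψ.2) hy (hφP s hs), ← hg]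
    exact wt_eq_contrib hM hB hP hno hab hb (hg ▸ hle) χ ψ
  simp only [hw s hs y hy, hw s' hs' y' hy']
  refine sum_contrib_mul_conj_ne hM (hloc s hs).1 (hloc s' hs').1 (hloc s hs).2.1
    (hloc s' hs').2.1.1 ?_ (blockDefect p B) ψ ψ'
  by_cases h : IsConj s.1 s'.1
  · exact Or.inr ⟨hreps s hs s' hs' h, fun h' => hss (Sigma.ext (hreps s hs s' hs' h) h')⟩
  · exact Or.inl h

omit [Fintype B] in
/-- The sum over the subsections of an invariant function in terms of the elements of `P`. -/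
theorem relIndex_mul_sum_sections {hB : IsPBlock M B} (hP : PairOf p (ebar hB) P e)
    (hfree : Free P (pairStab P e))
    (T : Finset (Σ x : G, Set (IrrCharacter (Subgroup.centralizer ({x} : Set G)))))
    (φ : (Σ x : G, Set (IrrCharacter (Subgroup.centralizer ({x} : Set G)))) → G)
    (hφP : ∀ s ∈ T, φ s ∈ P)
    (hsurj : ∀ u ∈ P, ∃ s ∈ T, ∃ y ∈ pairStab P e, y * φ s * y⁻¹ = u)
    (hinj : ∀ s₁ ∈ T, ∀ s₂ ∈ T, ∀ y ∈ pairStab P e, y * φ s₁ * y⁻¹ = φ s₂ → s₁ = s₂)
    (F : G → ℂ) (hF : ∀ y ∈ pairStab P e, ∀ u ∈ P, F (y * u * y⁻¹) = F u) :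
    ((Subgroup.centralizer (P : Set G)).relIndex (pairStab P e) : ℂ) * ∑ s ∈ T, F (φ s) =
      ∑ u : P, F u +
        (((Subgroup.centralizer (P : Set G)).relIndex (pairStab P e) : ℂ) - 1) * F 1 := by
  set S := pairStab P e
  set C := Subgroup.centralizer (P : Set G)
  have hCS : C ≤ S := fun c hc =>
    ⟨Subgroup.centralizer_le_normalizer _ hc, conjFixed_iff.mp hP.pair.block.mem.fixed c hc⟩
  obtain ⟨s₀, hs₀, y₀, -, hy₀⟩ := hsurj 1 (one_mem P)
  have hs₀1 : φ s₀ = 1 := by
    calc φ s₀ = y₀⁻¹ * (y₀ * φ s₀ * y₀⁻¹) * y₀ := by group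
      _ = 1 := by rw [hy₀]; group
  let O : (Σ x : G, Set (IrrCharacter (Subgroup.centralizer ({x} : Set G)))) → Finset G :=
    fun s => (Set.range fun y : S => (y : G) * φ s * (y : G)⁻¹).toFinset
  have hO : ∀ s x, x ∈ O s ↔ ∃ y ∈ S, y * φ s * y⁻¹ = x := fun s x => by simp [O]
  have hPO : (Finset.univ.filter fun x : G => x ∈ P) = T.biUnion O := by
    ext x
    simp only [Finset.mem_filter, Finset.mem_univ, true_and, Finset.mem_biUnion, hO]
    constructor
    · intro hx
      obtain ⟨s, hs, y, hy, h⟩ := hsurj x hx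
      exact ⟨s, hs, y, hy, h⟩
    · rintro ⟨s, hs, y, hy, rfl⟩
      exact (Subgroup.mem_normalizer_iff.1 hy.1 _).1 (hφP s hs)
  have hdisj : (T : Set (Σ x : G, Set (IrrCharacter
      (Subgroup.centralizer ({x} : Set G))))).PairwiseDisjoint O := by
    intro s₁ h₁ s₂ h₂ hne'
    rw [Function.onFun, Finset.disjoint_left]
    intro x hx1 hx2
    obtain ⟨y₁, hy₁, e₁⟩ := (hO _ _).1 hx1
    obtain ⟨y₂, hy₂, e₂⟩ := (hO _ _).1 hx2
    refine hne' (hinj s₁ h₁ s₂ h₂ (y₂⁻¹ * y₁) (mul_mem (inv_mem hy₂) hy₁) ?_)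
    calc y₂⁻¹ * y₁ * φ s₁ * (y₂⁻¹ * y₁)⁻¹ = y₂⁻¹ * (y₁ * φ s₁ * y₁⁻¹) * y₂ := by group
      _ = φ s₂ := by rw [e₁, ← e₂]; group
  have horb : ∀ s ∈ T, ∑ x ∈ O s, F x =
      if s = s₀ then F 1 else (C.relIndex S : ℂ) * F (φ s) := by
    intro s hs
    split_ifs with h
    · subst h
      rw [show O s = {1} from Finset.ext fun x => by
        rw [hO, Finset.mem_singleton, hs₀1]
        exact ⟨fun ⟨y, _, hy⟩ => by rw [← hy]; group, fun hx => ⟨1, one_mem S, by rw [hx]; group⟩⟩,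
        Finset.sum_singleton]
    · have hne : φ s ≠ 1 := fun h1 => h (hinj s hs s₀ hs₀ 1 (one_mem S) (by rw [h1, hs₀1]; simp))
      rw [Finset.sum_congr rfl (g := fun _ => F (φ s)) fun x hx => by
        obtain ⟨y, hy, rfl⟩ := (hO _ _).1 hx
        exact hF y hy _ (hφP s hs), Finset.sum_const, nsmul_eq_mul]
      congr 1
      rw [← card_orbit_free hCS (φ s) fun y hy =>
          ⟨fun h => hfree y hy _ (hφP s hs) hne h, fun hy' => by
            rw [← Subgroup.mem_centralizer_iff.1 hy' _ (hφP s hs), mul_inv_cancel_right]⟩,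
        Nat.card_eq_card_toFinset]
  rw [Finset.sum_subtype (Finset.univ.filter fun x : G => x ∈ P) (fun x => by simp) F |>.symm,
    hPO, Finset.sum_biUnion hdisj, Finset.sum_congr rfl horb, Finset.mul_sum,
    ← Finset.add_sum_erase T _ hs₀, ← Finset.add_sum_erase T _ hs₀, if_pos rfl, hs₀1,
    Finset.sum_congr rfl (g := fun s => (C.relIndex S : ℂ) * F (φ s))
      (f := fun s => if s = s₀ then F 1 else _) fun s hs => if_neg (Finset.mem_erase.1 hs).1]
  ring

omit [Fintype B] in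
/-- The integrality of the averages of the weights. -/
theorem sum_wt_int (hM : IsPModular p M) (hB : IsPBlock M B) (hP : PairOf p (ebar hB) P e)
    (hno : NoExt p P e) (hab : ∀ x ∈ P, ∀ y ∈ P, x * y = y * x) (hfree : Free P (pairStab P e))
    (η : G → ℂ) (hη1 : η 1 = 0) (hinv : ∀ y ∈ pairStab P e, ∀ u ∈ P, η (y * u * y⁻¹) = η u)
    (hchar : ∃ (n : ℕ) (lam : Fin n → (P →* ℂˣ)) (c : Fin n → ℤ),
      ∀ u : P, η u = ∑ i, (c i : ℂ) * (lam i u : ℂ))
    {χ ψ : IrrCharacter G} (hχ : χ ∈ B) (hψ : ψ ∈ B) :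
    ∃ z : ℤ, (z : ℂ) * ((Subgroup.centralizer (P : Set G)).relIndex (pairStab P e) : ℂ) *
      (Nat.card P : ℂ) = ∑ u : P, η u * wt p M P e (χ : G → ℂ) (ψ : G → ℂ) u := by
  obtain ⟨T, φ, -, hφP, hsurj, hinj, -, -, hreps, hpair⟩ := exists_sections_reps hM hB hP hno hab
  obtain ⟨z, hz⟩ := starIntegral hM (starFacts hM) hB hP hno hab η hη1 hinv hchar T φ hsurj hinj
    hreps hpair χ hχ ψ hψ
  have hcl : ∀ χ : IrrCharacter G, IsClassFunction G (χ : G → ℂ) :=
    fun χ => CfsgLib.Char.IsIrrCharacter.isClassFunction χ.2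
  have h := relIndex_mul_sum_sections hP hfree T φ hφP hsurj hinj
    (fun u => η u * wt p M P e (χ : G → ℂ) (ψ : G → ℂ) u) fun y hy u hu => by
      rw [hinv y hy u hu, wt_conj_stab hM hP.pair (hcl χ) (hcl ψ) hy hu]
  simp only [hη1, zero_mul, mul_zero, add_zero] at h
  refine ⟨z, ?_⟩
  rw [← h, hz, card_defectGroup hM hB ((isDefectGroup_iff_maxR hM hB).2 (maxR_of_noExt hP hno))]
  have hp0 : ((p ^ blockDefect p B : ℕ) : ℂ) ≠ 0 :=
    Nat.cast_ne_zero.2 (pow_ne_zero _ (Fact.out : p.Prime).ne_zero)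
  rw [Finset.sum_congr rfl fun s hs => by
    obtain ⟨g, hb, hg, hle⟩ := hpair s hs
    rw [← wt_eq_contrib hM hB hP hno hab hb (hg ▸ hle) χ ψ, hg]]
  field_simp

omit [Fintype B] in
/-- The weights of a character against itself add up to the order of the defect group. -/
theorem sum_wt_self (hM : IsPModular p M) (hB : IsPBlock M B) (hP : PairOf p (ebar hB) P e)
    (hno : NoExt p P e) (hab : ∀ x ∈ P, ∀ y ∈ P, x * y = y * x) (hfree : Free P (pairStab P e))
    {χ : IrrCharacter G} (hχ : χ ∈ B) :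
    ∑ u : P, wt p M P e (χ : G → ℂ) (χ : G → ℂ) u +
      (((Subgroup.centralizer (P : Set G)).relIndex (pairStab P e) : ℂ) - 1) *
        wt p M P e (χ : G → ℂ) (χ : G → ℂ) 1 =
      ((Subgroup.centralizer (P : Set G)).relIndex (pairStab P e) : ℂ) * (Nat.card P : ℂ) := by
  obtain ⟨T, φ, -, hφP, hsurj, hinj, -, -, hreps, hpair⟩ := exists_sections_reps hM hB hP hno hab
  have hcl := CfsgLib.Char.IsIrrCharacter.isClassFunction χ.2
  rw [← relIndex_mul_sum_sections hP hfree T φ hφP hsurj hinj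
    (fun u => wt p M P e (χ : G → ℂ) (χ : G → ℂ) u) fun y hy u hu =>
      wt_conj_stab hM hP.pair hcl hcl hy hu]
  congr 1
  have hsec : ∀ (z : G), (∃ k : ℕ, orderOf z = p ^ k) →
      ∀ s : Subgroup.centralizer ({z} : Set G), IsPRegular p s → (χ : G → ℂ) (z * (s : G)) =
        ∑ b : {b : Set (IrrCharacter (Subgroup.centralizer ({z} : Set G))) // IsPBlock M b},
          pairVal p P e (fun _ => 1) z (eIn b.2) *
            blockPart b.1 (fun c => (χ : G → ℂ) (z * (c : G))) s := by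
    intro z hz s hs
    rw [← star_section hM P e (fun _ => 1) hcl z hz s hs, star_one hM hB hP hno hχ]
  have h := classInner_eq_sum_contrib hM hB hP hno hab (fun _ => 1) (fun _ _ _ _ => rfl) T φ
    hsurj hreps hpair (ψ := χ) hcl hsec
  rw [CfsgLib.Char.classInner_irr_self χ.2, eq_inv_mul_iff_mul_eq₀
    (Nat.cast_ne_zero.2 (pow_ne_zero _ (Fact.out : p.Prime).ne_zero)), mul_one] at h
  rw [card_defectGroup hM hB ((isDefectGroup_iff_maxR hM hB).2 (maxR_of_noExt hP hno)), h]
  refine Finset.sum_congr rfl fun s hs => ?_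
  obtain ⟨g, hb, hg, hle⟩ := hpair s hs
  rw [one_mul, ← wt_eq_contrib hM hB hP hno hab hb (hg ▸ hle) χ χ, hg]

end CfsgLib.BlockRank
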