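import Cfsg.Agent.Lib.BlockRank.TriParity
import Mathlib.Algebra.MonoidAlgebra.MapDomain
import Mathlib.Algebra.CharP.Algebra

/-!
# Families of small subsets with invariant parities of quotients
-/

set_option autoImplicit false
set_option maxHeartbeats 1000000

open scoped Classical

namespace CfsgLib.BlockRank.TriParity

universe u v

variable {A : Type u} [CommGroup A] {τ : A ≃* A}

/-- The formal sum of the members of a set, modulo two. -/
noncomputable def ind (S : Finset A) : MonoidAlgebra (ZMod 2) A :=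
  ∑ a ∈ S, MonoidAlgebra.single a 1

theorem coeff_ind (S : Finset A) (a : A) : (ind S).coeff a = if a ∈ S then 1 else 0 := by
  simp [ind, MonoidAlgebra.coeff_sum, Finsupp.finsetSum_apply, Finsupp.single_apply]

theorem mapDomain_ind (f : A →* A) (hf : Function.Injective f) (S : Finset A) :
    MonoidAlgebra.mapDomainRingHom (ZMod 2) f (ind S) = ind (S.image f) := by
  rw [ind, ind, map_sum, Finset.sum_image hf.injOn]
  exact Finset.sum_congr rfl fun a _ => by simp

theorem coeff_ind_mul (S T : Finset A) (ν : A) :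
    (ind S * ind (T.image (·⁻¹))).coeff ν = (pc S T ν : ZMod 2) := by
  rw [pc_eq_sum, ind, ind, Finset.sum_image inv_injective.injOn, Finset.sum_mul_sum]
  simp [MonoidAlgebra.coeff_sum, Finsupp.finsetSum_apply, Finsupp.single_apply, div_eq_mul_inv]

theorem isUnit_ind (h2 : ∃ j : ℕ, ∀ a : A, a ^ 2 ^ j = 1) (S : Finset A) (hS : S.card % 2 = 1) :
    IsUnit (ind S) := by
  obtain ⟨j, hj⟩ := h2
  haveI : CharP (MonoidAlgebra (ZMod 2) A) 2 :=
    charP_of_injective_ringHom (f := algebraMap (ZMod 2) (MonoidAlgebra (ZMod 2) A))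
      (FaithfulSMul.algebraMap_injective (ZMod 2) _) 2
  haveI : Fact (Nat.Prime 2) := ⟨Nat.prime_two⟩
  have h : ind S ^ 2 ^ j = 1 := by
    rw [ind, sum_pow_char_pow, Finset.sum_congr rfl fun a _ => by
      rw [MonoidAlgebra.single_pow, hj, one_pow, ← MonoidAlgebra.one_def]]
    rw [Finset.sum_const, nsmul_eq_mul, mul_one,
      ← Nat.mod_add_div S.card 2, hS, Nat.cast_add, Nat.cast_mul, CharTwo.two_eq_zero (R := MonoidAlgebra (ZMod 2) A) |> (fun h => (Nat.cast_ofNat (R := MonoidAlgebra (ZMod 2) A) (n := 2)).trans h), zero_mul, add_zero, Nat.cast_one]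
  exact (isUnit_pow_iff (pow_ne_zero j two_ne_zero)).1 (h ▸ isUnit_one)

/-- Compatibility with an orbit forces invariance. -/
theorem invariant_of_compat_invariant (h2 : ∃ j : ℕ, ∀ a : A, a ^ 2 ^ j = 1) {T V : Finset A}
    (hV : ∀ a ∈ V, τ a ∈ V) (hodd : V.card % 2 = 1) (hc : Compat τ T V) :
    ∀ a ∈ T, τ a ∈ T := by
  set F := MonoidAlgebra.mapDomainRingHom (ZMod 2) (τ.toMonoidHom) with hF
  have himg : V.image τ = V := Finset.eq_of_subset_of_card_le
    (Finset.image_subset_iff.2 hV) (Finset.card_image_of_injective _ τ.injective).ge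
  have hVbar : (V.image (·⁻¹)).image τ = V.image (·⁻¹) := by
    rw [Finset.image_image]
    conv_rhs => rw [← himg, Finset.image_image]
    exact Finset.image_congr fun a _ => by simp
  have hprod : F (ind T * ind (V.image (·⁻¹))) = ind T * ind (V.image (·⁻¹)) := by
    refine MonoidAlgebra.ext (Finsupp.ext fun ν => ?_)
    obtain ⟨μ, rfl⟩ := τ.surjective ν
    rw [hF]
    show (MonoidAlgebra.mapDomain τ (ind T * ind (V.image (·⁻¹)))).coeff (τ μ) = _
    rw [MonoidAlgebra.coeff_mapDomain, Finsupp.mapDomain_apply τ.injective, coeff_ind_mul,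
      coeff_ind_mul, ZMod.natCast_eq_natCast_iff']
    exact (hc μ).symm
  rw [map_mul, hF, mapDomain_ind _ τ.injective, mapDomain_ind _ τ.injective] at hprod
  simp only [MulEquiv.coe_toMonoidHom] at hprod
  rw [hVbar] at hprod
  have hu : IsUnit (ind (V.image (·⁻¹))) :=
    isUnit_ind h2 _ (by rwa [Finset.card_image_of_injective _ inv_injective])
  have heq := hu.mul_left_inj.1 hprod
  intro a ha
  have h := congrArg (fun z => z.coeff (τ a)) heq
  simp only [coeff_ind, Finset.mem_image_of_mem τ ha, if_true] at h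
  by_contra hna
  simp [hna] at h

theorem compat_translate (x : A) {S T : Finset A} (h : Compat τ S T) :
    Compat τ (S.image (x * ·)) (T.image (x * ·)) := fun ν => by rw [pc_translate]; exact h ν

theorem par_subset_sq {S T : Finset A} {W : Finset A}
    (h : ∀ x ∈ S, ∀ y ∈ T, (x / y) ^ 2 ∈ W) : ∀ ν ∈ par S T, ν ^ 2 ∈ W := fun ν hν => by
  obtain ⟨x, hx, y, hy, rfl⟩ := exists_of_mem_par hν
  exact h x hx y hy

theorem mem_par_translate (d : A) {S : Finset A} (hS : S.card % 2 = 1) :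
    d ∈ par (S.image (d * ·)) S := by
  rw [mem_par, pc, show ((S.image (d * ·)) ×ˢ S).filter (fun q => q.1 / q.2 = d) =
    S.image (fun a => (d * a, a)) from ?_, Finset.card_image_of_injective _ fun a b h =>
      congrArg Prod.snd h]
  · exact hS
  ext ⟨x, y⟩
  simp only [Finset.mem_filter, Finset.mem_product, Finset.mem_image, Prod.mk.injEq]
  constructor
  · rintro ⟨⟨-, hy⟩, he⟩
    exact ⟨y, hy, (div_eq_iff_eq_mul.1 he).symm, rfl⟩
  · rintro ⟨a, ha, rfl, rfl⟩
    exact ⟨⟨⟨a, ha, rfl⟩, ha⟩, mul_div_cancel_right _ _⟩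

/-- An invariant set with two classes of squares: the first class is one of two. -/
theorem sq_two_classes (h3 : ∀ a, τ (τ (τ a)) = a) (hfree : ∀ a, τ a = a → a = 1) {R : Finset A}
    (hR : ∀ a ∈ R, τ a ∈ R) {c w : A} (hc : c ∈ R) (hsq : ∀ ν ∈ R, ν ^ 2 = c ^ 2 ∨ ν ^ 2 = w) :
    c ^ 2 = 1 ∨ w = 1 := by
  rcases hsq _ (hR _ hc) with h | h
  · exact Or.inl (hfree _ (by rw [map_pow, h]))
  · rcases hsq _ (hR _ (hR _ hc)) with h' | h'
    · left
      refine hfree _ ?_
      have h'' : τ (τ (c ^ 2)) = c ^ 2 := by rw [map_pow, map_pow, h']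
      conv_lhs => rw [← h'', h3]
    · right
      refine hfree _ ?_
      rw [← h, map_pow, h', h]

/-- Two exceptional triples have their centres and steps in two classes of squares. -/
theorem key_triple (h3 : ∀ a, τ (τ (τ a)) = a) (hfree : ∀ a, τ a = a → a = 1)
    {T U : Finset A} (hU : U.card % 2 = 1) (hcomp : Compat τ T U) {c₀ b c b' : A}
    (hb4 : b ^ 4 = 1) (hb2 : b ^ 2 ≠ 1) (hS₀ : U = {c₀, c₀ * b, c₀ * b⁻¹})
    (hb'4 : b' ^ 4 = 1) (hb'2 : b' ^ 2 ≠ 1) (hSi : T = {c, c * b', c * b'⁻¹}) :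
    ∀ a ∈ T, (a / c₀) ^ 2 = 1 ∨ (a / c₀) ^ 2 = b ^ 2 := by
  have hbinv : b⁻¹ ^ 2 = b ^ 2 := by
    rw [inv_pow]
    exact inv_eq_of_mul_eq_one_right (by rw [← pow_add]; exact hb4)
  have hb'inv : b'⁻¹ ^ 2 = b' ^ 2 := by
    rw [inv_pow]
    exact inv_eq_of_mul_eq_one_right (by rw [← pow_add]; exact hb'4)
  have hb1 : b ≠ 1 := fun h => hb2 (by rw [h, one_pow])
  have hbb : b ≠ b⁻¹ := fun h => hb2 (by rw [pow_two]; exact mul_eq_one_iff_eq_inv.2 h)
  have hb8 : (b ^ 2) * (b ^ 2) = 1 := by rw [← pow_add]; exact hb4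
  obtain ⟨d, rfl⟩ : ∃ d, c = c₀ * d := ⟨c / c₀, (mul_div_cancel _ _).symm⟩
  have hbb2 : (b ^ 2)⁻¹ = b ^ 2 := by rw [← inv_pow]; exact hbinv
  have hbb2' : (b' ^ 2)⁻¹ = b' ^ 2 := by rw [← inv_pow]; exact hb'inv
  have e1 : b' ≠ 1 := fun h => hb'2 (by rw [h, one_pow])
  have e2 : b' ≠ b'⁻¹ := fun h => hb'2 (by rw [pow_two]; exact mul_eq_one_iff_eq_inv.2 h)
  have hinv := par_invariant (hcomp)
  have hdec : ∀ x ∈ T, ∃ s ∈ ({1, b', b'⁻¹} : Finset A), x = c₀ * d * s := fun x hx => by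
    rw [hSi] at hx
    simp only [Finset.mem_insert, Finset.mem_singleton] at hx
    rcases hx with h | h | h
    · exact ⟨1, by simp, by rw [h, mul_one]⟩
    · exact ⟨b', by simp, h⟩
    · exact ⟨b'⁻¹, by simp, h⟩
  have hdec₀ : ∀ y ∈ U, ∃ t ∈ ({1, b, b⁻¹} : Finset A), y = c₀ * t := fun y hy => by
    rw [hS₀] at hy
    simp only [Finset.mem_insert, Finset.mem_singleton] at hy
    rcases hy with h | h | h
    · exact ⟨1, by simp, by rw [h, mul_one]⟩
    · exact ⟨b, by simp, h⟩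
    · exact ⟨b⁻¹, by simp, h⟩
  have hmem : ∀ s ∈ ({1, b', b'⁻¹} : Finset A), c₀ * d * s ∈ T := fun s hs => by
    rw [hSi]
    simp only [Finset.mem_insert, Finset.mem_singleton] at hs ⊢
    rcases hs with rfl | rfl | rfl <;> simp
  have hmem₀ : ∀ t ∈ ({1, b, b⁻¹} : Finset A), c₀ * t ∈ U := fun t ht => by
    rw [hS₀]
    simp only [Finset.mem_insert, Finset.mem_singleton] at ht ⊢
    rcases ht with rfl | rfl | rfl <;> simp
  have hdiv : ∀ s t : A, c₀ * d * s / (c₀ * t) = d * (s / t) := fun s t => by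
    rw [mul_assoc, mul_div_mul_left_eq_div, mul_div_assoc]
  have hsqs : ∀ s ∈ ({1, b', b'⁻¹} : Finset A),
      (s = 1 ∧ s ^ 2 = 1) ∨ (s ≠ 1 ∧ s ^ 2 = b' ^ 2) := fun s hs => by
    simp only [Finset.mem_insert, Finset.mem_singleton] at hs
    rcases hs with rfl | rfl | rfl
    · exact Or.inl ⟨rfl, one_pow 2⟩
    · exact Or.inr ⟨e1, rfl⟩
    · exact Or.inr ⟨inv_ne_one.2 e1, hb'inv⟩
  have hsqt : ∀ t ∈ ({1, b, b⁻¹} : Finset A),
      (t = 1 ∧ (t ^ 2)⁻¹ = 1) ∨ (t ≠ 1 ∧ (t ^ 2)⁻¹ = b ^ 2) := fun t ht => by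
    simp only [Finset.mem_insert, Finset.mem_singleton] at ht
    rcases ht with rfl | rfl | rfl
    · exact Or.inl ⟨rfl, by simp⟩
    · exact Or.inr ⟨hb1, hbb2⟩
    · exact Or.inr ⟨inv_ne_one.2 hb1, by rw [hbinv, hbb2]⟩
  have hpow : ∀ s t : A, (d * (s / t)) ^ 2 = d ^ 2 * s ^ 2 * (t ^ 2)⁻¹ := fun s t => by
    rw [mul_pow, div_pow, div_eq_mul_inv, mul_assoc]
  by_cases hbb' : b' ^ 2 = b ^ 2
  · -- the squares of the quotients lie in two classes
    have hdp : d ∈ par (T) (U) := by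
      by_cases hbe : b' = b ∨ b' = b⁻¹
      · rw [show T = (U).image (d * ·) from ?_]
        · exact mem_par_translate d hU
        have em : ∀ t : A, d * (c₀ * t) = c₀ * d * t := fun t => by
          rw [← mul_assoc, mul_comm d c₀]
        rw [hSi, hS₀]
        simp only [Finset.image_insert, Finset.image_singleton, em, mul_comm d c₀]
        rcases hbe with h | h
        · rw [h]
        · rw [h, inv_inv, Finset.pair_comm]
      push Not at hbe
      have h := mem_par_of_unique (hmem 1 (by simp)) (hmem₀ 1 (by simp))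
        fun x hx y hy hxy => ?_
      · rwa [hdiv, div_one, mul_one] at h
      obtain ⟨s, hs, rfl⟩ := hdec x hx
      obtain ⟨t, ht, rfl⟩ := hdec₀ y hy
      rw [hdiv, hdiv, div_one, mul_one, mul_eq_left, div_eq_one] at hxy
      subst hxy
      simp only [Finset.mem_insert, Finset.mem_singleton] at hs ht
      have hbe' : b'⁻¹ ≠ b := fun h => hbe.2 (by rw [← h, inv_inv])
      rcases hs with rfl | rfl | rfl
      · exact ⟨rfl, rfl⟩
      · rcases ht with h | h | h
        exacts [absurd h e1, absurd h hbe.1, absurd h hbe.2]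
      · rcases ht with h | h | h
        exacts [absurd (inv_eq_one.1 h) e1, absurd h hbe', absurd (inv_injective h) hbe.1]
    have hd2 : d ^ 2 = 1 ∨ d ^ 2 = b ^ 2 := by
      rcases sq_two_classes h3 hfree hinv hdp (w := d ^ 2 * b ^ 2) fun ν hν => by
        obtain ⟨x, hx, y, hy, rfl⟩ := exists_of_mem_par hν
        obtain ⟨s, hs, rfl⟩ := hdec x hx
        obtain ⟨t, ht, rfl⟩ := hdec₀ y hy
        rw [hdiv, hpow]
        rcases hsqs s hs with ⟨-, h⟩ | ⟨-, h⟩ <;> rcases hsqt t ht with ⟨-, h'⟩ | ⟨-, h'⟩ <;>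
          rw [h, h'] <;> simp [hbb', mul_assoc, hb8] with h | h
      · exact Or.inl h
      · exact Or.inr (by rw [mul_eq_one_iff_eq_inv.1 h, hbb2])
    intro a ha
    obtain ⟨s, hs, rfl⟩ := hdec a ha
    rw [mul_assoc, mul_div_cancel_left, mul_pow]
    rcases hsqs s hs with ⟨-, h⟩ | ⟨-, h⟩ <;> rcases hd2 with h' | h' <;>
      simp [h, h', hbb', hb8]
  · -- four classes
    exfalso
    have hq : ∀ s ∈ ({1, b', b'⁻¹} : Finset A), ∀ s' ∈ ({1, b', b'⁻¹} : Finset A),
        (s / s') ^ 2 = 1 → s / s' = 1 ∨ s / s' = b' ^ 2 := by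
      intro s hs s' hs' h
      simp only [Finset.mem_insert, Finset.mem_singleton] at hs hs'
      rcases hs with rfl | rfl | rfl <;> rcases hs' with rfl | rfl | rfl <;>
        first
        | exact Or.inl (div_self' _)
        | (right; simp only [div_eq_mul_inv, inv_inv, ← pow_two, hb'inv]; done)
        | exact absurd h (by simp [div_pow, hb'2, hbb2'])
    have hqt : ∀ t ∈ ({1, b, b⁻¹} : Finset A), ∀ t' ∈ ({1, b, b⁻¹} : Finset A),
        (t / t') ^ 2 = 1 → t / t' = 1 ∨ t / t' = b ^ 2 := by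
      intro t ht t' ht' h
      simp only [Finset.mem_insert, Finset.mem_singleton] at ht ht'
      rcases ht with rfl | rfl | rfl <;> rcases ht' with rfl | rfl | rfl <;>
        first
        | exact Or.inl (div_self' _)
        | (right; simp only [div_eq_mul_inv, inv_inv, ← pow_two, hbinv]; done)
        | exact absurd h (by simp [div_pow, hb2, hbb2])
    have hne : b' ^ 2 * b ^ 2 ≠ 1 := fun h => hbb' (by
      rw [mul_eq_one_iff_eq_inv.1 h, hbb2])
    -- the classes determine the squares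
    have hclass : ∀ s ∈ ({1, b', b'⁻¹} : Finset A), ∀ t ∈ ({1, b, b⁻¹} : Finset A),
        ∀ s' ∈ ({1, b', b'⁻¹} : Finset A), ∀ t' ∈ ({1, b, b⁻¹} : Finset A),
        s ^ 2 * (t ^ 2)⁻¹ = s' ^ 2 * (t' ^ 2)⁻¹ → s ^ 2 = s' ^ 2 ∧ t ^ 2 = t' ^ 2 := by
      intro s hs t ht s' hs' t' ht' h
      have hX : s ^ 2 / s' ^ 2 = 1 ∨ s ^ 2 / s' ^ 2 = b' ^ 2 := by
        rcases hsqs s hs with ⟨-, a₁⟩ | ⟨-, a₁⟩ <;> rcases hsqs s' hs' with ⟨-, a₃⟩ | ⟨-, a₃⟩ <;>
          rw [a₁, a₃] <;> simp [hbb2']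
      have hY : (t ^ 2)⁻¹ / (t' ^ 2)⁻¹ = 1 ∨ (t ^ 2)⁻¹ / (t' ^ 2)⁻¹ = b ^ 2 := by
        rcases hsqt t ht with ⟨-, a₂⟩ | ⟨-, a₂⟩ <;> rcases hsqt t' ht' with ⟨-, a₄⟩ | ⟨-, a₄⟩ <;>
          rw [a₂, a₄] <;> simp [hbb2]
      have hXY : s ^ 2 / s' ^ 2 * ((t ^ 2)⁻¹ / (t' ^ 2)⁻¹) = 1 := by
        rw [div_mul_div_comm, h, div_self']
      rcases hX with x1 | x1 <;> rcases hY with y1 | y1 <;> rw [x1, y1] at hXY
      · exact ⟨div_eq_one.1 x1, inv_injective (div_eq_one.1 y1)⟩
      · exact absurd (by simpa using hXY) hb2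
      · exact absurd (by simpa using hXY) hb'2
      · exact absurd hXY hne
    have huniq : ∀ s ∈ ({1, b', b'⁻¹} : Finset A), ∀ t ∈ ({1, b, b⁻¹} : Finset A),
        ∀ s' ∈ ({1, b', b'⁻¹} : Finset A), ∀ t' ∈ ({1, b, b⁻¹} : Finset A),
        s / t = s' / t' → s = s' ∧ t = t' := by
      intro s hs t ht s' hs' t' ht' h
      have h' := congrArg (· ^ 2) h
      simp only [div_pow, div_eq_mul_inv] at h'
      simp only [mul_pow, inv_pow] at h'
      obtain ⟨k1, k2⟩ := hclass s hs t ht s' hs' t' ht' h'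
      have hst : s / s' = t / t' := by
        rw [div_eq_div_iff_mul_eq_mul] at h ⊢
        rw [h, mul_comm]
      rcases hq s hs s' hs' (by rw [div_pow, k1, div_self']) with r | r
      · exact ⟨div_eq_one.1 r, div_eq_one.1 (hst ▸ r)⟩
      · exfalso
        rcases hqt t ht t' ht' (by rw [div_pow, k2, div_self']) with r' | r' <;>
          rw [hst, r'] at r
        · exact hb'2 r.symm
        · exact hbb' r.symm
    have hpar : ∀ s ∈ ({1, b', b'⁻¹} : Finset A), ∀ t ∈ ({1, b, b⁻¹} : Finset A),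
        d * (s / t) ∈ par (T) (U) := by
      intro s hs t ht
      have h := mem_par_of_unique (hmem s hs) (hmem₀ t ht) fun x hx y hy hxy => by
        obtain ⟨s', hs', rfl⟩ := hdec x hx
        obtain ⟨t', ht', rfl⟩ := hdec₀ y hy
        rw [hdiv, hdiv, mul_right_inj] at hxy
        obtain ⟨rfl, rfl⟩ := huniq s' hs' t' ht' s hs t ht hxy
        exact ⟨rfl, rfl⟩
      rwa [hdiv] at h
    -- the four elements of the last class
    set E : Finset A := {d * (b' / b), d * (b' / b⁻¹), d * (b'⁻¹ / b), d * (b'⁻¹ / b⁻¹)} with hE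
    have hsmall : ∀ ν ∈ par (T) (U), ν ^ 2 = d ^ 2 * b' ^ 2 * b ^ 2 ∨
        (ν = d ∧ ν ^ 2 = d ^ 2) ∨
        ((ν = d * b ∨ ν = d * b⁻¹) ∧ ν ^ 2 = d ^ 2 * b ^ 2) ∨
        ((ν = d * b' ∨ ν = d * b'⁻¹) ∧ ν ^ 2 = d ^ 2 * b' ^ 2) := by
      intro ν hν
      obtain ⟨x, hx, y, hy, rfl⟩ := exists_of_mem_par hν
      obtain ⟨s, hs, rfl⟩ := hdec x hx
      obtain ⟨t, ht, rfl⟩ := hdec₀ y hy
      rw [hdiv, hpow]
      simp only [Finset.mem_insert, Finset.mem_singleton] at hs ht
      rcases hs with rfl | rfl | rfl <;> rcases ht with rfl | rfl | rfl <;>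
        simp [hbb2, hbinv, hb'inv, hb'2, hbb2', mul_assoc]
    have hEpar : ∀ ν ∈ E, ν ∈ par (T) (U) ∧ ν ^ 2 = d ^ 2 * b' ^ 2 * b ^ 2 := by
      intro ν hν
      simp only [E, Finset.mem_insert, Finset.mem_singleton] at hν
      rcases hν with rfl | rfl | rfl | rfl <;>
        refine ⟨hpar _ (by simp) _ (by simp), ?_⟩ <;> rw [hpow] <;>
        simp [hbb2, hbinv, hb'inv, hbb2']
    have hEcard : E.card = 4 := by
      have inj : ∀ {s s' t t' : A}, s ∈ ({1, b', b'⁻¹} : Finset A) →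
          s' ∈ ({1, b', b'⁻¹} : Finset A) → t ∈ ({1, b, b⁻¹} : Finset A) →
          t' ∈ ({1, b, b⁻¹} : Finset A) → (s ≠ s' ∨ t ≠ t') → d * (s / t) ≠ d * (s' / t') :=
        fun hs hs' ht ht' hne h => by
          obtain ⟨r, r'⟩ := huniq _ hs _ ht _ hs' _ ht' (mul_left_cancel h)
          exact hne.elim (fun k => k r) fun k => k r'
      simp only [E]
      rw [Finset.card_insert_of_notMem, Finset.card_insert_of_notMem,
        Finset.card_insert_of_notMem, Finset.card_singleton]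
      · simp only [Finset.mem_singleton]
        exact inj (by simp) (by simp) (by simp) (by simp) (Or.inr hbb)
      · simp only [Finset.mem_insert, Finset.mem_singleton, not_or]
        exact ⟨inj (by simp) (by simp) (by simp) (by simp) (Or.inl e2),
          inj (by simp) (by simp) (by simp) (by simp) (Or.inl e2)⟩
      · simp only [Finset.mem_insert, Finset.mem_singleton, not_or]
        exact ⟨inj (by simp) (by simp) (by simp) (by simp) (Or.inr hbb),
          inj (by simp) (by simp) (by simp) (by simp) (Or.inl e2),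
          inj (by simp) (by simp) (by simp) (by simp) (Or.inl e2)⟩
    have hw : τ (d ^ 2 * b' ^ 2 * b ^ 2) = d ^ 2 * b' ^ 2 * b ^ 2 := by
      by_contra hne'
      have himg : ∀ ν ∈ E.image τ, ν ∈ par (T) (U) ∧
          ν ^ 2 = τ (d ^ 2 * b' ^ 2 * b ^ 2) := by
        intro ν hν
        obtain ⟨μ, hμ, rfl⟩ := Finset.mem_image.1 hν
        exact ⟨hinv _ (hEpar μ hμ).1, by rw [← map_pow, (hEpar μ hμ).2]⟩
      have hcls : E.image τ ⊆ {d} ∨ E.image τ ⊆ {d * b, d * b⁻¹} ∨
          E.image τ ⊆ {d * b', d * b'⁻¹} := by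
        have hdd : d ^ 2 ≠ d ^ 2 * b ^ 2 := fun h => hb2 (mul_eq_left.1 h.symm)
        have hdd' : d ^ 2 ≠ d ^ 2 * b' ^ 2 := fun h => hb'2 (mul_eq_left.1 h.symm)
        have hdd'' : d ^ 2 * b ^ 2 ≠ d ^ 2 * b' ^ 2 := fun h => hbb' (mul_left_cancel h).symm
        by_cases h0 : τ (d ^ 2 * b' ^ 2 * b ^ 2) = d ^ 2
        · refine Or.inl fun ν hν => ?_
          obtain ⟨hp, hs⟩ := himg ν hν
          rcases hsmall ν hp with h | ⟨h, -⟩ | ⟨-, h⟩ | ⟨-, h⟩
          · exact absurd (hs.symm.trans h) hne'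
          · simp [h]
          · exact absurd ((h0.symm.trans hs.symm).trans h) hdd
          · exact absurd ((h0.symm.trans hs.symm).trans h) hdd'
        by_cases h1 : τ (d ^ 2 * b' ^ 2 * b ^ 2) = d ^ 2 * b ^ 2
        · refine Or.inr (Or.inl fun ν hν => ?_)
          obtain ⟨hp, hs⟩ := himg ν hν
          rcases hsmall ν hp with h | ⟨-, h⟩ | ⟨h, -⟩ | ⟨-, h⟩
          · exact absurd (hs.symm.trans h) hne'
          · exact absurd (hs.symm.trans h) h0
          · simpa using h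
          · exact absurd ((h1.symm.trans hs.symm).trans h) hdd''
        refine Or.inr (Or.inr fun ν hν => ?_)
        obtain ⟨hp, hs⟩ := himg ν hν
        rcases hsmall ν hp with h | ⟨-, h⟩ | ⟨-, h⟩ | ⟨h, -⟩
        · exact absurd (hs.symm.trans h) hne'
        · exact absurd (hs.symm.trans h) h0
        · exact absurd (hs.symm.trans h) h1
        · simpa using h
      have h4 : (E.image τ).card = 4 := by
        rw [Finset.card_image_of_injective _ τ.injective, hEcard]
      have htwo : ∀ p q : A, ({p, q} : Finset A).card ≤ 2 := fun p q =>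
        (Finset.card_insert_le _ _).trans (by simp)
      rcases hcls with h | h | h
      · have := Finset.card_le_card h; simp [h4] at this
      · have := (Finset.card_le_card h).trans (htwo _ _); omega
      · have := (Finset.card_le_card h).trans (htwo _ _); omega
    have hd2 : d ^ 2 = b' ^ 2 * b ^ 2 := by
      have h := hfree _ hw
      rw [mul_assoc, mul_eq_one_iff_eq_inv, mul_inv, hbb2, hbb2'] at h
      exact h
    have hdp : d ∈ par (T) (U) := by simpa using hpar 1 (by simp) 1 (by simp)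
    have hback : ∀ ν ∈ par (T) (U), ν ^ 2 = τ (d ^ 2) → τ (τ ν) = d := by
      intro ν hν hsq'
      have h2' : (τ (τ ν)) ^ 2 = d ^ 2 := by rw [← map_pow, ← map_pow, hsq', h3]
      rcases hsmall _ (hinv _ (hinv _ hν)) with h | ⟨h, -⟩ | ⟨-, h⟩ | ⟨-, h⟩
      · exact absurd (h.symm.trans h2') fun h' => hne (mul_eq_left.1 (by rwa [mul_assoc] at h'))
      · exact h
      · exact absurd (h.symm.trans h2') fun h' => hb2 (mul_eq_left.1 h')
      · exact absurd (h.symm.trans h2') fun h' => hb'2 (mul_eq_left.1 h')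
    rcases hsmall _ (hinv _ hdp) with h | ⟨h, -⟩ | ⟨-, h⟩ | ⟨-, h⟩ <;>
      try rw [← map_pow] at h
    · rw [hfree _ hw] at h
      exact hne (hd2 ▸ τ.injective (h.trans τ.map_one.symm))
    · exact hne (hd2 ▸ (by rw [hfree d h, one_pow]))
    · have k1 := hback _ (hpar 1 (by simp) b (by simp)) (by rw [h, hpow]; simp [hbb2])
      have k2 := hback _ (hpar 1 (by simp) b⁻¹ (by simp)) (by rw [h, hpow]; simp [hbinv, hbb2])
      exact hbb.symm (by simpa using τ.injective (τ.injective (k1.trans k2.symm)))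
    · have k1 := hback _ (hpar b' (by simp) 1 (by simp)) (by rw [h, hpow]; simp)
      have k2 := hback _ (hpar b'⁻¹ (by simp) 1 (by simp)) (by rw [h, hpow]; simp [hb'inv, hbb2'])
      exact e2 (by simpa using τ.injective (τ.injective (k1.trans k2.symm)))

/-- A pair compatible with an exceptional triple. -/
theorem key_pair (h3 : ∀ a, τ (τ (τ a)) = a) (hfree : ∀ a, τ a = a → a = 1)
    {T U : Finset A} (he : T.card = 2) (hself : Compat τ T T) (hcomp : Compat τ T U) {c₀ b : A}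
    (hb4 : b ^ 4 = 1) (hb2 : b ^ 2 ≠ 1) (hS₀ : U = {c₀, c₀ * b, c₀ * b⁻¹}) :
    ∀ a ∈ T, (a / c₀) ^ 2 = 1 ∨ (a / c₀) ^ 2 = b ^ 2 := by
  have hbinv : b⁻¹ ^ 2 = b ^ 2 := by
    rw [inv_pow]
    exact inv_eq_of_mul_eq_one_right (by rw [← pow_add]; exact hb4)
  have hb1 : b ≠ 1 := fun h => hb2 (by rw [h, one_pow])
  obtain ⟨x, y, hxy, hSi⟩ := Finset.card_eq_two.1 he
  obtain ⟨u, hu⟩ : ∃ u, y = x * u := ⟨y / x, (mul_div_cancel _ _).symm⟩
  subst hu
  have hu1 : u ≠ 1 := fun h => hxy (by rw [h, mul_one])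
  have hu2 : u ^ 2 = 1 := by
    by_contra hu2
    have huu : u ≠ u⁻¹ := fun h => hu2 (by rw [pow_two]; exact mul_eq_one_iff_eq_inv.2 h)
    have hinvs := par_invariant hself
    have hpcu : ∀ ν : A, ν ≠ 1 → pc (T) (T) ν =
        (if u⁻¹ = ν then 1 else 0) + (if u = ν then 1 else 0) := by
      intro ν hν
      rw [pc_eq_sum, hSi]
      simp only [Finset.sum_insert, Finset.mem_singleton, hxy, not_false_eq_true,
        Finset.sum_singleton, div_self', if_neg (Ne.symm hν), mul_div_cancel_left,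
        div_mul_eq_div_div, one_div, zero_add, add_zero]
    have hsub : (par (T) (T)).erase 1 = {u, u⁻¹} := by
      ext ν
      simp only [Finset.mem_erase, mem_par, Finset.mem_insert, Finset.mem_singleton]
      constructor
      · rintro ⟨hν, h⟩
        rw [hpcu ν hν] at h
        by_contra hne
        push Not at hne
        simp [Ne.symm hne.1, Ne.symm hne.2] at h
      · rintro (rfl | rfl)
        · exact ⟨hu1, by rw [hpcu _ hu1]; simp [huu.symm]⟩
        · exact ⟨inv_ne_one.2 hu1, by rw [hpcu _ (inv_ne_one.2 hu1)]; simp [huu]⟩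
    have hdvd := three_dvd_card h3 hfree ((par (T) (T)).erase 1) (fun a ha =>
      Finset.mem_erase.2 ⟨fun h => (Finset.mem_erase.1 ha).1
        (τ.injective (h.trans τ.map_one.symm)), hinvs a (Finset.mem_erase.1 ha).2⟩)
      (Finset.notMem_erase 1 _)
    rw [hsub, Finset.card_pair huu] at hdvd
    omega
  obtain ⟨d, rfl⟩ : ∃ d, x = c₀ * d := ⟨x / c₀, (mul_div_cancel _ _).symm⟩
  have hub : u ≠ b := fun h => hb2 (h ▸ hu2)
  have hub' : u ≠ b⁻¹ := fun h => hb2 (hbinv ▸ h ▸ hu2)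
  have hdiv : ∀ t : A, c₀ * d / (c₀ * t) = d / t ∧ c₀ * d * u / (c₀ * t) = d * u / t := fun t =>
    ⟨mul_div_mul_left_eq_div _ _ _, by rw [mul_assoc, mul_div_mul_left_eq_div]⟩
  have hdp : c₀ * d / c₀ ∈ par (T) (U) := by
    refine mem_par_of_unique (by rw [hSi]; simp) (by rw [hS₀]; simp) fun a ha t ht h => ?_
    rw [hSi] at ha
    rw [hS₀] at ht
    simp only [Finset.mem_insert, Finset.mem_singleton] at ha ht
    have h1 : c₀ * d * u / c₀ = d * u := by rw [mul_assoc, mul_div_cancel_left]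
    rcases ha with rfl | rfl <;> rcases ht with rfl | rfl | rfl <;>
      simp only [(hdiv _).1, (hdiv _).2, h1, mul_div_cancel_left, div_eq_iff_eq_mul, mul_eq_left,
        mul_right_inj, left_eq_mul, div_inv_eq_mul, mul_assoc, mul_eq_one_iff_eq_inv] at h
    · exact ⟨rfl, rfl⟩
    · exact absurd h (by simp [hb1, eq_comm])
    · exact absurd h (by simp [hb1, eq_comm, inv_eq_one])
    · exact absurd h (by simp [hu1])
    · exact absurd (mul_left_cancel ((mul_left_comm d c₀ b ▸ h : c₀ * (d * u) = c₀ * (d * b)))) (by simpa using hub)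
    · exact absurd (mul_left_cancel ((mul_left_comm d c₀ b⁻¹ ▸ h : c₀ * (d * u) = c₀ * (d * b⁻¹)))) (by simpa using hub')
  rw [mul_div_cancel_left] at hdp
  have hd2 : d ^ 2 = 1 ∨ d ^ 2 = b ^ 2 := by
    have hbb2 : (b ^ 2)⁻¹ = b ^ 2 := by rw [← inv_pow]; exact hbinv
    rcases sq_two_classes h3 hfree (par_invariant (hcomp)) hdp (w := d ^ 2 * b ^ 2)
      fun ν hν => by
        obtain ⟨a, ha, t, ht, rfl⟩ := exists_of_mem_par hν
        rw [hSi] at ha
        rw [hS₀] at ht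
        simp only [Finset.mem_insert, Finset.mem_singleton] at ha ht
        rcases ha with rfl | rfl <;> rcases ht with rfl | rfl | rfl <;>
          simp [(hdiv _).1, (hdiv _).2, div_pow, mul_pow, hu2, div_eq_mul_inv, hbb2] with h | h
    · exact Or.inl h
    · exact Or.inr (by rw [mul_eq_one_iff_eq_inv.1 h, hbb2])
  intro a ha
  rw [hSi] at ha
  simp only [Finset.mem_insert, Finset.mem_singleton] at ha
  rcases ha with rfl | rfl
  · simpa using hd2
  · simpa [mul_assoc, mul_pow, hu2] using hd2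

variable [Finite A]

/-- After translation all members of the family are invariant. -/
theorem exists_translate (h3 : ∀ a, τ (τ (τ a)) = a) (hfree : ∀ a, τ a = a → a = 1)
    (h2 : ∃ j : ℕ, ∀ a : A, a ^ 2 ^ j = 1)
    (hV : ∀ u v : A, u ^ 2 = 1 → v ^ 2 = 1 → u ≠ 1 → v ≠ 1 → u ≠ v →
      ∀ w, w ^ 2 = 1 → w = 1 ∨ w = u ∨ w = v ∨ w = u * v)
    {ι : Type v} (S : ι → Finset A) (hcard : ∀ i, 1 ≤ (S i).card ∧ (S i).card ≤ 3)
    (hodd : ∃ i, (S i).card % 2 = 1) (hcov : ∀ a, ∃ i, a ∈ S i)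
    (hcomp : ∀ i j, Compat τ (S i) (S j)) :
    ∃ x : A, ∀ i, (x ∈ S i → (S i).card = 1) ∧ (x ∉ S i → (S i).card = 3) := by
  have h2' : ∀ a : A, ∃ k : ℕ, a ^ 2 ^ k = 1 := fun a => h2.elim fun j hj => ⟨j, hj a⟩
  -- the conclusion from an invariant member
  have good : ∀ x : A, ∀ i₀, (∀ a ∈ (S i₀).image (x⁻¹ * ·), τ a ∈ (S i₀).image (x⁻¹ * ·)) →
      (S i₀).card % 2 = 1 →
      ∃ x : A, ∀ i, (x ∈ S i → (S i).card = 1) ∧ (x ∉ S i → (S i).card = 3) := by
    intro x i₀ hinv ho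
    refine ⟨x, fun i => ?_⟩
    have hi := invariant_of_compat_invariant h2 hinv
      (by rwa [Finset.card_image_of_injective _ (mul_right_injective _)])
      (compat_translate x⁻¹ (hcomp i i₀))
    set F := (S i).image (x⁻¹ * ·) with hF
    have hFc : F.card = (S i).card := Finset.card_image_of_injective _ (mul_right_injective _)
    have hmem : x ∈ S i ↔ (1 : A) ∈ F := by simp [F, inv_mul_eq_one]
    refine ⟨fun hx => ?_, fun hx => ?_⟩
    · have h := three_dvd_card h3 hfree (F.erase 1) (fun a ha => Finset.mem_erase.2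
        ⟨fun h => (Finset.mem_erase.1 ha).1 (τ.injective (h.trans τ.map_one.symm)),
          hi a (Finset.mem_erase.1 ha).2⟩) (Finset.notMem_erase 1 _)
      rw [Finset.card_erase_of_mem (hmem.1 hx), hFc] at h
      obtain ⟨h1, h1'⟩ := hcard i
      omega
    · have h := three_dvd_card h3 hfree F hi (fun h => hx (hmem.2 h))
      rw [hFc] at h
      obtain ⟨h1, h1'⟩ := hcard i
      omega
  by_cases hg : ∃ x i, (∀ a ∈ (S i).image (x⁻¹ * ·), τ a ∈ (S i).image (x⁻¹ * ·)) ∧
      (S i).card % 2 = 1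
  · obtain ⟨x, i, h, ho⟩ := hg
    exact good x i h ho
  exfalso
  -- all odd members are of the exceptional shape
  have hAP : ∀ i, (S i).card % 2 = 1 →
      ∃ c b, b ^ 4 = 1 ∧ b ^ 2 ≠ 1 ∧ S i = {c, c * b, c * b⁻¹} := by
    intro i ho
    obtain ⟨h1, h1'⟩ := hcard i
    rcases (show (S i).card = 1 ∨ (S i).card = 3 by omega) with h | h
    · obtain ⟨a, ha⟩ := Finset.card_eq_one.1 h
      exact absurd ⟨a, i, by simp [ha], ho⟩ hg
    · rcases classify_three h3 hfree h2' hV h (hcomp i i) with ⟨c, v, -, hS⟩ | h'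
      · refine absurd ⟨c, i, ?_, ho⟩ hg
        intro a ha
        simp only [hS, Finset.image_insert, Finset.image_singleton, inv_mul_cancel_left,
          Finset.mem_insert, Finset.mem_singleton] at ha ⊢
        rcases ha with rfl | rfl | rfl <;> simp [h3]
      · exact h'
  obtain ⟨i₀, hi₀⟩ := hodd
  obtain ⟨c₀, b, hb4, hb2, hS₀⟩ := hAP i₀ hi₀
  have hbinv : b⁻¹ ^ 2 = b ^ 2 := by
    rw [inv_pow]
    exact inv_eq_of_mul_eq_one_right (by rw [← pow_add]; exact hb4)
  have hb1 : b ≠ 1 := fun h => hb2 (by rw [h, one_pow])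
  have hbb : b ≠ b⁻¹ := fun h => hb2 (by rw [pow_two]; exact mul_eq_one_iff_eq_inv.2 h)
  have hb8 : (b ^ 2) * (b ^ 2) = 1 := by rw [← pow_add]; exact hb4
  have key : ∀ i, ∀ a ∈ S i, (a / c₀) ^ 2 = 1 ∨ (a / c₀) ^ 2 = b ^ 2 := by
    intro i
    obtain ⟨h1, h1'⟩ := hcard i
    rcases (show (S i).card % 2 = 1 ∨ (S i).card = 2 by omega) with ho | he
    · obtain ⟨c, b', hb'4, hb'2, hSi⟩ := hAP i ho
      exact key_triple h3 hfree hi₀ (hcomp i i₀) hb4 hb2 hS₀ hb'4 hb'2 hSi
    · exact key_pair h3 hfree he (hcomp i i) (hcomp i i₀) hb4 hb2 hS₀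
  obtain ⟨i, hi⟩ := hcov (c₀ * τ b)
  rcases key i _ hi with h | h <;> rw [mul_div_cancel_left, ← map_pow] at h
  · exact hb2 (τ.injective (h.trans τ.map_one.symm))
  · exact hb2 (hfree _ h)

end CfsgLib.BlockRank.TriParity
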