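import Cfsg.Agent.Lib.BlockRank.HomocyclicShape
import Cfsg.Agent.Lib.BlockRank.TriFamily
import Cfsg.Agent.Lib.BlockPrincipal.SmallDefect
import Cfsg.Agent.Lib.BlockReg.LocalRing
import Mathlib.GroupTheory.FiniteAbelian.Duality
import Mathlib.RingTheory.IntegralDomain

/-!
# Counting the rows of a weight system on a homocyclic group of rank two

A system of weights on a homocyclic `2`-group `Q` of rank two with a fixed-point-free automorphism
`τ` of order three, orthogonal, integral, and given by virtual characters on every sector, has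
`(|Q| + 8) / 3` rows.
-/

set_option autoImplicit false
set_option maxHeartbeats 2000000

open scoped Classical ComplexConjugate
open Cfsg CfsgLib.BlockReg

namespace CfsgLib.BlockRank.Homocyclic

universe u v

section Characters

variable {Q : Type u} [CommGroup Q] [Finite Q]

theorem finite_hom : Finite (Q →* ℂˣ) := by
  haveI : NeZero (Monoid.exponent Q : ℂ) :=
    ⟨Nat.cast_ne_zero.2 Monoid.exponent_ne_zero_of_finite⟩
  exact Nat.finite_of_card_ne_zero
    (by rw [CommGroup.card_monoidHom_of_hasEnoughRootsOfUnity]; exact Nat.card_pos.ne')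

theorem exists_extension (Φ : Subgroup Q) (μ : Φ →* ℂˣ) :
    ∃ lam : Q →* ℂˣ, ∀ f : Φ, lam (f : Q) = μ f := by
  haveI : NeZero (Monoid.exponent Q : ℂ) :=
    ⟨Nat.cast_ne_zero.2 Monoid.exponent_ne_zero_of_finite⟩
  obtain ⟨lam, hlam⟩ := MonoidHom.domRestrict_surjective (M := ℂ) Φ μ
  exact ⟨lam, fun f => by rw [← hlam]; rfl⟩

theorem conj_hom_apply (lam : Q →* ℂˣ) (q : Q) : conj (lam q : ℂ) = ((lam q)⁻¹ : ℂˣ) := by
  rw [Units.val_inv_eq_inv_val, ← Complex.inv_eq_conj]
  refine Complex.norm_eq_one_of_pow_eq_one (n := Nat.card Q) ?_ Nat.card_pos.ne'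
  rw [← Units.val_pow_eq_pow_val, ← map_pow, pow_card_eq_one', map_one, Units.val_one]

theorem sum_hom_eq [Fintype Q] (lam : Q →* ℂˣ) :
    ∑ q, (lam q : ℂ) = if lam = 1 then (Nat.card Q : ℂ) else 0 := by
  have h := sum_hom_units (G := Q) (R := ℂ) ((Units.coeHom ℂ).comp lam)
  refine h.trans ?_
  rw [Nat.card_eq_fintype_card]
  push_cast
  refine if_congr ⟨fun h' => MonoidHom.ext fun q => Units.ext ?_, fun h' => ?_⟩ rfl rfl
  · exact DFunLike.congr_fun h' q
  · rw [h']; rfl

theorem sum_hom_mul_conj [Fintype Q] (a b : Q →* ℂˣ) :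
    ∑ q, (a q : ℂ) * conj (b q : ℂ) = if a = b then (Nat.card Q : ℂ) else 0 := by
  rw [Finset.sum_congr rfl (g := fun q => ((a / b) q : ℂ)) fun q _ => by
    rw [conj_hom_apply, MonoidHom.div_apply, div_eq_mul_inv, Units.val_mul], sum_hom_eq]
  refine if_congr ⟨fun h => MonoidHom.ext fun q => ?_, fun h => MonoidHom.ext fun q => ?_⟩ rfl rfl
  · exact div_eq_one.1 (DFunLike.congr_fun h q :)
  · rw [h]
    exact div_self' _

theorem sum_sub_modEq_card {ι : Type*} (s : Finset ι) (ε : ι → ℤ) (h : ∀ i ∈ s, ε i % 2 = 1) :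
    (∑ i ∈ s, ε i) % 2 = (s.card : ℤ) % 2 := by
  rw [Finset.sum_int_mod, Finset.sum_congr rfl h, Finset.sum_const, nsmul_eq_mul, mul_one]

/-- At most four elements squaring to one: two involutions give all of them. -/
theorem klein_of_card_le {A : Type*} [CommGroup A] [Finite A]
    (h4 : Nat.card {w : A // w ^ 2 = 1} ≤ 4) :
    ∀ u v : A, u ^ 2 = 1 → v ^ 2 = 1 → u ≠ 1 → v ≠ 1 → u ≠ v →
      ∀ w, w ^ 2 = 1 → w = 1 ∨ w = u ∨ w = v ∨ w = u * v := by
  intro u v hu hv hu1 hv1 huv w hw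
  haveI := Fintype.ofFinite A
  by_contra hc
  push Not at hc
  obtain ⟨hw1, hwu, hwv, hwuv⟩ := hc
  have h1 : u * v ≠ 1 := fun h => huv (by
    rw [mul_eq_one_iff_eq_inv] at h
    rw [h]
    exact inv_eq_of_mul_eq_one_right (by rw [← pow_two]; exact hv))
  have h2 : u * v ≠ u := fun h => hv1 (mul_eq_left.1 h)
  have h3 : u * v ≠ v := fun h => hu1 (mul_eq_right.1 h)
  have hsub : ({1, u, v, u * v, w} : Finset A) ⊆ Finset.univ.filter (fun q => q ^ 2 = 1) := by
    intro q hq
    simp only [Finset.mem_insert, Finset.mem_singleton] at hq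
    rw [Finset.mem_filter]
    refine ⟨Finset.mem_univ _, ?_⟩
    rcases hq with rfl | rfl | rfl | rfl | rfl
    · exact one_pow 2
    · exact hu
    · exact hv
    · rw [mul_pow, hu, hv, one_mul]
    · exact hw
  have h := Finset.card_le_card hsub
  rw [Finset.card_insert_of_notMem, Finset.card_insert_of_notMem, Finset.card_insert_of_notMem,
    Finset.card_insert_of_notMem, Finset.card_singleton, ← Fintype.card_subtype,
    ← Nat.card_eq_fintype_card] at h
  · exact absurd (h.trans h4) (by omega)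
  · simpa using hwuv.symm
  · simpa using And.intro h3.symm hwv.symm
  · simpa using And.intro huv (And.intro h2.symm hwu.symm)
  · simpa using And.intro hu1.symm (And.intro hv1.symm (And.intro h1.symm hw1.symm))

end Characters

variable {Q : Type u} [CommGroup Q] [Fintype Q] {τ : Q ≃* Q} {M : Ideal AlgInt} {ι : Type v}
  [Fintype ι]

/-- **The number of rows.** -/
theorem three_mul_card (hM : IsPModular 2 M) (h3 : ∀ q, τ (τ (τ q)) = q)
    (hfree : ∀ q, τ q = q → q = 1) {m : ℕ} (hm : 1 ≤ m) (hcard : Nat.card Q = 4 ^ m)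
    (h4 : Nat.card (powMonoidHom 2 : Q →* Q).ker ≤ 4) (hexp : ∀ q : Q, q ^ 2 ^ m = 1)
    (W : ι → ι → Q → ℂ) (i₀ : ι)
    (hsec : ∀ t : Q, t ≠ 1 → ∃ n : ι → (Q →* ℂˣ) → ℤ, ∀ i j z, t ∈ Subgroup.zpowers z →
      W i j z = (∑ᶠ lam : Q →* ℂˣ, (n i lam : ℂ) * (lam z : ℂ)) *
        conj (∑ᶠ lam : Q →* ℂˣ, (n j lam : ℂ) * (lam z : ℂ)))
    (hinv : ∀ i j z, W i j (τ z) = W i j z)
    (hint : ∀ η : Q → ℂ, η 1 = 0 → (∀ z, η (τ z) = η z) →
      (∃ (k : ℕ) (lam : Fin k → (Q →* ℂˣ)) (c : Fin k → ℤ),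
        ∀ u, η u = ∑ l, (c l : ℂ) * (lam l u : ℂ)) →
      ∀ i j, ∃ z : ℤ, (z : ℂ) * 3 * (Nat.card Q : ℂ) = ∑ u, η u * W i j u)
    (hnn : ∀ i u, ∃ r : ℝ, 0 ≤ r ∧ W i i u = r) (hone : ∀ i, W i i 1 ≠ 0)
    (hdiag : ∀ i, ∑ u, W i i u + 2 * W i i 1 = 3 * (Nat.card Q : ℂ))
    (hne0 : ∀ i z, W i i₀ z ≠ 0) (hunit : ∀ z, ¬ MemLocalIdeal M (W i₀ i₀ z))
    (horth : ∀ z z' : Q, z' ≠ z → z' ≠ τ z → z' ≠ τ (τ z) →
      ∑ i, W i i₀ z * conj (W i i₀ z') = 0)
    (hcol : ∀ z, ∑ i, W i i₀ z * conj (W i i₀ z) = (Nat.card Q : ℂ) * W i₀ i₀ z) :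
    3 * Fintype.card ι = Nat.card Q + 8 := by
  obtain ⟨x, ht1, htf, hτΦ, hprod, hxΦ, hτxΦ, hn1, hn2, h4Φ, hcov⟩ :=
    exists_shape h3 hfree hm hcard h4 hexp
  set Φ := (powMonoidHom 2 : Q →* Q).range with hΦ
  obtain ⟨n, hn⟩ := hsec _ ht1
  haveI := finite_hom (Q := Q)
  haveI := finite_hom (Q := Φ)
  haveI := Fintype.ofFinite (Q →* ℂˣ)
  haveI := Fintype.ofFinite (Φ →* ℂˣ)
  set F : ℂ := (Nat.card Φ : ℂ) with hF
  have hF0 : F ≠ 0 := Nat.cast_ne_zero.2 Nat.card_pos.ne'
  have hN : (Nat.card Q : ℂ) = 4 * F := by rw [hF, ← h4Φ]; push_cast; ring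
  let res : (Q →* ℂˣ) → (Φ →* ℂˣ) := fun lam => lam.comp Φ.subtype
  choose L hL using exists_extension (Q := Q) Φ
  have hsqx : x ^ 2 ∈ Φ := ⟨x, rfl⟩
  -- signs of characters trivial on the squares
  have hsign : ∀ lam : Q →* ℂˣ, res lam = 1 → (lam x : ℂ) = 1 ∨ (lam x : ℂ) = -1 := by
    intro lam hlam
    have h : lam (x ^ 2) = 1 := DFunLike.congr_fun hlam ⟨x ^ 2, hsqx⟩
    rw [map_pow, Units.ext_iff, Units.val_pow_eq_pow_val, Units.val_one] at h
    exact sq_eq_one_iff.1 h
  let sg : (Q →* ℂˣ) → ℤ := fun lam => if (lam x : ℂ) = 1 then 1 else -1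
  have hsg : ∀ lam : Q →* ℂˣ, res lam = 1 → (sg lam : ℂ) = (lam x : ℂ) ∧ sg lam % 2 = 1 := by
    intro lam hlam
    rcases hsign lam hlam with h | h
    · simp only [sg, if_pos h, Int.cast_one]
      exact ⟨h.symm, rfl⟩
    · simp only [sg, if_neg (show ¬ (lam x : ℂ) = 1 by rw [h]; norm_num), Int.cast_neg, Int.cast_one]
      exact ⟨h.symm, rfl⟩
  -- the coefficients
  let c : ι → (Φ →* ℂˣ) → ℤ := fun i μ =>
    ∑ lam ∈ Finset.univ.filter (fun lam => res lam = μ), n i lam * sg (lam / L μ)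
  let Γ : ι → Φ → ℂ := fun i f => ∑ μ : Φ →* ℂˣ, (c i μ : ℂ) * (L μ x : ℂ) * (μ f : ℂ)
  have hresL : ∀ μ, res (L μ) = μ := fun μ => MonoidHom.ext fun f => hL μ f
  have hzf : ∀ f : Φ, x ^ 2 ^ (m - 1) ∈ Subgroup.zpowers (x * (f : Q)) := fun f => by
    rw [← htf f f.2]
    exact Subgroup.npow_mem_zpowers _ _
  have hW : ∀ i j (f : Φ), W i j (x * f) = Γ i f * conj (Γ j f) := by
    have key : ∀ i (f : Φ), (∑ᶠ lam : Q →* ℂˣ, (n i lam : ℂ) * (lam (x * f) : ℂ)) = Γ i f := by
      intro i f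
      rw [finsum_eq_sum_of_fintype, ← Finset.sum_fiberwise Finset.univ res]
      refine Finset.sum_congr rfl fun μ _ => ?_
      simp only [c, Int.cast_sum, Finset.sum_mul]
      refine Finset.sum_congr rfl fun lam hlam => ?_
      have hl : res lam = μ := (Finset.mem_filter.1 hlam).2
      have hd : res (lam / L μ) = 1 := MonoidHom.ext fun f' => by
        show lam (f' : Q) / L μ (f' : Q) = 1
        rw [hL, ← hl]
        exact div_self' _
      have hf : lam (f : Q) = μ f := by rw [← hl]; rfl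
      have hx : (lam x : ℂ) = ((lam / L μ) x : ℂ) * (L μ x : ℂ) := by
        rw [MonoidHom.div_apply, ← Units.val_mul, div_mul_cancel]
      rw [Int.cast_mul, (hsg _ hd).1, map_mul, Units.val_mul, hf, hx]
      ring
    intro i j f
    rw [hn i j _ (hzf f), key, key]
  have hnorm : ∀ μ : Φ →* ℂˣ, (L μ x : ℂ) * conj (L μ x : ℂ) = 1 := fun μ => by
    rw [conj_hom_apply, ← Units.val_mul, mul_inv_cancel, Units.val_one]
  -- Parseval
  have hpars : ∀ i j, ∑ f : Φ, Γ i f * conj (Γ j f) = F * ∑ μ, ((c i μ * c j μ : ℤ) : ℂ) := by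
    intro i j
    simp only [Γ, map_sum, map_mul, map_intCast, Finset.sum_mul_sum]
    rw [Finset.sum_comm, Finset.mul_sum]
    refine Finset.sum_congr rfl fun μ _ => ?_
    rw [Finset.sum_comm, Finset.sum_eq_single μ]
    · calc _ = (c i μ : ℂ) * (c j μ : ℂ) * ((L μ x : ℂ) * conj (L μ x : ℂ)) *
          ∑ f : Φ, (μ f : ℂ) * conj (μ f : ℂ) := by
            rw [Finset.mul_sum]
            exact Finset.sum_congr rfl fun f _ => by ring
        _ = _ := by rw [hnorm, sum_hom_mul_conj, if_pos rfl, hF]; push_cast; ring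
    · intro μ' _ hne
      calc _ = (c i μ : ℂ) * (c j μ' : ℂ) * ((L μ x : ℂ) * conj (L μ' x : ℂ)) *
          ∑ f : Φ, (μ f : ℂ) * conj (μ' f : ℂ) := by
            rw [Finset.mul_sum]
            exact Finset.sum_congr rfl fun f _ => by ring
        _ = 0 := by rw [sum_hom_mul_conj, if_neg (Ne.symm hne), mul_zero]
    · exact fun h => absurd (Finset.mem_univ μ) h
  have hsplit := fun (G' : Q → ℂ) => sum_split (τ := τ) h3 hτΦ h4Φ hcov G'
  -- the supports
  have hbd : ∀ i, ∑ μ, c i μ * c i μ ≤ 3 := by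
    intro i
    choose r hr0 hr using hnn i
    have h := hdiag i
    rw [hsplit] at h
    simp only [hinv] at h
    rw [hN] at h
    simp only [hr] at h
    have hxx : ∀ f : Φ, (r (x * f) : ℂ) = Γ i f * conj (Γ i f) := fun f => by rw [← hr, hW]
    have e1 : ((∑ f : Φ, r (x * f) : ℝ) : ℂ) =
        ((((Nat.card Φ : ℝ) * ((∑ μ, c i μ * c i μ : ℤ) : ℝ)) : ℝ) : ℂ) := by
      push_cast
      rw [Finset.sum_congr rfl fun f _ => hxx f, hpars, hF]
      push_cast
      ring
    have e1' : (∑ f : Φ, r (x * f)) = (Nat.card Φ : ℝ) * ((∑ μ, c i μ * c i μ : ℤ) : ℝ) :=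
      Complex.ofReal_inj.1 e1
    have e2 : ((∑ f : Φ, r (f : Q) + ∑ f : Φ, r (x * f) + ∑ f : Φ, r (x * f) +
        ∑ f : Φ, r (x * f) + 2 * r 1 : ℝ) : ℂ) =
        ((3 * (4 * (Nat.card Φ : ℝ)) : ℝ) : ℂ) := by
      push_cast
      rw [← hF]
      exact h
    have e2' := Complex.ofReal_inj.1 e2
    have hr1 : 0 < r 1 := lt_of_le_of_ne (hr0 1) fun h0 => hone i (by rw [hr, ← h0]; simp)
    have hge : r 1 ≤ ∑ f : Φ, r (f : Q) :=
      Finset.single_le_sum (f := fun f : Φ => r (f : Q)) (fun f _ => hr0 _)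
        (Finset.mem_univ (1 : Φ))
    have hlt : (Nat.card Φ : ℝ) * ((∑ μ, c i μ * c i μ : ℤ) : ℝ) < (Nat.card Φ : ℝ) * 4 := by
      rw [← e1']; linarith
    have h' := lt_of_mul_lt_mul_left hlt (Nat.cast_nonneg _)
    have h'' : (∑ μ, c i μ * c i μ) < 4 := by exact_mod_cast h'
    omega
  let S : ι → Finset (Φ →* ℂˣ) := fun i => Finset.univ.filter fun μ => c i μ ≠ 0
  have hcsq : ∀ i μ, c i μ * c i μ = if μ ∈ S i then 1 else 0 := by
    intro i μ
    by_cases h : c i μ = 0
    · simp [S, h]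
    · simp only [S, Finset.mem_filter, Finset.mem_univ, true_and, h, not_false_eq_true, ne_eq,
        if_true]
      have hle : c i μ * c i μ ≤ 3 := le_trans
        (Finset.single_le_sum (f := fun μ => c i μ * c i μ) (fun μ _ => mul_self_nonneg _)
          (Finset.mem_univ μ)) (hbd i)
      have h1 : c i μ ≤ 1 := by nlinarith
      have h2 : -1 ≤ c i μ := by nlinarith
      rcases (show c i μ = 1 ∨ c i μ = -1 by omega) with e | e <;> simp [e]
  have hcardS : ∀ i, ((S i).card : ℤ) = ∑ μ, c i μ * c i μ := fun i => by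
    simp only [hcsq]
    rw [Finset.sum_boole]
    congr 1
    simp
  have hodd1 : ∀ i, ∀ μ ∈ S i, c i μ % 2 = 1 := fun i μ hμ => by
    have h := hcsq i μ
    rw [if_pos hμ] at h
    rcases Int.eq_one_or_neg_one_of_mul_eq_one h with e | e <;> simp [e]
  have hΓS : ∀ i f, Γ i f = ∑ μ ∈ S i, (c i μ : ℂ) * (L μ x : ℂ) * (μ f : ℂ) := fun i f =>
    (Finset.sum_subset (Finset.subset_univ _) fun μ _ hμ => by
      have : c i μ = 0 := by simpa [S] using hμ
      simp [this]).symm
  have hcardS' : ∀ i, 1 ≤ (S i).card ∧ (S i).card ≤ 3 := by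
    intro i
    refine ⟨Finset.card_pos.2 (Finset.nonempty_iff_ne_empty.2 fun he => hne0 i (x * ((1 : Φ) : Q)) ?_), ?_⟩
    · rw [hW, hΓS, he, Finset.sum_empty, zero_mul]
    · have := hcardS i
      have := hbd i
      omega
  have hval : ∀ (μ : Φ →* ℂˣ) (q : Q), (L μ q : ℂ) ^ 2 ^ m = 1 := fun μ q => by
    rw [← Units.val_pow_eq_pow_val, ← map_pow, hexp, map_one, Units.val_one]
  have hoddc : (S i₀).card % 2 = 1 := by
    by_contra hev
    refine hunit (x * ((1 : Φ) : Q)) ?_
    rw [hW]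
    have hsum : Γ i₀ 1 = ∑ μ ∈ S i₀, (c i₀ μ : ℂ) * ((L μ x : ℂ) - 1) +
        ((∑ μ ∈ S i₀, c i₀ μ : ℤ) : ℂ) := by
      rw [hΓS, Int.cast_sum, ← Finset.sum_add_distrib]
      refine Finset.sum_congr rfl fun μ _ => ?_
      rw [map_one, Units.val_one]
      ring
    have hi : MemLocalIdeal M (Γ i₀ 1) := by
      rw [hsum]
      refine memIdeal_add hM (memIdeal_sum hM _ fun μ _ => memIdeal_mul_left hM
        (memRing_intCast hM _) (CfsgLib.SmallDefect.root_sub_one_memIdeal hM (k := m) (hval μ x))) ?_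
      rw [memIdeal_intCast_iff hM]
      refine Int.dvd_of_emod_eq_zero ?_
      push_cast
      rw [sum_sub_modEq_card _ _ (hodd1 i₀)]
      omega
    refine memIdeal_mul_right hM hi ?_
    rw [hΓS, map_sum]
    refine memRing_sum hM _ fun μ _ => ?_
    simp only [map_mul, map_intCast, map_one, Units.val_one, mul_one]
    refine memRing_mul hM (memRing_intCast hM _) (memRing_algInt hM ?_)
    refine IsIntegral.of_pow (n := 2 ^ m) (pow_pos two_pos m) ?_
    rw [← map_pow, hval, map_one]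
    exact isIntegral_one
  -- the columns
  have hGcol : ∀ f f' : Φ, ∑ i, Γ i f * conj (Γ i f') =
      if f = f' then (Nat.card Q : ℂ) else 0 := by
    intro f f'
    have hne : ∀ g : Φ, Γ i₀ g ≠ 0 := fun g h => hne0 i₀ (x * (g : Q)) (by rw [hW, h, zero_mul])
    have h : ∑ i, W i i₀ (x * f) * conj (W i i₀ (x * f')) =
        conj (Γ i₀ f) * Γ i₀ f' * ∑ i, Γ i f * conj (Γ i f') := by
      rw [Finset.mul_sum]
      refine Finset.sum_congr rfl fun i _ => ?_
      rw [hW, hW, map_mul, Complex.conj_conj]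
      ring
    split_ifs with he
    · subst he
      rw [hcol, hW] at h
      refine mul_left_cancel₀ (mul_ne_zero ((map_ne_zero (starRingEnd ℂ)).2 (hne f)) (hne f)) ?_
      rw [← h]
      ring
    · have hd : ∀ q, x * (f' : Q) = q → q / x ∈ Φ := fun q hq => by
        rw [← hq, mul_div_cancel_left]
        exact f'.2
      rw [horth _ _ (fun h' => he (Subtype.ext (mul_left_cancel h').symm))
        (fun h' => hn1 ?_) (fun h' => hn2 ?_)] at h
      · exact (mul_eq_zero.1 h.symm).resolve_left (mul_ne_zero ((map_ne_zero (starRingEnd ℂ)).2 (hne f)) (hne f'))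
      · have h2 := Φ.mul_mem (Φ.inv_mem (hτΦ _ f.2)) (hd _ h')
        rwa [map_mul, mul_div_right_comm, inv_mul_eq_div, mul_div_cancel_right] at h2
      · have h2 := Φ.mul_mem (Φ.inv_mem (hτΦ _ (hτΦ _ f.2))) (hd _ h')
        rwa [map_mul, map_mul, mul_div_right_comm, inv_mul_eq_div, mul_div_cancel_right] at h2
  have hcolS : ∀ μ, ∑ i, c i μ * c i μ = 4 := by
    intro μ
    have hcoef : ∀ i, F * (c i μ : ℂ) = ∑ f : Φ, Γ i f * conj ((L μ x : ℂ) * (μ f : ℂ)) := by
      intro i
      simp only [Γ, Finset.sum_mul]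
      rw [Finset.sum_comm, Finset.sum_eq_single μ]
      · calc F * (c i μ : ℂ) = (c i μ : ℂ) * ((L μ x : ℂ) * conj (L μ x : ℂ)) *
            ∑ f : Φ, (μ f : ℂ) * conj (μ f : ℂ) := by
              rw [hnorm, sum_hom_mul_conj, if_pos rfl, hF]; ring
          _ = _ := by
              rw [Finset.mul_sum]
              exact Finset.sum_congr rfl fun f _ => by rw [map_mul]; ring
      · intro μ' _ hne
        calc _ = (c i μ' : ℂ) * ((L μ' x : ℂ) * conj (L μ x : ℂ)) *
            ∑ f : Φ, (μ' f : ℂ) * conj (μ f : ℂ) := by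
              rw [Finset.mul_sum]
              exact Finset.sum_congr rfl fun f _ => by rw [map_mul]; ring
          _ = 0 := by rw [sum_hom_mul_conj, if_neg hne, mul_zero]
      · exact fun h => absurd (Finset.mem_univ μ) h
    have h : F * F * ((∑ i, c i μ * c i μ : ℤ) : ℂ) = F * F * 4 := by
      set a : Φ → ℂ := fun f => (L μ x : ℂ) * (μ f : ℂ) with ha
      calc F * F * ((∑ i, c i μ * c i μ : ℤ) : ℂ)
          = ∑ i, (F * (c i μ : ℂ)) * conj (F * (c i μ : ℂ)) := by
            push_cast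
            rw [Finset.mul_sum]
            refine Finset.sum_congr rfl fun i _ => ?_
            rw [map_mul, map_intCast, hF, map_natCast]
            ring
        _ = ∑ f : Φ, ∑ f' : Φ, conj (a f) * a f' * ∑ i, Γ i f * conj (Γ i f') := by
            rw [Finset.sum_congr rfl fun i _ => by rw [hcoef, map_sum, Finset.sum_mul_sum],
              Finset.sum_comm]
            refine Finset.sum_congr rfl fun f _ => ?_
            rw [Finset.sum_comm]
            refine Finset.sum_congr rfl fun f' _ => ?_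
            rw [Finset.mul_sum]
            refine Finset.sum_congr rfl fun i _ => ?_
            simp only [a, map_mul, Complex.conj_conj]
            ring
        _ = ∑ f : Φ, (Nat.card Q : ℂ) := by
            refine Finset.sum_congr rfl fun f _ => ?_
            simp only [hGcol, mul_ite, mul_zero, Finset.sum_ite_eq, Finset.mem_univ, if_true]
            have h1 : (μ f : ℂ) * conj (μ f : ℂ) = 1 := by
              rw [conj_hom_apply, ← Units.val_mul, mul_inv_cancel, Units.val_one]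
            simp only [a, map_mul]
            linear_combination ((L μ x : ℂ) * conj (L μ x : ℂ) * (Nat.card Q : ℂ)) * h1 +
              (Nat.card Q : ℂ) * hnorm μ
        _ = F * F * 4 := by
            rw [Finset.sum_const, Finset.card_univ, nsmul_eq_mul, hN, hF,
              Nat.card_eq_fintype_card (α := Φ)]
            ring
    exact_mod_cast mul_left_cancel₀ (mul_ne_zero hF0 hF0) h
  have hcolcard : ∀ μ, (Finset.univ.filter fun i => μ ∈ S i).card = 4 := fun μ => by
    have h := hcolS μ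
    simp only [hcsq] at h
    have h' : (((Finset.univ.filter fun i => μ ∈ S i).card : ℕ) : ℤ) = 4 := by
      rw [← h]
      exact (Finset.sum_boole _ _).symm
    exact_mod_cast h'
  -- the automorphism on the characters of the squares
  let τΦ : Φ ≃* Φ :=
    { toFun := fun f => ⟨τ f, hτΦ _ f.2⟩
      invFun := fun f => ⟨τ (τ f), hτΦ _ (hτΦ _ f.2)⟩
      left_inv := fun f => Subtype.ext (h3 f)
      right_inv := fun f => Subtype.ext (h3 f)
      map_mul' := fun f g => Subtype.ext (map_mul τ (f : Q) (g : Q)) }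
  let τA : (Φ →* ℂˣ) ≃* (Φ →* ℂˣ) :=
    { toFun := fun μ => μ.comp τΦ.toMonoidHom
      invFun := fun μ => μ.comp τΦ.symm.toMonoidHom
      left_inv := fun μ => MonoidHom.ext fun f => by simp
      right_inv := fun μ => MonoidHom.ext fun f => by simp
      map_mul' := fun μ ν => rfl }
  have hτA : ∀ μ f, τA μ f = μ (τΦ f) := fun _ _ => rfl
  have hA3 : ∀ μ, τA (τA (τA μ)) = μ := fun μ => MonoidHom.ext fun f => by
    rw [hτA, hτA, hτA]
    exact congrArg μ (Subtype.ext (h3 _))
  have hAfree : ∀ μ, τA μ = μ → μ = 1 := by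
    intro μ hμ
    let ψ : Φ → Φ := fun f => τΦ f / f
    have hψ : Function.Injective ψ := fun a b h => by
      have h' : τΦ a / a = τΦ b / b := h
      rw [div_eq_div_iff_div_eq_div, ← map_div] at h'
      exact div_eq_one.1 (Subtype.ext (hfree _ (congrArg Subtype.val h')))
    refine MonoidHom.ext fun f => ?_
    obtain ⟨g, hg⟩ := (Finite.injective_iff_surjective.1 hψ) f
    rw [← hg, map_div, ← hτA, hμ, div_self', MonoidHom.one_apply]
  -- the integer twists
  have hE : ∀ i j (lam : Q →* ℂˣ), ∃ E : ℤ,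
      E % 2 = (TriParity.pc (S i) (S j) (res lam) : ℤ) % 2 ∧
      ∑ f : Φ, conj (lam (x * f) : ℂ) * W i j (x * f) = F * (E : ℂ) := by
    intro i j lam
    let σ : (Φ →* ℂˣ) × (Φ →* ℂˣ) → ℤ := fun q => c i q.1 * c j q.2 * sg (L q.1 / L q.2 / lam)
    refine ⟨∑ q ∈ (S i ×ˢ S j).filter (fun q => q.1 / q.2 = res lam), σ q, ?_, ?_⟩
    · rw [TriParity.pc]
      refine (sum_sub_modEq_card _ σ fun q hq => ?_).trans ?_
      obtain ⟨hq1, hq2⟩ := Finset.mem_filter.1 hq
      have hd : res (L q.1 / L q.2 / lam) = 1 := MonoidHom.ext fun f => by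
        show L q.1 (f : Q) / L q.2 (f : Q) / lam (f : Q) = 1
        rw [hL, hL, ← MonoidHom.div_apply, hq2]
        exact div_self' _
      simp only [σ]
      rw [Int.mul_emod, Int.mul_emod (c i q.1), hodd1 i _ (Finset.mem_product.1 hq1).1,
        hodd1 j _ (Finset.mem_product.1 hq1).2, (hsg _ hd).2]
      rfl
      congr 3
      ext
      simp
    · have hterm : ∀ f : Φ, conj (lam (x * f) : ℂ) * W i j (x * f) = ∑ μ ∈ S i, ∑ μ' ∈ S j,
          conj (lam (x * f) : ℂ) * ((c i μ : ℂ) * (L μ x : ℂ) * (μ f : ℂ) *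
            conj ((c j μ' : ℂ) * (L μ' x : ℂ) * (μ' f : ℂ))) := fun f => by
        rw [hW, hΓS, hΓS, map_sum, Finset.sum_mul_sum, Finset.mul_sum]
        simp only [Finset.mul_sum]
      rw [Finset.sum_congr rfl fun f _ => hterm f, Finset.sum_comm,
        Finset.sum_congr rfl fun μ _ => Finset.sum_comm]
      push_cast
      rw [Finset.mul_sum]
      conv_rhs => rw [Finset.sum_filter, Finset.sum_product]
      refine Finset.sum_congr rfl fun μ _ => Finset.sum_congr rfl fun μ' _ => ?_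
      calc _ = (c i μ : ℂ) * (c j μ' : ℂ) *
            ((L μ x : ℂ) * conj (L μ' x : ℂ) * conj (lam x : ℂ)) *
            ∑ f : Φ, ((μ / μ') f : ℂ) * conj ((res lam) f : ℂ) := by
            rw [Finset.mul_sum]
            refine Finset.sum_congr rfl fun f _ => ?_
            have h1 : ((μ / μ') f : ℂ) = (μ f : ℂ) * conj (μ' f : ℂ) := by
              rw [conj_hom_apply, MonoidHom.div_apply, div_eq_mul_inv, Units.val_mul]
            rw [h1]
            simp only [map_mul, map_intCast, Units.val_mul, res, MonoidHom.comp_apply,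
              Subgroup.coe_subtype]
            ring
        _ = _ := by
            rw [sum_hom_mul_conj]
            split_ifs with hq
            · have hd : res (L μ / L μ' / lam) = 1 := MonoidHom.ext fun f => by
                show L μ (f : Q) / L μ' (f : Q) / lam (f : Q) = 1
                rw [hL, hL, ← MonoidHom.div_apply, hq]
                exact div_self' _
              simp only [σ, Int.cast_mul, (hsg _ hd).1, MonoidHom.div_apply, div_eq_mul_inv,
                Units.val_mul, conj_hom_apply, hF]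
              ring
            · rw [mul_zero]
  -- the sign character
  obtain ⟨κ, hκΦ, hκx, hκτ⟩ : ∃ κ : Q →* ℂˣ, (∀ f ∈ Φ, κ f = 1) ∧ (κ x : ℂ) = -1 ∧ κ (τ x) = 1 := by
    let K : Subgroup Q := (Subgroup.zpowers (QuotientGroup.mk' Φ (τ x))).comap (QuotientGroup.mk' Φ)
    have hΦK : ∀ f ∈ Φ, f ∈ K := fun f hf => by
      show (QuotientGroup.mk' Φ f) ∈ Subgroup.zpowers (QuotientGroup.mk' Φ (τ x))
      rw [show QuotientGroup.mk' Φ f = 1 from (QuotientGroup.eq_one_iff f).2 hf]
      exact one_mem _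
    have hxK : x ∉ K := by
      intro hx
      obtain ⟨k, hk⟩ := Subgroup.mem_zpowers_iff.1 (Subgroup.mem_comap.1 hx)
      have hsq : (QuotientGroup.mk' Φ (τ x)) ^ (2 : ℤ) = 1 := by
        rw [show (2 : ℤ) = ((2 : ℕ) : ℤ) from rfl, zpow_natCast, ← map_pow]
        exact (QuotientGroup.eq_one_iff _).2 ⟨τ x, rfl⟩
      obtain ⟨l, hl | hl⟩ := Int.even_or_odd' k
      · rw [hl, zpow_mul, hsq, one_zpow] at hk
        exact hxΦ ((QuotientGroup.eq_one_iff x).1 hk.symm)
      · rw [hl, zpow_add, zpow_mul, hsq, one_zpow, one_mul, zpow_one] at hk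
        exact hn1 (QuotientGroup.eq_iff_div_mem.1 hk)
    haveI : NeZero (Monoid.exponent (Q ⧸ K) : ℂ) :=
      ⟨Nat.cast_ne_zero.2 Monoid.exponent_ne_zero_of_finite⟩
    obtain ⟨κ', hκ'⟩ := CommGroup.exists_apply_ne_one_of_hasEnoughRootsOfUnity (Q ⧸ K) ℂ
      (a := QuotientGroup.mk' K x) fun h => hxK ((QuotientGroup.eq_one_iff x).1 h)
    have hKone : ∀ q ∈ K, κ'.comp (QuotientGroup.mk' K) q = 1 := fun q hq => by
      rw [MonoidHom.comp_apply, show QuotientGroup.mk' K q = 1 from (QuotientGroup.eq_one_iff q).2 hq,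
        map_one]
    refine ⟨κ'.comp (QuotientGroup.mk' K), fun f hf => hKone f (hΦK f hf), ?_,
      hKone _ (Subgroup.mem_zpowers _)⟩
    refine (hsign _ (MonoidHom.ext fun f => hKone _ (hΦK _ f.2))).resolve_left fun h => hκ' ?_
    exact Units.ext h
  have hcomp : ∀ i j, TriParity.Compat τA (S i) (S j) := by
    intro i j ν
    -- it suffices to move `τA ν` by the square
    have hmain : ∀ lam : Q →* ℂˣ, (TriParity.pc (S i) (S j) (res lam) +
        TriParity.pc (S i) (S j) (τA (τA (res lam)))) % 2 = 0 := by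
      intro lam
      let lam' : Q →* ℂˣ := lam.comp (τ.toMonoidHom.comp τ.toMonoidHom)
      have hres : res lam' = τA (τA (res lam)) := MonoidHom.ext fun f => rfl
      obtain ⟨E₁, hE₁, hE₁'⟩ := hE i j lam
      obtain ⟨E₂, hE₂, hE₂'⟩ := hE i j lam'
      rw [hres] at hE₂
      let η₀ : Q → ℂ := fun u => (lam⁻¹ u : ℂ) * (1 - (κ u : ℂ))
      let η : Q → ℂ := fun u => η₀ u + η₀ (τ u) + η₀ (τ (τ u))
      obtain ⟨z, hz⟩ := hint η (by simp [η, η₀]) (fun u => by simp only [η, h3]; ring)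
        ⟨6, ![lam⁻¹, lam⁻¹ * κ, lam⁻¹.comp τ.toMonoidHom, (lam⁻¹ * κ).comp τ.toMonoidHom,
            lam⁻¹.comp (τ.toMonoidHom.comp τ.toMonoidHom),
            (lam⁻¹ * κ).comp (τ.toMonoidHom.comp τ.toMonoidHom)],
          ![1, -1, 1, -1, 1, -1], fun u => by
            simp [η, η₀, Fin.sum_univ_succ]
            ring⟩ i j
      have e3 : ∑ u, η u * W i j u = 3 * ∑ u, η₀ u * W i j u := by
        have h1 : ∀ g : Q → ℂ, (∀ u, g (τ u) = g u) → ∀ h : Q → ℂ,
            ∑ u, h (τ u) * g u = ∑ u, h u * g u := fun g hg h => by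
          rw [← Equiv.sum_comp τ.toEquiv (fun u => h u * g u)]
          exact Finset.sum_congr rfl fun u _ => by rw [MulEquiv.toEquiv_eq_coe, MulEquiv.coe_toEquiv, hg]
        simp only [η, add_mul, Finset.sum_add_distrib]
        rw [h1 _ (hinv i j) fun u => η₀ (τ u), h1 _ (hinv i j) η₀]
        ring
      have hκ2 : κ (τ (τ x)) = -1 := by
        have h := congrArg κ hprod
        rw [map_mul, map_mul, hκτ, mul_one, map_one] at h
        apply Units.ext
        have h' := congrArg Units.val h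
        rw [Units.val_mul, hκx, Units.val_one, neg_one_mul, neg_eq_iff_eq_neg] at h'
        rw [h', Units.val_neg, Units.val_one]
      have e4 : ∑ u, η₀ u * W i j u = 2 * (F * (E₁ : ℂ)) + 2 * (F * (E₂ : ℂ)) := by
        rw [hsplit, ← hE₁', ← hE₂', Finset.mul_sum, Finset.mul_sum]
        have z1 : ∑ f : Φ, η₀ f * W i j f = 0 :=
          Finset.sum_eq_zero fun f _ => by simp [η₀, hκΦ _ f.2]
        have z2 : ∑ f : Φ, η₀ (τ (x * f)) * W i j (τ (x * f)) = 0 :=
          Finset.sum_eq_zero fun f _ => by simp [η₀, hκτ, hκΦ _ (hτΦ _ f.2)]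
        rw [z1, z2, zero_add, add_zero]
        refine congrArg₂ (· + ·) (Finset.sum_congr rfl fun f _ => ?_)
          (Finset.sum_congr rfl fun f _ => ?_)
        · simp only [η₀, map_mul, hκΦ _ f.2, mul_one, hκx, MonoidHom.inv_apply, Units.val_mul,
            conj_hom_apply, mul_inv]
          ring
        · rw [hinv (i := i) (j := j), hinv (i := i) (j := j)]
          simp only [η₀, map_mul, mul_inv, hκΦ _ (hτΦ _ (hτΦ _ f.2)), hκ2, MonoidHom.inv_apply,
            Units.val_mul, Units.val_neg, Units.val_one, conj_hom_apply, lam',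
            MonoidHom.comp_apply, MulEquiv.coe_toMonoidHom]
          ring
      have h2z : ((2 * z : ℤ) : ℂ) = ((E₁ + E₂ : ℤ) : ℂ) := by
        rw [e3, e4, hN] at hz
        refine mul_left_cancel₀ (mul_ne_zero (by norm_num : (6 : ℂ) ≠ 0) hF0) ?_
        push_cast
        linear_combination hz
      have h2z' : 2 * z = E₁ + E₂ := by exact_mod_cast h2z
      omega
    have h := hmain (L (τA ν))
    rw [hresL, hA3] at h
    omega
  -- exponents and involutions
  haveI : NeZero (Monoid.exponent Φ : ℂ) :=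
    ⟨Nat.cast_ne_zero.2 Monoid.exponent_ne_zero_of_finite⟩
  obtain ⟨iso⟩ := CommGroup.monoidHom_mulEquiv_of_hasEnoughRootsOfUnity Φ ℂ
  have h2A : ∃ j : ℕ, ∀ μ : Φ →* ℂˣ, μ ^ 2 ^ j = 1 := ⟨m, fun μ =>
    iso.injective (by rw [map_pow, map_one]; exact Subtype.ext (hexp _))⟩
  have hV := klein_of_card_le (A := Φ →* ℂˣ) (le_trans (Nat.card_le_card_of_injective
    (fun w : {w : Φ →* ℂˣ // w ^ 2 = 1} => (⟨(iso w.1 : Q), by
      rw [MonoidHom.mem_ker, powMonoidHom_apply, ← SubmonoidClass.coe_pow, ← map_pow, w.2, map_one,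
        OneMemClass.coe_one]⟩ : (powMonoidHom 2 : Q →* Q).ker))
    fun a b hab => Subtype.ext (iso.injective (Subtype.ext (congrArg Subtype.val hab :)))) h4)
  obtain ⟨μ₀, hμ₀⟩ := TriParity.exists_translate hA3 hAfree h2A hV S hcardS' ⟨i₀, hoddc⟩
    (fun μ => by
      obtain ⟨i, hi⟩ := Finset.card_pos.1 (show 0 < (Finset.univ.filter fun i => μ ∈ S i).card by
        rw [hcolcard]; norm_num)
      exact ⟨i, (Finset.mem_filter.1 hi).2⟩) hcomp
  -- the count
  have htot : ∑ i, (S i).card = Nat.card Q := by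
    rw [← h4Φ, ← CommGroup.card_monoidHom_of_hasEnoughRootsOfUnity Φ ℂ, Nat.card_eq_fintype_card,
      mul_comm, ← smul_eq_mul, ← Finset.card_univ, ← Finset.sum_const]
    calc ∑ i, (S i).card = ∑ i, ∑ μ, if μ ∈ S i then 1 else 0 :=
          Finset.sum_congr rfl fun i _ => by simp
      _ = _ := by
          rw [Finset.sum_comm]
          exact Finset.sum_congr rfl fun μ _ => by rw [Finset.sum_boole, hcolcard]; rfl
  have hcnt : ∑ i, (S i).card + 2 * 4 = 3 * Fintype.card ι := by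
    calc ∑ i, (S i).card + 2 * 4
        = ∑ i, ((S i).card + 2 * if μ₀ ∈ S i then 1 else 0) := by
          rw [Finset.sum_add_distrib, ← Finset.mul_sum, Finset.sum_boole, hcolcard μ₀]; rfl
      _ = ∑ _i : ι, 3 := Finset.sum_congr rfl fun i _ => by
          by_cases h : μ₀ ∈ S i
          · rw [(hμ₀ i).1 h, if_pos h]
          · rw [(hμ₀ i).2 h, if_neg h]
      _ = _ := by rw [Finset.sum_const, Finset.card_univ, smul_eq_mul, mul_comm]
  omega

end CfsgLib.BlockRank.Homocyclic
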