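import Cfsg.Agent.Lib.BlockStar.Nilpotent
import Cfsg.Agent.Lib.BlockRank.NilpotentAbelian
import Cfsg.Agent.Lib.Blocks.Pairs.SubTransport
import Cfsg.Agent.Lib.BlockPrincipal.Alperin
import Mathlib.Algebra.MonoidAlgebra.MapDomain

/-!
# The weights of a block on a sector with nilpotent local block

If the block of the centralizer of `t ∈ P` below a maximal pair `(P, e)` has inner fusion, the
weights at the elements `z` of `P` with `t` among their powers are the products of the values at
`z` of virtual characters of `P`, one for each character of the block.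
-/

set_option autoImplicit false
set_option maxHeartbeats 1000000
set_option synthInstance.maxHeartbeats 400000

namespace CfsgLib.BlockRank

open Cfsg CfsgLib.Blocks CfsgLib.Blocks.Pairs
open CfsgLib.BlockStar CfsgLib.BlockReg
open scoped Classical ComplexConjugate

universe u

variable {G : Type u} [Group G] [Finite G] {p : ℕ} [Fact p.Prime] {M : Ideal AlgInt} [M.IsMaximal]

/-- The value of a class function at a block of the subgroup. -/
theorem val_restrict (hM : IsPModular p M) {θ : G → ℂ} (hθ : IsClassFunction G θ) {H : Subgroup G}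
    (h : H) {a : MonoidAlgebra (ResField M) H}
    (ha : a ∈ fixAlg (ResField M) (Subgroup.zpowers h)) (hai : a * a = a) :
    val M θ (h : G) (up H a) = val M (fun c : H => θ c) h a := by
  haveI := Fintype.ofFinite G
  haveI := Fintype.ofFinite H
  obtain ⟨b, hb, hbi, hbr⟩ := exists_idem_lift ha hai
  let ι : MonoidAlgebra (locRing M) H →+* MonoidAlgebra (locRing M) G :=
    MonoidAlgebra.mapDomainRingHom (locRing M) H.subtype
  have hcoe : ∀ (x : MonoidAlgebra (locRing M) H) (k : H), (ι x).coeff (k : G) = x.coeff k :=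
    fun x k => by
      show (MonoidAlgebra.mapDomain H.subtype x).coeff (H.subtype k) = _
      rw [MonoidAlgebra.coeff_mapDomain, Finsupp.mapDomain_apply H.subtype_injective]
  have hout : ∀ (x : MonoidAlgebra (locRing M) H) (g : G), g ∉ H → (ι x).coeff g = 0 :=
    fun x g hg => by
      show (MonoidAlgebra.mapDomain H.subtype x).coeff g = _
      rw [MonoidAlgebra.coeff_mapDomain, Finsupp.mapDomain_of_notMem_range]
      rintro ⟨k, rfl⟩
      exact hg k.2
  have hred : redA M (ι b) = up H a := by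
    ext g
    rw [coeff_redA]
    by_cases hg : g ∈ H
    · rw [show g = ((⟨g, hg⟩ : H) : G) from rfl, hcoe, coeff_up_coe, ← hbr, coeff_redA]
    · rw [hout _ g hg, map_zero, up_suppIn H a g hg]
  have hfix : ι b ∈ fixAlg (locRing M) (Subgroup.zpowers (h : G)) := by
    refine mem_fixAlg_zpowers fun x => ?_
    by_cases hx : x ∈ H
    · have h1 := mem_fixAlg.1 hb h (Subgroup.mem_zpowers h) ⟨x, hx⟩
      rw [← hcoe, ← hcoe] at h1
      exact h1
    · rw [hout _ x hx, hout]
      intro hc
      refine hx ?_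
      have := H.mul_mem (H.mul_mem (H.inv_mem h.2) hc) h.2
      simpa [mul_assoc] using this
  have hm : up H a ∈ fixAlg (ResField M) (Subgroup.zpowers (h : G)) := hred ▸ redA_mem hfix
  have hcl : IsClassFunction H fun c : H => θ c := fun c d => by
    simpa using hθ (c : G) (d : G)
  rw [val_eq hM hθ hm (by rw [← up_mul, hai]) hfix (by rw [← map_mul, hbi]) (by rw [img, hred]),
    val_eq hM hcl ha hai hb hbi (by rw [img, hbr]), lin_mul_single, lin_mul_single]
  refine (Finset.sum_bij_ne_zero (fun (k : H) _ _ => (k : G)) (fun _ _ _ => Finset.mem_univ _)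
    (fun _ _ _ _ _ _ e => Subtype.ext e) (fun g _ hg => ?_) (fun k _ _ => ?_)).symm
  · have hgH : g ∈ H := by
      by_contra hg'
      exact hg (by rw [hout _ g hg']; simp)
    refine ⟨⟨g, hgH⟩, Finset.mem_univ _, ?_, rfl⟩
    rwa [show g = ((⟨g, hgH⟩ : H) : G) from rfl, hcoe] at hg
  · rw [hcoe]
    rfl

theorem pp_coe {H : Subgroup G} (h : H) : pp p (h : G) = (pp p h : H) := by
  obtain ⟨y, hy, hc, ⟨k, hk⟩, hr⟩ := isPPart_pp (p := p) h
  refine pp_eq ⟨(y : G), congrArg Subtype.val hy, hc.map H.subtype, ⟨k, ?_⟩, ?_⟩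
  · rw [Subgroup.orderOf_coe, hk]
  · rwa [Subgroup.orderOf_coe]

/-- The section sums at an element whose centralizer lies in the subgroup. -/
theorem secSum_restrict (hM : IsPModular p M) {θ θ' : G → ℂ} (hθ : IsClassFunction G θ)
    (hθ' : IsClassFunction G θ') {H : Subgroup G} (z : H)
    (hle : Subgroup.centralizer (Subgroup.zpowers (z : G) : Set G) ≤ H)
    {b : MonoidAlgebra (ResField M) H}
    (hb : b ∈ blks (F := ResField M) (Subgroup.centralizer (Subgroup.zpowers z : Set H))) :
    secSum p M θ θ' (z : G) (up H b) = secSum p M (fun c : H => θ c) (fun c : H => θ' c) z b := by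
  haveI := Fintype.ofFinite G
  haveI := Fintype.ofFinite H
  rw [secSum, secSum]
  refine (Finset.sum_bij (fun (h : H) _ => (h : G)) (fun h hh => ?_)
    (fun _ _ _ _ e => Subtype.ext e) (fun g hg => ?_) (fun h hh => ?_)).symm
  · simp only [Finset.mem_filter, Finset.mem_univ, true_and] at hh ⊢
    rw [pp_coe, hh]
  · simp only [Finset.mem_filter, Finset.mem_univ, true_and] at hg ⊢
    have hgH : g ∈ H := by
      refine hle ?_
      rw [CfsgLib.Blocks.mem_centralizer_zpowers_iff, ← hg]
      obtain ⟨n, hn⟩ := Subgroup.mem_zpowers_iff.1 (pp_mem_zpowers (p := p) g)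
      exact hn ▸ (Commute.refl g).zpow_right n
    refine ⟨⟨g, hgH⟩, Subtype.ext ?_, rfl⟩
    rw [← pp_coe]
    exact hg
  · simp only [Finset.mem_filter, Finset.mem_univ, true_and] at hh
    obtain ⟨hm, hi⟩ := mem_blk_fixAlg (p := p) (h := h) (b := b) (by rwa [hh])
    rw [val_restrict hM hθ h hm hi, val_restrict hM hθ' h hm hi]

/-- A section sum with the first function taken whole. -/
theorem secSum_eq_left (hM : IsPModular p M) {θ ψ : G → ℂ} (hθ : IsClassFunction G θ)
    (hψ : IsClassFunction G ψ) {z : G} (hz : ∃ k : ℕ, orderOf z = p ^ k)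
    {f : MonoidAlgebra (ResField M) G}
    (hf : f ∈ blks (F := ResField M) (Subgroup.centralizer (Subgroup.zpowers z : Set G)))
    [Fintype G] :
    secSum p M θ ψ z f =
      ∑ h ∈ Finset.univ.filter (fun h => pp p h = z), θ h * conj (val M ψ h f) := by
  haveI := charP_resField (M := M) hM.1 hM.2.2
  set bs := blks (F := ResField M) (Subgroup.centralizer (Subgroup.zpowers z : Set G)) with hbs
  have hexp : ∀ h ∈ Finset.univ.filter (fun h : G => pp p h = z),
      θ h = ∑ b ∈ bs, val M θ h b := by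
    intro h hh
    have hz := (Finset.mem_filter.1 hh).2
    subst hz
    conv_lhs => rw [← val_one hM hθ h, ← sum_blks (F := ResField M)
      (Subgroup.centralizer (Subgroup.zpowers (pp p h) : Set G)),
      (val_sum hM hθ bs (fun b hb => mem_blk_fixAlg hb) fun b hb c hc hne =>
        (mem_blks.1 hb).mul_eq_zero (mem_blks.1 hc) hne).1]
  rw [Finset.sum_congr rfl fun h hh => by rw [hexp h hh, Finset.sum_mul], Finset.sum_comm,
    Finset.sum_eq_single f]
  · rw [secSum]
    exact Finset.sum_congr (by ext; simp) fun _ _ => rfl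
  · exact fun b hb hne => sum_val_mul_conj_eq_zero hM hθ hψ hz hb hf hne
  · exact fun h => absurd hf h

theorem conj_secSum (θ ψ : G → ℂ) (z : G) (f : MonoidAlgebra (ResField M) G) :
    conj (secSum p M θ ψ z f) = secSum p M ψ θ z f := by
  simp only [secSum, map_sum, map_mul, Complex.conj_conj]
  exact Finset.sum_congr rfl fun _ _ => mul_comm _ _

section Local

variable [Fintype G] {P : Subgroup G} {e : MonoidAlgebra (ResField M) G} {B : Set (IrrCharacter G)}

/-- In a block with inner fusion and commutative `P` the section sums are virtual characters of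
`P` times a constant. -/
theorem exists_secSum_eq (hM : IsPModular p M) (hB : IsPBlock M B)
    (hP : PairOf p (ebar hB) P e) (hno : NoExt p P e) (hfus : InnerFusion p P e)
    (hab : ∀ x ∈ P, ∀ y ∈ P, x * y = y * x) {χ₀ : IrrCharacter G} (hχ₀ : χ₀ ∈ B)
    (hmin : (charDegree (χ₀ : G → ℂ)).factorization p = minExp p B) (θ : G → ℂ)
    (hθ : IsCharacter G θ) :
    ∃ n : (P →* ℂˣ) → ℤ, ∀ z : P, ∀ ψ : G → ℂ, IsClassFunction G ψ →
      secSum p M θ ψ (z : G) (bel p P e z) =
        (∑ᶠ lam : P →* ℂˣ, (n lam : ℂ) * (lam z : ℂ)) *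
          secSum p M (χ₀ : G → ℂ) ψ (z : G) (bel p P e z) := by
  haveI := charP_resField (M := M) hM.1 hM.2.2
  haveI : Finite (P →* ℂˣ) :=
    Finite.of_injective _ (CfsgLib.Char.linearCharEquiv (G := P)).injective
  haveI := Fintype.ofFinite (P →* ℂˣ)
  have hθc := CfsgLib.Char.IsCharacter.isClassFunction hθ
  obtain ⟨Φ, hΦ, -⟩ := exists_equiv_of_innerFusion hM hB hP hno hfus hχ₀ hmin
  have hlin : ∀ lam : IrrCharacter P, ∃ f : P →* ℂˣ, ∀ v, (lam : P → ℂ) v = (f v : ℂ) :=
    fun lam => CfsgLib.Char.IsCharacter.exists_linear (CfsgLib.Char.IsIrrCharacter.isCharacter lam.2)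
      (CfsgLib.PrincipalCover.irr_apply_one_of_comm (fun a b => Subtype.ext (hab _ a.2 _ b.2)) lam.2)
  choose L hL using hlin
  have hcoef : ∀ ξ : IrrCharacter G, ∃ m : ℕ, classInner θ (ξ : G → ℂ) = m := fun ξ =>
    CfsgLib.Char.IsCharacter.exists_nat_classInner' hθ (CfsgLib.Char.IsIrrCharacter.isCharacter ξ.2)
  choose m hm using hcoef
  refine ⟨fun f => ∑ lam ∈ Finset.univ.filter (fun lam => L lam = f),
    (m (Φ lam : IrrCharacter G) : ℤ), fun z ψ hψ => ?_⟩
  rw [finsum_eq_sum_of_fintype]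
  have hs := bel_spec hM hP.pair z.2
  set f := bel p P e (z : G) with hf
  have hfb : f ∈ blks (F := ResField M)
      (Subgroup.centralizer (Subgroup.zpowers (z : G) : Set G)) :=
    mem_blks.2 (hs.pair_left hP.pair).block
  have hfB : PairOf p (ebar hB) (Subgroup.zpowers (z : G)) f := (SLE.pairOf_iff hs).1 hP
  have hz : ∃ k : ℕ, orderOf (z : G) = p ^ k := by
    obtain ⟨k, hk⟩ := IsPGroup.iff_orderOf.1 hP.pair.pgroup z
    exact ⟨k, by rw [Subgroup.orderOf_coe, hk]⟩
  let S : (G → ℂ) → ℂ := fun η =>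
    ∑ h ∈ Finset.univ.filter (fun h => pp p h = (z : G)), η h * conj (val M ψ h f)
  have hS : ∀ η : G → ℂ, IsClassFunction G η → secSum p M η ψ (z : G) f = S η :=
    fun η hη => secSum_eq_left hM hη hψ hz hfb
  -- the characters outside the block
  have hout : ∀ ξ : IrrCharacter G, ξ ∉ B → S (ξ : G → ℂ) = 0 := by
    intro ξ hξ
    obtain ⟨B', hB', hξ'⟩ : ∃ B' : Set (IrrCharacter G), IsPBlock M B' ∧ ξ ∈ B' :=
      ⟨_, ⟨ξ, rfl⟩, mem_blockOf_self ξ⟩
    have hne : B' ≠ B := fun h => hξ (h ▸ hξ')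
    rw [← hS _ (CfsgLib.Char.IsIrrCharacter.isClassFunction ξ.2), secSum]
    refine Finset.sum_eq_zero fun h hh => ?_
    have hzh := (Finset.mem_filter.1 hh).2
    have hp' : ¬ PairOf p (ebar hB') (Subgroup.zpowers (pp p h)) f := fun h2 =>
      hne (ebar_injective hB' hB ((existsUnique_pairOf hfB.pair).unique (hzh ▸ h2) hfB))
    have h0 := val_eq_zero_of_not_pairOf hM hB' hξ' (h := h) (one_mem _) (one_mul _)
      (hzh.symm ▸ hfb) hp'
    rw [trunc_one, one_mul] at h0
    rw [h0, zero_mul]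
  -- the characters of the block
  have hin : ∀ lam : IrrCharacter P, S ((Φ lam : IrrCharacter G) : G → ℂ) =
      (L lam z : ℂ) * secSum p M (χ₀ : G → ℂ) ψ (z : G) f := by
    intro lam
    set bs := blks (F := ResField M) (Subgroup.centralizer (Subgroup.zpowers (z : G) : Set G))
    have hexp : ∀ h ∈ Finset.univ.filter (fun h : G => pp p h = (z : G)),
        ((Φ lam : IrrCharacter G) : G → ℂ) h = ∑ b ∈ bs,
          pairVal p P e (extendByZero P (lam : P → ℂ)) (z : G) b * val M (χ₀ : G → ℂ) h b := by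
      intro h hh
      have := (Finset.mem_filter.1 hh).2
      rw [hΦ lam]
      simp only [CfsgLib.BlockStar.star, starAt, this, trunc_one, one_mul, bs]
    simp only [S]
    rw [Finset.sum_congr rfl fun h hh => by rw [hexp h hh, Finset.sum_mul], Finset.sum_comm,
      Finset.sum_eq_single f]
    · have hp : pairVal p P e (extendByZero P (lam : P → ℂ)) (z : G) f = (L lam z : ℂ) := by
        rw [pairVal_eq (stable_extendByZero hfus
          (CfsgLib.Char.IsIrrCharacter.isClassFunction lam.2)) (g := 1)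
          (by rwa [conjSub_one, conjA_one]), one_mul, inv_one, mul_one, extendByZero_coe, hL]
      rw [hp, secSum, Finset.mul_sum]
      exact Finset.sum_congr (by ext; simp) fun h _ => mul_assoc _ _ _
    · intro b hb hne
      calc _ = pairVal p P e (extendByZero P (lam : P → ℂ)) (z : G) b *
            ∑ h ∈ Finset.univ.filter (fun h => pp p h = (z : G)),
              val M (χ₀ : G → ℂ) h b * conj (val M ψ h f) := by
            rw [Finset.mul_sum]
            exact Finset.sum_congr rfl fun h _ => mul_assoc _ _ _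
        _ = 0 := by
          rw [sum_val_mul_conj_eq_zero hM (CfsgLib.Char.IsIrrCharacter.isClassFunction χ₀.2) hψ
            hz hb hfb hne, mul_zero]
    · exact fun h => absurd hfb h
  have hdec : S θ = ∑ ξ : IrrCharacter G, (m ξ : ℂ) * S (ξ : G → ℂ) := by
    simp only [S, Finset.mul_sum]
    rw [Finset.sum_comm]
    refine Finset.sum_congr rfl fun h _ => ?_
    conv_lhs => rw [CfsgLib.Char.IsClassFunction.eq_sum_classInner hθc, Finset.sum_apply,
      Finset.sum_mul]
    exact Finset.sum_congr rfl fun ξ _ => by rw [Pi.smul_apply, smul_eq_mul, hm, mul_assoc]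
  rw [hS θ hθc, hdec, ← Finset.sum_subset (Finset.subset_univ
    (Finset.univ.image fun lam : IrrCharacter P => (Φ lam : IrrCharacter G))) (fun ξ _ hξ => by
      rw [hout ξ fun hB' => hξ (Finset.mem_image.2 ⟨Φ.symm ⟨ξ, hB'⟩, Finset.mem_univ _,
        by rw [Equiv.apply_symm_apply]⟩), mul_zero]),
    Finset.sum_image fun a _ b _ hab' => Φ.injective (Subtype.ext hab'),
    ← Finset.sum_fiberwise Finset.univ L, Finset.sum_mul]
  refine Finset.sum_congr rfl fun g _ => ?_
  push_cast
  rw [Finset.sum_mul, Finset.sum_mul]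
  refine Finset.sum_congr rfl fun lam hl => ?_
  rw [hin, (Finset.mem_filter.1 hl).2, mul_assoc]

end Local

variable [CharP (ResField M) p]

/-- The weights on the sector of `t`. -/
theorem exists_sector_virtual (hM : IsPModular p M) {B : Set (IrrCharacter G)} (hB : IsPBlock M B)
    {P : Subgroup G} {e : MonoidAlgebra (ResField M) G}
    (hP : PairOf p (ebar hB) P e) (hno : NoExt p P e) (hab : ∀ x ∈ P, ∀ y ∈ P, x * y = y * x)
    {t : G} (ht : t ∈ P)
    (hfix : ∀ y ∈ pairStab P e, y * t * y⁻¹ = t → y ∈ Subgroup.centralizer (P : Set G)) :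
    ∃ n : IrrCharacter G → (P →* ℂˣ) → ℤ, ∀ χ ψ : IrrCharacter G, ∀ z : P,
      t ∈ Subgroup.zpowers (z : G) → wt p M P e (χ : G → ℂ) (ψ : G → ℂ) z =
        (∑ᶠ lam : P →* ℂˣ, (n χ lam : ℂ) * (lam z : ℂ)) *
          conj (∑ᶠ lam : P →* ℂˣ, (n ψ lam : ℂ) * (lam z : ℂ)) := by
  haveI := Fintype.ofFinite G
  have hts := bel_spec hM hP.pair ht
  obtain ⟨H, hH⟩ : ∃ H : Subgroup G,
      H = Subgroup.centralizer (Subgroup.zpowers t : Set G) := ⟨_, rfl⟩
  obtain ⟨hQ, hnoQ, hst⟩ := local_pair hH hP hno hab hts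
  haveI := Fintype.ofFinite H
  obtain ⟨B', hB', hBe⟩ := exists_ebar_eq hQ.blockB
  rw [← hBe] at hQ
  set P' := P.subgroupOf H with hP'
  set e' := down H e with he'
  have hPH : P ≤ H := fun x hx => hH ▸
    Subgroup.mem_centralizer_iff.2 fun q hq => hab q (hts.le hq) x hx
  have hCH : Subgroup.centralizer (P : Set G) ≤ H := hH ▸ centralizer_anti hts.le
  have hab' : ∀ x ∈ P', ∀ y ∈ P', x * y = y * x := fun x hx y hy =>
    Subtype.ext (hab _ hx _ hy)
  have htriv : pairStab P' e' ≤ Subgroup.centralizer (P' : Set H) := by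
    intro y hy
    have hyt : (y : G) * t * (y : G)⁻¹ = t := by
      rw [← Subgroup.mem_centralizer_iff.1 (hH ▸ y.2 : (y : G) ∈ Subgroup.centralizer
        (Subgroup.zpowers t : Set G)) t (Subgroup.mem_zpowers t), mul_inv_cancel_right]
    exact Subgroup.mem_centralizer_iff.2 fun a ha => Subtype.ext
      (Subgroup.mem_centralizer_iff.1 (hfix _ (hst y hy) hyt) (a : G) ha)
  have hfus : InnerFusion p P' e' := by
    intro u _ g f h1 h2
    refine ⟨1, one_mem _, ?_⟩
    rw [conj_eq_of_sle hM hQ hnoQ hab' htriv h1 h2 (Subgroup.mem_zpowers u), inv_one, mul_one,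
      one_mul]
  obtain ⟨ξ₀, hξ₀, hmin⟩ := CfsgLib.BlockReg.exists_minExp (p := p)
    (CfsgLib.BlockReg.block_nonempty hM hB')
  have hn := fun χ : IrrCharacter G => exists_secSum_eq hM hB' hQ hnoQ hfus hab' hξ₀ hmin
    (fun c : H => (χ : G → ℂ) c)
    (CfsgLib.Char.IsCharacter.restrict (CfsgLib.Char.IsIrrCharacter.isCharacter χ.2) H)
  choose n hn using hn
  let ε : P ≃* P' := (Subgroup.subgroupOfEquivOfLe hPH).symm
  haveI : Finite (P →* ℂˣ) :=
    Finite.of_injective _ (CfsgLib.Char.linearCharEquiv (G := P)).injective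
  haveI : Finite (P' →* ℂˣ) :=
    Finite.of_injective _ (CfsgLib.Char.linearCharEquiv (G := P')).injective
  refine ⟨fun χ lam => n χ (lam.comp ε.symm.toMonoidHom), fun χ ψ z hz => ?_⟩
  have hsum : ∀ χ : IrrCharacter G,
      (∑ᶠ lam : P →* ℂˣ, (n χ (lam.comp ε.symm.toMonoidHom) : ℂ) * (lam z : ℂ)) =
        ∑ᶠ mu : P' →* ℂˣ, (n χ mu : ℂ) * (mu (ε z) : ℂ) := by
    intro χ
    refine finsum_eq_of_bijective (fun lam : P →* ℂˣ => lam.comp ε.symm.toMonoidHom) ?_
      fun lam => by simp
    refine ⟨fun a b h => MonoidHom.ext fun v => ?_, fun mu => ⟨mu.comp ε.toMonoidHom,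
      MonoidHom.ext fun v => by simp⟩⟩
    have := congrArg (fun f : P' →* ℂˣ => f (ε v)) h
    simpa using this
  rw [hsum, hsum]
  -- the sections in `H`
  set z' : P' := ε z
  have hzv : ((z' : H) : G) = (z : G) := rfl
  set zH : H := (z' : H)
  have hbs := bel_spec hM hQ.pair z'.2
  set b := bel p P' e' zH with hb
  have hbb : b ∈ blks (F := ResField M) (Subgroup.centralizer (Subgroup.zpowers zH : Set H)) :=
    mem_blks.2 (hbs.pair_left hQ.pair).block
  have hmap : (Subgroup.zpowers zH).map H.subtype = Subgroup.zpowers (z : G) :=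
    (MonoidHom.map_zpowers _ _).trans rfl
  have hCz : Subgroup.centralizer (Subgroup.zpowers (z : G) : Set G) ≤ H := hH ▸
    centralizer_anti (Subgroup.zpowers_le.2 hz)
  have hbel : bel p P e (z : G) = up H b := by
    refine bel_eq hM hP.pair ?_
    have h1 := hbs.up_of_le (by rw [hmap]; exact hCz)
    rwa [hmap, hP', Subgroup.map_subgroupOf_eq_of_le hPH, he',
      up_down (hP.pair.block.mem.supp.mono hCH)] at h1
  have hcl : ∀ χ : IrrCharacter G, IsClassFunction G (χ : G → ℂ) :=
    fun χ => CfsgLib.Char.IsIrrCharacter.isClassFunction χ.2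
  have hclH : ∀ χ : IrrCharacter G, IsClassFunction H fun c : H => (χ : G → ℂ) c :=
    fun χ => CfsgLib.Char.IsCharacter.isClassFunction
      (CfsgLib.Char.IsCharacter.restrict (CfsgLib.Char.IsIrrCharacter.isCharacter χ.2) H)
  have hξcl := CfsgLib.Char.IsIrrCharacter.isClassFunction ξ₀.2
  set K := (Nat.card (P ⊓ Subgroup.centralizer (Subgroup.zpowers (z : G) : Set G) : Subgroup G) : ℂ)
    * (Nat.card (Subgroup.centralizer (Subgroup.zpowers (z : G) : Set G)) : ℂ)⁻¹ with hK
  have hK' : wt p M P' e' (ξ₀ : H → ℂ) (ξ₀ : H → ℂ) z' =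
      K * secSum p M (ξ₀ : H → ℂ) (ξ₀ : H → ℂ) zH b := by
    rw [wt, hK]
    congr 3
    · rw [← Subgroup.card_map_of_injective H.subtype_injective,
        Subgroup.map_inf _ _ _ H.subtype_injective, show P'.map H.subtype = P from
          Subgroup.map_subgroupOf_eq_of_le hPH,
        centralizer_subgroupOf_map, hmap, Subgroup.map_subgroupOf_eq_of_le hCz]
    · rw [centralizer_subgroupOf_map, hmap]
      exact congrArg Nat.cast <| Nat.card_congr (Subgroup.subgroupOfEquivOfLe hCz).toEquiv
  have h1 : K * secSum p M (ξ₀ : H → ℂ) (ξ₀ : H → ℂ) zH b = 1 :=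
    hK'.symm.trans (wt_eq_one hM hB' hQ hnoQ hfus hξ₀ hmin z')
  rw [wt, hbel, ← hK,
    show secSum p M (χ : G → ℂ) (ψ : G → ℂ) (z : G) (up H b) =
      secSum p M (fun c : H => (χ : G → ℂ) c) (fun c : H => (ψ : G → ℂ) c) zH b from
      secSum_restrict hM (hcl χ) (hcl ψ) zH hCz hbb,
    hn χ z' _ (hclH ψ), ← conj_secSum (fun c : H => (ψ : G → ℂ) c) (ξ₀ : H → ℂ),
    hn ψ z' _ hξcl, map_mul, conj_secSum (ξ₀ : H → ℂ) (ξ₀ : H → ℂ)]
  linear_combination ((∑ᶠ mu : P' →* ℂˣ, (n χ mu : ℂ) * (mu (ε z) : ℂ)) *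
    conj (∑ᶠ mu : P' →* ℂˣ, (n ψ mu : ℂ) * (mu (ε z) : ℂ))) * h1

end CfsgLib.BlockRank
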