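import Cfsg.Agent.Lib.BlockRank.FreeWeights
import Cfsg.Agent.Lib.BlockRank.SectorVirtual
import Cfsg.Agent.Lib.BlockRank.HomocyclicFourier

/-!
# Two-blocks with homocyclic defect groups of rank two and inertial index three have rank three
-/

set_option autoImplicit false
set_option maxHeartbeats 1000000
set_option synthInstance.maxHeartbeats 400000

namespace CfsgLib.BlockRank

open Cfsg CfsgLib.Blocks CfsgLib.Blocks.Pairs CfsgLib.BlockReg CfsgLib.BlockStar
open scoped Classical ComplexConjugate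

universe u

variable {G : Type u} [Group G] [Finite G] {M : Ideal AlgInt} [M.IsMaximal]
  [CharP (ResField M) 2]

/-- An element generating the inertial quotient of order three. -/
theorem exists_three_gen {P : Subgroup G} {e : MonoidAlgebra (ResField M) G}
    (h3 : (Subgroup.centralizer (P : Set G)).relIndex (pairStab P e) = 3) :
    ∃ g ∈ pairStab P e, g ∉ Subgroup.centralizer (P : Set G) ∧
      g ^ 3 ∈ Subgroup.centralizer (P : Set G) ∧
      ∀ y ∈ pairStab P e, ∀ u ∈ P, y * u * y⁻¹ = u ∨ y * u * y⁻¹ = g * u * g⁻¹ ∨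
        y * u * y⁻¹ = g * (g * u * g⁻¹) * g⁻¹ := by
  set S := pairStab P e
  set C := Subgroup.centralizer (P : Set G)
  have hnotle : ¬ S ≤ C := fun hle => by
    rw [Subgroup.relIndex_eq_one.2 hle] at h3
    omega
  obtain ⟨g, hgS, hgC⟩ := SetLike.not_le_iff_exists.1 hnotle
  have hN : S ≤ Subgroup.normalizer (P : Set G) := fun y hy => hy.1
  haveI hnor : (C.subgroupOf S).Normal := by
    refine ⟨fun c hc y => ?_⟩
    rw [Subgroup.mem_subgroupOf] at hc ⊢
    rw [Subgroup.mem_centralizer_iff] at hc ⊢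
    intro u hu
    have hu' : (y : G)⁻¹ * u * (y : G) ∈ P := (Subgroup.mem_normalizer_iff''.1 (hN y.2) u).1 hu
    have h := hc _ hu'
    push_cast
    calc u * ((y : G) * c * (y : G)⁻¹) = (y : G) * (((y : G)⁻¹ * u * y) * c) * (y : G)⁻¹ := by group
      _ = (y : G) * (c * ((y : G)⁻¹ * u * y)) * (y : G)⁻¹ := by rw [h]
      _ = _ := by group
  haveI : Fact (Nat.Prime 3) := ⟨Nat.prime_three⟩
  have hq3 : Nat.card (S ⧸ C.subgroupOf S) = 3 := by
    rw [← Subgroup.index_eq_card]; exact h3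
  set gq : S ⧸ C.subgroupOf S := ((⟨g, hgS⟩ : S) : S ⧸ C.subgroupOf S)
  have hgq : gq ≠ 1 := fun h => hgC ((QuotientGroup.eq_one_iff (⟨g, hgS⟩ : S)).1 h :)
  have hgq3 : gq ^ 3 = 1 := hq3 ▸ pow_card_eq_one'
  refine ⟨g, hgS, hgC, ?_, fun y hy u hu => ?_⟩
  · have h := (QuotientGroup.eq_one_iff ((⟨g, hgS⟩ : S) ^ 3)).1 (by rw [← hgq3]; rfl)
    exact h
  obtain ⟨i, hi⟩ := Submonoid.mem_powers_iff _ _ |>.1
    (mem_powers_of_prime_card hq3 (g := gq) (g' := ((⟨y, hy⟩ : S) : S ⧸ C.subgroupOf S)) hgq)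
  rw [pow_eq_pow_mod i hgq3] at hi
  have hc : (⟨g, hgS⟩ : S)⁻¹ ^ (i % 3) * ⟨y, hy⟩ ∈ C.subgroupOf S := by
    rw [← QuotientGroup.eq_one_iff, QuotientGroup.mk_mul, QuotientGroup.mk_pow,
      QuotientGroup.mk_inv, inv_pow, inv_mul_eq_one]
    exact hi
  have hcC : g⁻¹ ^ (i % 3) * y ∈ C := hc
  have key : y * u * y⁻¹ = g ^ (i % 3) * u * (g ^ (i % 3))⁻¹ := by
    have h := Subgroup.mem_centralizer_iff.1 hcC u hu
    rw [inv_pow] at h
    calc y * u * y⁻¹ = g ^ (i % 3) * ((g ^ (i % 3))⁻¹ * y * u) * y⁻¹ := by group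
      _ = g ^ (i % 3) * (u * ((g ^ (i % 3))⁻¹ * y)) * y⁻¹ := by rw [h]
      _ = _ := by group
  rcases (show i % 3 = 0 ∨ i % 3 = 1 ∨ i % 3 = 2 by omega) with h | h | h <;> rw [h] at key
  · exact Or.inl (by simpa using key)
  · exact Or.inr (Or.inl (by simpa using key))
  · exact Or.inr (Or.inr (by rw [key, pow_two]; group))

/-- **The rank.** -/
theorem blockRank_eq_three (hM : IsPModular 2 M) {B : Set (IrrCharacter G)} (hB : IsPBlock M B)
    {P : Subgroup G} {e : MonoidAlgebra (ResField M) G}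
    (hP : PairOf 2 (ebar hB) P e) (hno : NoExt 2 P e) (hab : ∀ x ∈ P, ∀ y ∈ P, x * y = y * x)
    {m : ℕ} (hm : 1 ≤ m) (hcard : Nat.card P = 4 ^ m)
    (h4 : Nat.card {w : P // w ^ 2 = 1} ≤ 4) (hexp : ∀ w ∈ P, w ^ 2 ^ m = 1)
    (hfree : Free P (pairStab P e))
    (h3 : (Subgroup.centralizer (P : Set G)).relIndex (pairStab P e) = 3) :
    blockRank 2 B = 3 := by
  haveI := Fintype.ofFinite G
  haveI := Fintype.ofFinite B
  letI : CommGroup P :=
    { (inferInstance : Group P) with mul_comm := fun a b => Subtype.ext (hab _ a.2 _ b.2) }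
  obtain ⟨g, hgS, hgC, hg3, hgen⟩ := exists_three_gen h3
  have hmemg : ∀ u ∈ P, g * u * g⁻¹ ∈ P := fun u hu =>
    (Subgroup.mem_normalizer_iff.1 hgS.1 u).1 hu
  have hfix3 : ∀ u ∈ P, g * (g * (g * u * g⁻¹) * g⁻¹) * g⁻¹ = u := fun u hu => by
    have h := Subgroup.mem_centralizer_iff.1 hg3 u hu
    calc _ = g ^ 3 * u * (g ^ 3)⁻¹ := by simp only [pow_succ, pow_zero, one_mul]; group
      _ = u * g ^ 3 * (g ^ 3)⁻¹ := by rw [h]
      _ = u := by group
  let τ : P ≃* P :=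
    { toFun := fun u => ⟨g * u * g⁻¹, hmemg _ u.2⟩
      invFun := fun u => ⟨g * (g * u * g⁻¹) * g⁻¹, hmemg _ (hmemg _ u.2)⟩
      left_inv := fun u => Subtype.ext (hfix3 _ u.2)
      right_inv := fun u => Subtype.ext (hfix3 _ u.2)
      map_mul' := fun u v => Subtype.ext (by
        show g * ((u : G) * v) * g⁻¹ = g * u * g⁻¹ * (g * v * g⁻¹)
        group) }
  have hτfree : ∀ u : P, τ u = u → u = 1 := fun u hu => by
    by_contra hne
    exact hgC (hfree g hgS u u.2 (fun h => hne (Subtype.ext h)) (congrArg Subtype.val hu :))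
  obtain ⟨χ₀, hχ₀, hmin⟩ := CfsgLib.BlockReg.exists_minExp (p := 2)
    (CfsgLib.BlockReg.block_nonempty hM hB)
  have hcl : ∀ χ : IrrCharacter G, IsClassFunction G (χ : G → ℂ) :=
    fun χ => CfsgLib.Char.IsIrrCharacter.isClassFunction χ.2
  let W : B → B → P → ℂ := fun i j u =>
    wt 2 M P e ((i : IrrCharacter G) : G → ℂ) ((j : IrrCharacter G) : G → ℂ) (u : G)
  have hsumB : ∀ f : IrrCharacter G → ℂ, ∑ i : B, f i = ∑ χ ∈ B.toFinset, f χ :=
    fun f => (Finset.sum_subtype B.toFinset (fun _ => Set.mem_toFinset) f).symm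
  have hk := Homocyclic.three_mul_card (τ := τ) hM (fun u => Subtype.ext (hfix3 _ u.2)) hτfree hm
    hcard (le_trans (le_of_eq (Nat.card_congr (Equiv.subtypeEquivRight fun w => by
      rw [MonoidHom.mem_ker, powMonoidHom_apply]))) h4)
    (fun u => Subtype.ext (hexp _ u.2)) W ⟨χ₀, hχ₀⟩ ?_
    (fun i j u => wt_conj_stab hM hP.pair (hcl i) (hcl j) hgS u.2) ?_
    (fun i u => wt_self_nonneg _ _) ?_ ?_
    (fun i u => wt_ne_zero hM hB hP hno hab u.2 i.2 hχ₀ hmin)
    (fun u => (wt_self_unit hM hB hP hno hab u.2 hχ₀ hmin).2) ?_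
    (fun u => (hsumB fun χ => wt 2 M P e (χ : G → ℂ) (χ₀ : G → ℂ) (u : G) *
      conj (wt 2 M P e (χ : G → ℂ) (χ₀ : G → ℂ) (u : G))).trans
      (sum_wt_mul_conj_self hM hB hP hno hab u.2 χ₀))
  · obtain ⟨k, hk1, hk2⟩ := exists_card_of_free hM hB hP hno hab hfree
    rw [h3] at hk2
    rw [← Nat.card_eq_fintype_card] at hk
    omega
  · intro t ht
    obtain ⟨n, hn⟩ := exists_sector_virtual hM hB hP hno hab t.2
      fun y hy h => hfree y hy t t.2 (fun h' => ht (Subtype.ext h')) h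
    exact ⟨fun i lam => n i lam, fun i j z hz => hn i j z (by
      obtain ⟨k, rfl⟩ := Subgroup.mem_zpowers_iff.1 hz
      exact Subgroup.mem_zpowers_iff.2 ⟨k, (SubgroupClass.coe_zpow z k).symm⟩)⟩
  · intro η h1 hinv hchar i j
    obtain ⟨z, hz⟩ := sum_wt_int hM hB hP hno hab hfree (extendByZero P η)
      ((extendByZero_coe P η 1).trans h1) (fun y hy u hu => by
        have e1 := extendByZero_coe P η (⟨u, hu⟩ : P)
        have e2 := extendByZero_coe P η (τ ⟨u, hu⟩)
        have e3 := extendByZero_coe P η (τ (τ ⟨u, hu⟩))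
        rcases hgen y hy u hu with h | h | h <;> rw [h]
        · exact e2.trans ((hinv _).trans e1.symm)
        · exact e3.trans (((hinv _).trans (hinv _)).trans e1.symm))
      (by simpa only [extendByZero_coe] using hchar) i.2 j.2
    refine ⟨z, ?_⟩
    rw [h3] at hz
    simp only [extendByZero_coe] at hz
    exact_mod_cast hz
  · intro i
    show wt 2 M P e _ _ ((1 : P) : G) ≠ 0
    rw [OneMemClass.coe_one, wt_one hM hB hP i.2 i.2]
    refine mul_ne_zero (mul_ne_zero (Nat.cast_ne_zero.2 Nat.card_pos.ne')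
      (inv_ne_zero (Nat.cast_ne_zero.2 Nat.card_pos.ne'))) ?_
    rw [regPair]
    simp only [Complex.mul_conj, ← Complex.ofReal_sum]
    rw [Complex.ofReal_ne_zero]
    refine (Finset.sum_pos' (fun s _ => Complex.normSq_nonneg _) ⟨1, ?_, Complex.normSq_pos.2
      (CfsgLib.Char.IsIrrCharacter.apply_one_ne_zero (i : IrrCharacter G).2)⟩).ne'
    simp [regSet, IsPRegular]
  · intro i
    have h := sum_wt_self hM hB hP hno hab hfree i.2
    rw [h3] at h
    norm_num at h
    rw [Nat.card_eq_fintype_card]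
    exact h
  · intro z z' n1 n2 n3
    refine (hsumB fun χ => wt 2 M P e (χ : G → ℂ) (χ₀ : G → ℂ) (z : G) *
      conj (wt 2 M P e (χ : G → ℂ) (χ₀ : G → ℂ) (z' : G))).trans
      (sum_wt_mul_conj_ne hM hB hP hno hab z.2 z'.2 (fun y hy h => ?_) χ₀ χ₀)
    rcases hgen y hy z z.2 with h' | h' | h' <;> rw [h] at h'
    · exact n1 (Subtype.ext h')
    · exact n2 (Subtype.ext h')
    · exact n3 (Subtype.ext h')

end CfsgLib.BlockRank
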