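import Mathlib.GroupTheory.PGroup
import Mathlib.GroupTheory.QuotientGroup.Basic
import Mathlib.Algebra.BigOperators.Fin
import Mathlib.Algebra.Order.Ring.Nat

/-!
# Homocyclic `2`-groups of rank two with a fixed-point-free automorphism of order three
-/

set_option autoImplicit false
set_option maxHeartbeats 800000

open scoped Classical

namespace CfsgLib.BlockRank.Homocyclic

universe u

variable {Q : Type u} [CommGroup Q] [Finite Q] {τ : Q ≃* Q}

/-- At most `4 ^ i` elements have order dividing `2 ^ i`. -/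
theorem card_ker_le (h4 : Nat.card (powMonoidHom 2 : Q →* Q).ker ≤ 4) (i : ℕ) :
    Nat.card (powMonoidHom (2 ^ i) : Q →* Q).ker ≤ 4 ^ i := by
  induction i with
  | zero =>
    rw [show (powMonoidHom (2 ^ 0) : Q →* Q).ker = ⊥ from eq_bot_iff.2 fun q hq => by
      simpa using hq, Subgroup.card_bot, pow_zero]
  | succ i ih =>
    set K := (powMonoidHom (2 ^ (i + 1)) : Q →* Q).ker
    set f : K →* Q := (powMonoidHom 2).comp K.subtype
    have h1 : Nat.card f.range ≤ 4 ^ i := by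
      refine le_trans (Subgroup.card_le_of_le ?_) ih
      rintro _ ⟨⟨q, hq⟩, rfl⟩
      show ((powMonoidHom 2) q) ^ 2 ^ i = 1
      rw [powMonoidHom_apply, ← pow_mul, ← pow_succ']
      exact hq
    have h2 : Nat.card f.ker ≤ 4 := by
      refine le_trans (Nat.card_le_card_of_injective
        (fun k : f.ker => (⟨(k : K), k.2⟩ : (powMonoidHom 2 : Q →* Q).ker)) ?_) h4
      exact fun a b h => Subtype.ext (Subtype.ext (congrArg Subtype.val h :))
    rw [← f.ker.card_mul_index, Subgroup.index_ker, pow_succ']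
    exact Nat.mul_le_mul h2 h1

theorem tau_two_free (h3 : ∀ q, τ (τ (τ q)) = q) (hfree : ∀ q, τ q = q → q = 1) {q : Q}
    (h : τ (τ q) = q) : q = 1 :=
  hfree q (by rw [← h, h3, h])

/-- The quotient by the squares is the four group, its nontrivial elements moved cyclically. -/
theorem exists_shape (h3 : ∀ q, τ (τ (τ q)) = q) (hfree : ∀ q, τ q = q → q = 1) {m : ℕ}
    (hm : 1 ≤ m) (hcard : Nat.card Q = 4 ^ m)
    (h4 : Nat.card (powMonoidHom 2 : Q →* Q).ker ≤ 4) (hexp : ∀ q : Q, q ^ 2 ^ m = 1) :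
    ∃ x : Q, x ^ 2 ^ (m - 1) ≠ 1 ∧
      (∀ f ∈ (powMonoidHom 2 : Q →* Q).range, (x * f) ^ 2 ^ (m - 1) = x ^ 2 ^ (m - 1)) ∧
      (∀ f ∈ (powMonoidHom 2 : Q →* Q).range, τ f ∈ (powMonoidHom 2 : Q →* Q).range) ∧
      x * τ x * τ (τ x) = 1 ∧
      x ∉ (powMonoidHom 2 : Q →* Q).range ∧ τ x ∉ (powMonoidHom 2 : Q →* Q).range ∧
      τ x / x ∉ (powMonoidHom 2 : Q →* Q).range ∧
      τ (τ x) / x ∉ (powMonoidHom 2 : Q →* Q).range ∧
      4 * Nat.card (powMonoidHom 2 : Q →* Q).range = Nat.card Q ∧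
      ∀ q, q ∈ (powMonoidHom 2 : Q →* Q).range ∨ q / x ∈ (powMonoidHom 2 : Q →* Q).range ∨
        q / τ x ∈ (powMonoidHom 2 : Q →* Q).range ∨
        q / τ (τ x) ∈ (powMonoidHom 2 : Q →* Q).range := by
  haveI := Fintype.ofFinite Q
  set Φ := (powMonoidHom 2 : Q →* Q).range with hΦ
  have hτΦ : ∀ f ∈ Φ, τ f ∈ Φ := by
    rintro _ ⟨q, rfl⟩
    exact ⟨τ q, by simp [map_pow]⟩
  -- four elements square to one
  obtain ⟨t, ht⟩ := exists_prime_orderOf_dvd_card' (G := Q) 2
    (hcard ▸ dvd_pow (by norm_num) (by omega))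
  have ht1 : t ≠ 1 := fun h => by simp [h] at ht
  have hker4 : Nat.card (powMonoidHom 2 : Q →* Q).ker = 4 := by
    refine le_antisymm h4 ?_
    have htk : ∀ q : Q, orderOf q = 2 → q ∈ (powMonoidHom 2 : Q →* Q).ker := fun q hq => by
      rw [MonoidHom.mem_ker, powMonoidHom_apply, ← hq, pow_orderOf_eq_one]
    have hsub : ({1, t, τ t, τ (τ t)} : Finset Q) ⊆
        Finset.univ.filter (fun q => q ∈ (powMonoidHom 2 : Q →* Q).ker) := by
      intro q hq
      simp only [Finset.mem_insert, Finset.mem_singleton] at hq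
      rw [Finset.mem_filter]
      refine ⟨Finset.mem_univ _, ?_⟩
      rcases hq with rfl | rfl | rfl | rfl
      · exact one_mem _
      · exact htk _ ht
      · exact htk _ (by rw [MulEquiv.orderOf_eq, ht])
      · exact htk _ (by rw [MulEquiv.orderOf_eq, MulEquiv.orderOf_eq, ht])
    have n1 : τ t ≠ t := fun h => ht1 (hfree t h)
    have n2 : τ (τ t) ≠ τ t := fun h => n1 (τ.injective h)
    have n3 : τ (τ t) ≠ t := fun h => ht1 (tau_two_free h3 hfree h)
    have n4 : τ t ≠ 1 := fun h => ht1 (τ.injective (h.trans τ.map_one.symm))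
    have n5 : τ (τ t) ≠ 1 := fun h => n4 (τ.injective (h.trans τ.map_one.symm))
    have h := Finset.card_le_card hsub
    rw [Finset.card_insert_of_notMem, Finset.card_insert_of_notMem, Finset.card_insert_of_notMem,
      Finset.card_singleton, ← Fintype.card_subtype, ← Nat.card_eq_fintype_card] at h
    · exact h
    · simpa using n2.symm
    · simpa using And.intro n1.symm n3.symm
    · simpa using And.intro ht1.symm (And.intro n4.symm n5.symm)
  have hΦ4 : 4 * Nat.card Φ = Nat.card Q := by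
    rw [← hker4, hΦ, ← Subgroup.index_ker, Subgroup.card_mul_index]
  have hidx : Φ.index = 4 := by
    have h := Φ.card_mul_index
    rw [← hΦ4, mul_comm] at h
    exact mul_right_cancel₀ Nat.card_pos.ne' h
  obtain ⟨x, hx⟩ : ∃ x, x ∉ Φ := by
    by_contra h
    push Not at h
    rw [(Subgroup.eq_top_iff' Φ).2 h, Subgroup.index_top] at hidx
    omega
  -- the elements killed by the largest proper power
  have hkerΦ : (powMonoidHom (2 ^ (m - 1)) : Q →* Q).ker = Φ := by
    refine (Subgroup.eq_of_le_of_card_ge ?_ ?_).symm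
    · rintro _ ⟨q, rfl⟩
      rw [MonoidHom.mem_ker, powMonoidHom_apply, powMonoidHom_apply, ← pow_mul, ← pow_succ',
        Nat.sub_add_cancel hm, hexp]
    · refine le_trans (card_ker_le h4 (m - 1)) (le_of_eq ?_)
      rw [← Nat.sub_add_cancel hm, pow_succ'] at hcard
      omega
  have hmove : ∀ y, τ y / y ∈ Φ → y ∈ Φ := by
    intro y hy
    let ψ : Φ → Φ := fun f => ⟨τ f / f, Φ.div_mem (hτΦ f f.2) f.2⟩
    have hψ : Function.Injective ψ := fun a b h => by
      have h' : τ (a : Q) / a = τ (b : Q) / b := congrArg Subtype.val h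
      rw [div_eq_div_iff_div_eq_div, ← map_div] at h'
      exact Subtype.ext (div_eq_one.1 (hfree _ h'))
    obtain ⟨f, hf⟩ := (Finite.injective_iff_surjective.1 hψ) ⟨τ y / y, hy⟩
    have h' : τ (f : Q) / f = τ y / y := congrArg Subtype.val hf
    rw [div_eq_div_iff_div_eq_div, ← map_div] at h'
    have := div_eq_one.1 (hfree _ h')
    exact this ▸ f.2
  have hτΦ' : ∀ q, τ q ∈ Φ → q ∈ Φ := fun q hq => by
    have := hτΦ _ (hτΦ _ hq)
    rwa [h3] at this
  have n1 : τ x / x ∉ Φ := fun h => hx (hmove x h)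
  have n2 : τ (τ x) / x ∉ Φ := fun h => n1 (by
    have := Φ.inv_mem (hτΦ _ h)
    rwa [map_div, h3, inv_div] at this)
  have n3 : τ (τ x) / τ x ∉ Φ := fun h => n1 (hτΦ' _ (by rwa [map_div]))
  have n4 : τ x ∉ Φ := fun h => hx (hτΦ' x h)
  have n5 : τ (τ x) ∉ Φ := fun h => n4 (hτΦ' _ h)
  refine ⟨x, fun h => hx (hkerΦ ▸ h), fun f hf => ?_, hτΦ, hfree _ ?_, hx, n4, n1, n2, hΦ4,
    fun q => ?_⟩
  · rw [mul_pow]
    have h : f ^ 2 ^ (m - 1) = 1 := (hkerΦ.symm ▸ hf : f ∈ (powMonoidHom (2 ^ (m - 1))).ker)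
    rw [h, mul_one]
  · rw [map_mul, map_mul, h3, mul_comm, ← mul_assoc]
  · by_contra hq
    push Not at hq
    obtain ⟨q0, q1, q2, q3⟩ := hq
    haveI := Fintype.ofFinite (Q ⧸ Φ)
    let c : Q → Q ⧸ Φ := fun y => (y : Q ⧸ Φ)
    have hc : ∀ a b, c a = c b → a / b ∈ Φ := fun a b h => QuotientGroup.eq_iff_div_mem.1 h
    have hc1 : ∀ a, c a = c 1 → a ∈ Φ := fun a h => by simpa using hc a 1 h
    have h5 : ({c 1, c x, c (τ x), c (τ (τ x)), c q} : Finset (Q ⧸ Φ)).card = 5 := by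
      rw [Finset.card_insert_of_notMem, Finset.card_insert_of_notMem,
        Finset.card_insert_of_notMem, Finset.card_insert_of_notMem, Finset.card_singleton]
      · simp only [Finset.mem_singleton]
        exact fun h => q3 (hc _ _ h.symm)
      · simp only [Finset.mem_insert, Finset.mem_singleton, not_or]
        exact ⟨fun h => n3 (hc _ _ h.symm), fun h => q2 (hc _ _ h.symm)⟩
      · simp only [Finset.mem_insert, Finset.mem_singleton, not_or]
        exact ⟨fun h => n1 (hc _ _ h.symm), fun h => n2 (hc _ _ h.symm), fun h => q1 (hc _ _ h.symm)⟩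
      · simp only [Finset.mem_insert, Finset.mem_singleton, not_or]
        exact ⟨fun h => hx (hc1 _ h.symm), fun h => n4 (hc1 _ h.symm), fun h => n5 (hc1 _ h.symm),
          fun h => q0 (hc1 _ h.symm)⟩
    have := Finset.card_le_univ ({c 1, c x, c (τ x), c (τ (τ x)), c q} : Finset (Q ⧸ Φ))
    rw [h5, ← Nat.card_eq_fintype_card, ← Subgroup.index_eq_card, hidx] at this
    omega

/-- Sums over the group, split along the four cosets. -/
theorem sum_split [Fintype Q] {R : Type*} [AddCommMonoid R] {Φ : Subgroup Q} [Fintype Φ]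
    (h3 : ∀ q, τ (τ (τ q)) = q) (hτΦ : ∀ f ∈ Φ, τ f ∈ Φ) (h4 : 4 * Nat.card Φ = Nat.card Q)
    {x : Q} (hcov : ∀ q, q ∈ Φ ∨ q / x ∈ Φ ∨ q / τ x ∈ Φ ∨ q / τ (τ x) ∈ Φ) (F : Q → R) :
    ∑ q : Q, F q = ∑ f : Φ, F f + ∑ f : Φ, F (x * f) + ∑ f : Φ, F (τ (x * f)) +
      ∑ f : Φ, F (τ (τ (x * f))) := by
  let E : Fin 4 × Φ → Q := fun q =>
    ![(q.2 : Q), x * q.2, τ (x * q.2), τ (τ (x * q.2))] q.1
  have hsurj : Function.Surjective E := by
    intro q
    rcases hcov q with h | h | h | h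
    · exact ⟨(0, ⟨q, h⟩), rfl⟩
    · exact ⟨(1, ⟨_, h⟩), by simp [E]⟩
    · refine ⟨(2, ⟨_, hτΦ _ (hτΦ _ h)⟩), ?_⟩
      show τ (x * τ (τ (q / τ x))) = q
      rw [map_mul, h3, mul_div_cancel]
    · refine ⟨(3, ⟨_, hτΦ _ h⟩), ?_⟩
      show τ (τ (x * τ (q / τ (τ x)))) = q
      rw [map_mul, map_mul, h3, mul_div_cancel]
  have hcard : Fintype.card (Fin 4 × Φ) = Fintype.card Q := by
    rw [Fintype.card_prod, Fintype.card_fin, ← Nat.card_eq_fintype_card (α := Φ),
      ← Nat.card_eq_fintype_card, h4]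
  rw [← Fintype.sum_bijective E ((Fintype.bijective_iff_surjective_and_card E).2 ⟨hsurj, hcard⟩)
    (fun q => F (E q)) F fun _ => rfl, Fintype.sum_prod_type, Fin.sum_univ_four]
  rfl

end CfsgLib.BlockRank.Homocyclic
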