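import Cfsg.Agent.Lib.BlockRank.FreeSections
import Cfsg.Agent.Lib.Blocks.Pairs.Inertial
import Mathlib.GroupTheory.SpecificGroups.Cyclic
import Mathlib.Data.ZMod.Basic

/-!
# Two-blocks with homocyclic defect groups of rank two: the inertial quotient acts freely
-/

set_option autoImplicit false
set_option maxHeartbeats 800000
set_option synthInstance.maxHeartbeats 400000

open Cfsg CfsgLib.Blocks CfsgLib.Blocks.Pairs
open scoped Classical

namespace CfsgLib.BlockRank

universe u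

/-- In a product of two cyclic groups at most four elements square to one. -/
theorem card_sq_one_le {P : Type u} [Group P] [Finite P] {n : ℕ} [NeZero n]
    (φ : P ≃* Multiplicative (ZMod n × ZMod n)) : Nat.card {w : P // w ^ 2 = 1} ≤ 4 := by
  haveI := Fintype.ofFinite P
  have h2 : Nat.card {z : Multiplicative (ZMod n) // z ^ 2 = 1} ≤ 2 := by
    rw [Nat.card_eq_fintype_card, Fintype.card_subtype]
    exact IsCyclic.card_pow_eq_one_le two_pos
  refine le_trans (Nat.card_le_card_of_injective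
    (fun w : {w : P // w ^ 2 = 1} =>
      (((⟨Multiplicative.ofAdd (φ w.1).toAdd.1, ?_⟩ : {z : Multiplicative (ZMod n) // z ^ 2 = 1}),
        (⟨Multiplicative.ofAdd (φ w.1).toAdd.2, ?_⟩ : {z : Multiplicative (ZMod n) // z ^ 2 = 1}))))
    ?_) ?_
  · have h := congrArg (fun z => (Multiplicative.toAdd z).1) (congrArg φ w.2)
    simp only [map_pow, map_one, toAdd_pow, toAdd_one, Prod.smul_fst, Prod.fst_zero] at h
    rw [← ofAdd_nsmul, h, ofAdd_zero]
  · have h := congrArg (fun z => (Multiplicative.toAdd z).2) (congrArg φ w.2)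
    simp only [map_pow, map_one, toAdd_pow, toAdd_one, Prod.smul_snd, Prod.snd_zero] at h
    rw [← ofAdd_nsmul, h, ofAdd_zero]
  · intro v w h
    simp only [Prod.mk.injEq, Subtype.mk.injEq, EmbeddingLike.apply_eq_iff_eq] at h
    exact Subtype.ext (φ.injective (Multiplicative.toAdd.injective (Prod.ext h.1 h.2)))
  · rw [Nat.card_prod]
    exact Nat.mul_le_mul h2 h2

variable {G : Type u} [Group G] [Finite G]

/-- Conjugation trivial on the involutions of an abelian `2`-group has a power of two trivial on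
the whole group. -/
theorem conj_two_pow_fix {P : Subgroup G} (hab : ∀ x ∈ P, ∀ y ∈ P, x * y = y * x) {g : G}
    (hg : g ∈ Subgroup.normalizer (P : Set G))
    (h1 : ∀ w ∈ P, w ^ 2 = 1 → g * w * g⁻¹ = w) (i : ℕ) :
    ∀ w ∈ P, w ^ 2 ^ (i + 1) = 1 → g ^ 2 ^ i * w * (g ^ 2 ^ i)⁻¹ = w := by
  induction i with
  | zero =>
    intro w hw hw2
    rw [pow_zero, pow_one]
    exact h1 w hw (by simpa using hw2)
  | succ i ih =>
    intro w hw hw2
    set t := g ^ 2 ^ i with ht
    have htN : t ∈ Subgroup.normalizer (P : Set G) := pow_mem hg _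
    have htw : t * w * t⁻¹ ∈ P := (Subgroup.mem_normalizer_iff.1 htN w).1 hw
    have hsq : t * w ^ 2 * t⁻¹ = w ^ 2 :=
      ih _ (pow_mem hw 2) (by rw [← pow_mul, ← pow_succ']; exact hw2)
    set c := t * w * t⁻¹ * w⁻¹ with hc
    have hcP : c ∈ P := mul_mem htw (inv_mem hw)
    have hc2 : c ^ 2 = 1 := by
      rw [hc, (show Commute (t * w * t⁻¹) w⁻¹ from hab _ htw _ (inv_mem hw)).mul_pow, conj_pow, hsq,
        inv_pow, mul_inv_cancel]
    have htc : t * c * t⁻¹ = c := ih c hcP (by rw [pow_succ', pow_mul, hc2, one_pow])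
    have htw' : t * w * t⁻¹ = c * w := by rw [hc]; group
    rw [pow_succ, pow_mul, ← ht, pow_two]
    calc t * t * w * (t * t)⁻¹ = t * (t * w * t⁻¹) * t⁻¹ := by group
      _ = t * (c * w) * t⁻¹ := by rw [htw']
      _ = (t * c * t⁻¹) * (t * w * t⁻¹) := by group
      _ = c * (c * w) := by rw [htc, htw']
      _ = w := by rw [← mul_assoc, ← pow_two, hc2, one_mul]

/-- The conjugation by the square of an element fixing an involution fixes all involutions. -/
theorem sq_fix_involutions {P : Subgroup G} (h4 : Nat.card {w : P // w ^ 2 = 1} ≤ 4) {g : G}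
    (hg : g ∈ Subgroup.normalizer (P : Set G)) {t : G} (ht : t ∈ P) (ht2 : t ^ 2 = 1) (ht1 : t ≠ 1)
    (hgt : g * t * g⁻¹ = t) : ∀ w ∈ P, w ^ 2 = 1 → g ^ 2 * w * (g ^ 2)⁻¹ = w := by
  haveI := Fintype.ofFinite G
  have hgg : ∀ w, g ^ 2 * w * (g ^ 2)⁻¹ = g * (g * w * g⁻¹) * g⁻¹ := fun w => by
    rw [pow_two]; group
  intro w hw hw2
  set S := Finset.univ.filter fun x : G => x ∈ P ∧ x ^ 2 = 1 with hS
  have hS4 : S.card ≤ 4 := by
    refine le_trans (le_of_eq ?_) h4
    rw [hS, ← Fintype.card_subtype, ← Nat.card_eq_fintype_card]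
    exact Nat.card_congr ⟨fun x => ⟨⟨x.1, x.2.1⟩, Subtype.ext x.2.2⟩,
      fun x => ⟨x.1.1, x.1.2, congrArg Subtype.val x.2⟩, fun _ => rfl, fun _ => rfl⟩
  have hcl : ∀ x ∈ S, g * x * g⁻¹ ∈ S := fun x hx => by
    simp only [S, Finset.mem_filter, Finset.mem_univ, true_and] at hx ⊢
    exact ⟨(Subgroup.mem_normalizer_iff.1 hg x).1 hx.1, by rw [conj_pow, hx.2]; group⟩
  have hinj : ∀ x y, g * x * g⁻¹ = g * y * g⁻¹ → x = y := fun x y h =>
    mul_left_cancel (mul_right_cancel h)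
  have hwS : w ∈ S := Finset.mem_filter.2 ⟨Finset.mem_univ _, hw, hw2⟩
  set w₁ := g * w * g⁻¹ with hw₁
  set w₂ := g * w₁ * g⁻¹ with hw₂
  rw [hgg, ← hw₁, ← hw₂]
  rcases eq_or_ne w 1 with rfl | hw1
  · simp [hw₂, hw₁]
  rcases eq_or_ne w t with rfl | hwt
  · rw [hw₂, hw₁, hgt, hgt]
  rcases eq_or_ne w₁ w with h | h
  · rw [hw₂, h, ← hw₁, h]
  by_contra hne
  have hne1 : ∀ x, x ≠ 1 → g * x * g⁻¹ ≠ 1 := fun x hx h' => hx (hinj _ _ (by rw [h']; group))
  have hnet : ∀ x, x ≠ t → g * x * g⁻¹ ≠ t := fun x hx h' => hx (hinj _ _ (h'.trans hgt.symm))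
  have h12 : w₂ ≠ w₁ := fun h' => h (hinj _ _ h')
  have hsub : ({1, t, w, w₁, w₂} : Finset G) ⊆ S := by
    intro x hx
    simp only [Finset.mem_insert, Finset.mem_singleton] at hx
    rcases hx with rfl | rfl | rfl | rfl | rfl
    · exact Finset.mem_filter.2 ⟨Finset.mem_univ _, one_mem _, one_pow _⟩
    · exact Finset.mem_filter.2 ⟨Finset.mem_univ _, ht, ht2⟩
    · exact hwS
    · exact hcl _ hwS
    · exact hcl _ (hcl _ hwS)
  have h5 : ({1, t, w, w₁, w₂} : Finset G).card = 5 := by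
    rw [Finset.card_insert_of_notMem, Finset.card_insert_of_notMem, Finset.card_insert_of_notMem,
      Finset.card_insert_of_notMem, Finset.card_singleton]
    · simpa using h12.symm
    · simp only [Finset.mem_insert, Finset.mem_singleton, not_or]
      exact ⟨h.symm, Ne.symm hne⟩
    · simp only [Finset.mem_insert, Finset.mem_singleton, not_or]
      exact ⟨hwt.symm, (hnet w hwt).symm, (hnet w₁ (hnet w hwt)).symm⟩
    · simp only [Finset.mem_insert, Finset.mem_singleton, not_or]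
      exact ⟨ht1.symm, hw1.symm, (hne1 w hw1).symm, (hne1 w₁ (hne1 w hw1)).symm⟩
  exact absurd ((Finset.card_le_card hsub).trans hS4) (by omega)

variable {M : Ideal AlgInt} [M.IsMaximal] [CharP (ResField M) 2]

/-- The inertial quotient of a homocyclic pair of rank two acts freely. -/
theorem free_of_homocyclic (hM : IsPModular 2 M) {B e : MonoidAlgebra (ResField M) G}
    {P : Subgroup G} (hP : PairOf 2 B P e) (hno : NoExt 2 P e)
    (hab : ∀ x ∈ P, ∀ y ∈ P, x * y = y * x) {m : ℕ}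
    (h4 : Nat.card {w : P // w ^ 2 = 1} ≤ 4) (hexp : ∀ w ∈ P, w ^ 2 ^ (m + 1) = 1) :
    Free P (pairStab P e) := by
  intro g hg x hx hx1 hgx
  obtain ⟨r, hr, hgr⟩ := exists_pow_mem_centralizer hM hP hno hab hg
  refine mem_of_pow_mem (k := m + 1) hr hgr ?_
  obtain ⟨k, hk⟩ := (Nat.dvd_prime_pow Nat.prime_two).1 (orderOf_dvd_of_pow_eq_one (hexp x hx))
  obtain ⟨j, rfl⟩ : ∃ j, k = j + 1 := ⟨k - 1, by
    rcases k with _ | k
    · exact absurd (orderOf_eq_one_iff.1 (by simpa using hk.2)) hx1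
    · rfl⟩
  set t := x ^ 2 ^ j with ht
  have ht2 : t ^ 2 = 1 := by rw [ht, ← pow_mul, ← pow_succ, ← hk.2, pow_orderOf_eq_one]
  have ht1 : t ≠ 1 := fun h => by
    have := Nat.le_of_dvd (pow_pos two_pos _) (hk.2 ▸ orderOf_dvd_of_pow_eq_one h)
    rw [pow_succ] at this
    have := pow_pos (two_pos : 0 < 2) j
    omega
  have hgt : g * t * g⁻¹ = t := by rw [ht, ← conj_pow, hgx]
  have hfix := sq_fix_involutions h4 hg.1 (pow_mem hx _) ht2 ht1 hgt
  rw [Subgroup.mem_centralizer_iff]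
  intro w hw
  have h := conj_two_pow_fix hab (pow_mem hg.1 2) hfix m w hw (hexp w hw)
  rw [← pow_mul, ← pow_succ'] at h
  exact (mul_inv_eq_iff_eq_mul.1 h).symm

/-- The inertial index of a homocyclic pair of rank two is one or three. -/
theorem inertial_index_homocyclic (hM : IsPModular 2 M) {B : Set (IrrCharacter G)}
    (hB : IsPBlock M B) {P : Subgroup G} {e : MonoidAlgebra (ResField M) G}
    (hP : PairOf 2 (ebar hB) P e) (hno : NoExt 2 P e)
    (hab : ∀ x ∈ P, ∀ y ∈ P, x * y = y * x) {m : ℕ} (hcard : Nat.card P = 2 ^ (m + 1))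
    (h4 : Nat.card {w : P // w ^ 2 = 1} ≤ 4) (hfree : Free P (pairStab P e)) :
    ((Subgroup.centralizer (P : Set G)).relIndex (pairStab P e) = 1 ∨
      (Subgroup.centralizer (P : Set G)).relIndex (pairStab P e) = 3) := by
  haveI := Fintype.ofFinite G
  set C := Subgroup.centralizer (P : Set G)
  set S := pairStab P e
  have hCS : C ≤ S := fun c hc =>
    ⟨Subgroup.centralizer_le_normalizer _ hc, conjFixed_iff.mp hP.pair.block.mem.fixed c hc⟩
  obtain ⟨k, -, hk⟩ := exists_card_of_free hM hB hP hno hab hfree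
  obtain ⟨⟨t, ht⟩, ht0⟩ := exists_prime_orderOf_dvd_card' (G := P) 2 (hcard ▸ dvd_pow_self 2
    (Nat.succ_ne_zero m))
  rw [Subgroup.orderOf_mk] at ht0
  have ht1 : t ≠ 1 := fun h => by simp [h] at ht0
  have ht2 : t ^ 2 = 1 := ht0 ▸ pow_orderOf_eq_one t
  have horb := card_orbit_free hCS t fun y hy => ⟨fun h => hfree y hy t ht ht1 h, fun hc => by
    rw [← Subgroup.mem_centralizer_iff.1 hc t ht, mul_inv_cancel_right]⟩
  set O := Set.range fun y : S => (y : G) * t * (y : G)⁻¹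
  have hlt : Nat.card O < Nat.card {w : P // w ^ 2 = 1} := by
    have hmem : ∀ v : O, (v : G) ∈ P ∧ (v : G) ^ 2 = 1 ∧ (v : G) ≠ 1 := by
      rintro ⟨_, y, rfl⟩
      refine ⟨(Subgroup.mem_normalizer_iff.1 y.2.1 t).1 ht, by rw [conj_pow, ht2]; group,
        fun h => ht1 ?_⟩
      exact mul_left_cancel (mul_right_cancel (h.trans (by group : (1 : G) = y * 1 * (y : G)⁻¹)))
    let f : O → {w : P // w ^ 2 = 1} := fun v => ⟨⟨v, (hmem v).1⟩, Subtype.ext (hmem v).2.1⟩
    rw [Nat.card_eq_fintype_card, Nat.card_eq_fintype_card]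
    refine Fintype.card_lt_of_injective_of_notMem f
      (fun a b h => Subtype.ext (congrArg (fun z => (z.1 : G)) h)) (b := ⟨1, one_pow 2⟩) ?_
    rintro ⟨v, hv⟩
    exact (hmem v).2.2 (congrArg (fun z => (z.1 : G)) hv)
  rw [horb] at hlt
  have h3 : C.relIndex S ≤ 3 := by omega
  rw [hcard, pow_succ] at hk
  interval_cases h : C.relIndex S <;> omega

end CfsgLib.BlockRank
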