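import Cfsg.Agent.Lib.BlockRank.Contribution
import Cfsg.Agent.Lib.BlockRank.AvgForm

/-!
# The integral matrix `p ^ d ⟨φ°, θ°⟩` of a block and the rows of the contribution matrix
-/

set_option autoImplicit false

open scoped ComplexConjugate

namespace CfsgLib.BlockRank

universe u

variable {G : Type u} [Group G] [Fintype G] {p : ℕ} {M : Ideal Cfsg.AlgInt}

/-- The value at `w` of a linear form with coefficients `s` at the exponent vector `a`, `i`. -/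
noncomputable def linForm {κ : Type*} (T : Finset κ) (s : κ → ℤ) (a i : κ → ℕ) (w : ℂ) : ℂ :=
  ∑ φ ∈ T, (a φ : ℂ) * (s φ : ℂ) * w ^ i φ

theorem cycloForm_rank_one {κ : Type*} (T : Finset κ) (s t : κ → ℤ) (a b i j : κ → ℕ) (w : ℂ) :
    cycloForm T (fun φ θ => s φ * t θ) a b i j w =
      linForm T s a i w * conj (linForm T t b j w) := by
  simp only [cycloForm, linForm, map_sum, map_mul, map_natCast, map_intCast, Finset.sum_mul_sum]
  exact Finset.sum_congr rfl fun φ _ => Finset.sum_congr rfl fun θ _ => by push_cast; ring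

open CfsgLib.BlockReg in
/-- The integral matrix of a block of a group: symmetric, its square is `p ^ d` times itself,
its trace is `p ^ d l`, and modulo `M` it is a unit times the products of the degrees. -/
theorem exists_local_matrix [Fact p.Prime] (hM : Cfsg.IsPModular p M)
    {e : Set (Cfsg.IrrCharacter G)} [Fintype e] (he : Cfsg.IsPBlock M e) {d : ℕ}
    (hd : d + minExp p e = (Nat.card G).factorization p) :
    ∃ (c : ℂ) (Z : Cfsg.IrrCharacter G → Cfsg.IrrCharacter G → ℤ),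
      Cfsg.MemLocalRing M c ∧ ¬ Cfsg.MemLocalIdeal M c ∧
      (∀ φ θ, Z φ θ = Z θ φ) ∧
      (∀ φ ∈ e, ∀ θ ∈ e, (Z φ θ : ℂ) =
        ((p ^ d : ℕ) : ℂ) * ((Nat.card G : ℂ)⁻¹ * regPair p (φ : G → ℂ) (θ : G → ℂ))) ∧
      (∀ φ ∈ e.toFinset, ∀ θ ∈ e.toFinset,
        ∑ ψ ∈ e.toFinset, Z φ ψ * Z ψ θ = ((p ^ d : ℕ) : ℤ) * Z φ θ) ∧
      ∑ φ ∈ e.toFinset, Z φ φ = ((p ^ d * Cfsg.blockRank p e : ℕ) : ℤ) ∧
      ∀ φ ∈ e, ∀ θ ∈ e, Cfsg.MemLocalIdeal M ((Z φ θ : ℂ) -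
        c * ((Cfsg.charDegree (φ : G → ℂ) : ℂ) / ((p ^ minExp p e : ℕ) : ℂ)) *
          ((Cfsg.charDegree (θ : G → ℂ) : ℂ) / ((p ^ minExp p e : ℕ) : ℂ))) := by
  classical
  obtain ⟨c, hc, hc', -, hcN⟩ := exists_unit_congr hM he
  have hp0 : (p : ℂ) ≠ 0 := Nat.cast_ne_zero.mpr hM.1.ne_zero
  have hval : ∀ φ θ : Cfsg.IrrCharacter G,
      Cfsg.classInner (tilde p (φ : G → ℂ)) (θ : G → ℂ) / ((p ^ minExp p e : ℕ) : ℂ) =
        ((p ^ d : ℕ) : ℂ) * ((Nat.card G : ℂ)⁻¹ * regPair p (φ : G → ℂ) (θ : G → ℂ)) := by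
    intro φ θ
    rw [classInner_tilde_eq, ← hd, pow_add]
    push_cast
    field_simp
  have hN : ∀ φ θ : Cfsg.IrrCharacter G, ∃ z : ℤ, (φ ∈ e → θ ∈ e → (z : ℂ) =
      ((p ^ d : ℕ) : ℂ) * ((Nat.card G : ℂ)⁻¹ * regPair p (φ : G → ℂ) (θ : G → ℂ))) ∧
      (φ ∉ e ∨ θ ∉ e → z = 0) := by
    intro φ θ
    by_cases h : φ ∈ e ∧ θ ∈ e
    · obtain ⟨z, hz⟩ := exists_int_classInner_tilde (p := p) (G := G) hM.1 φ θ
      obtain ⟨w, hw⟩ : ((p ^ minExp p e : ℕ) : ℤ) ∣ z :=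
        dvd_trans (Int.natCast_dvd_natCast.mpr (Nat.pow_dvd_pow p (minExp_le h.1)))
          (dvd_coeff_iff hM φ θ z hz).1
      refine ⟨w, fun _ _ => ?_, fun h' => absurd h (by tauto)⟩
      rw [← hval, hz, hw, Int.cast_mul, Int.cast_natCast,
        mul_div_cancel_left₀ _ (Nat.cast_ne_zero.mpr (pow_ne_zero _ hM.1.ne_zero))]
    · exact ⟨0, fun h1 h2 => absurd ⟨h1, h2⟩ h, fun _ => rfl⟩
  choose Z hZ hZ0 using hN
  have hsymm : ∀ φ θ, Z φ θ = Z θ φ := by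
    intro φ θ
    by_cases h : φ ∈ e ∧ θ ∈ e
    · have h1 := congrArg conj (hZ φ θ h.1 h.2)
      simp only [map_intCast, map_mul, map_natCast, map_inv₀, regPair, map_sum,
        Complex.conj_conj] at h1
      have h2 := hZ θ φ h.2 h.1
      simp only [regPair] at h2
      rw [Finset.sum_congr rfl fun s _ => mul_comm _ _] at h1
      exact_mod_cast h1.trans h2.symm
    · rw [hZ0 φ θ (by tauto), hZ0 θ φ (by tauto)]
  have hcard : (Nat.card G : ℂ) ≠ 0 := Nat.cast_ne_zero.mpr Nat.card_pos.ne'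
  have hcl := regClosed_of_isPBlock hM he
  refine ⟨c, Z, hc, hc', hsymm, fun φ hφ θ hθ => hZ φ θ hφ hθ, fun φ hφ θ hθ => ?_, ?_,
    fun φ hφ θ hθ => ?_⟩
  · have hφ := Set.mem_toFinset.mp hφ
    have hθ := Set.mem_toFinset.mp hθ
    have h2 := CfsgLib.Char.classInner_eq_sum
      (isClassFunction_pRegularPart (p := p) (CfsgLib.Char.IsIrrCharacter.isClassFunction φ.2))
      (isClassFunction_pRegularPart (p := p) (CfsgLib.Char.IsIrrCharacter.isClassFunction θ.2))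
    rw [← classInner_pRegularPart_left, classInner_pRegularPart_eq,
      ← Finset.sum_subset (Finset.subset_univ e.toFinset) (fun ψ _ hψ => by
        rw [hcl φ hφ ψ (fun h => hψ (Set.mem_toFinset.mpr h)), zero_mul])] at h2
    apply Int.cast_injective (α := ℂ)
    push_cast
    rw [hZ φ θ hφ hθ, h2, Finset.mul_sum, Finset.mul_sum]
    refine Finset.sum_congr rfl fun ψ hψ => ?_
    rw [hsymm ψ θ, classInner_pRegularPart_eq, classInner_pRegularPart_eq,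
      hZ φ ψ hφ (Set.mem_toFinset.mp hψ),
      show (Z θ ψ : ℂ) = conj (Z θ ψ : ℂ) from (map_intCast _ _).symm,
      hZ θ ψ hθ (Set.mem_toFinset.mp hψ)]
    push_cast
    simp only [map_mul, map_pow, map_natCast]
    ring
  · apply Int.cast_injective (α := ℂ)
    rw [Int.cast_natCast, Nat.cast_mul, cast_blockRank_eq e hcl, Finset.mul_sum, Int.cast_sum,
      ← Finset.sum_subtype e.toFinset (fun x => Set.mem_toFinset)
        (fun φ : Cfsg.IrrCharacter G => ((p ^ d : ℕ) : ℂ) *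
          Cfsg.classInner (Cfsg.pRegularPart p (φ : G → ℂ)) (φ : G → ℂ))]
    exact Finset.sum_congr rfl fun φ hφ => by
      rw [hZ φ φ (Set.mem_toFinset.mp hφ) (Set.mem_toFinset.mp hφ), classInner_pRegularPart_eq]
  · have h := hcN φ hφ θ hθ
    rwa [hval, ← hZ φ θ hφ hθ] at h

/-- The contributions through the local matrix. -/
theorem contrib_eq_cycloForm {C : Subgroup G} {x : G} [Fintype C]
    {e : Set (Cfsg.IrrCharacter C)} [Fintype e] {ζ : ℂ} {d : ℕ}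
    {Z : Cfsg.IrrCharacter C → Cfsg.IrrCharacter C → ℤ}
    (hZ : ∀ φ ∈ e, ∀ θ ∈ e, (Z φ θ : ℂ) =
      ((p ^ d : ℕ) : ℂ) * ((Nat.card C : ℂ)⁻¹ * regPair p (φ : C → ℂ) (θ : C → ℂ)))
    (a i : Cfsg.IrrCharacter G → Cfsg.IrrCharacter C → ℕ)
    (hai : ∀ (χ : Cfsg.IrrCharacter G) (s : C),
      Cfsg.blockPart e (fun c : C => (χ : G → ℂ) (x * c)) s =
        ∑ φ ∈ e.toFinset, (a χ φ : ℂ) * ζ ^ i χ φ * (φ : C → ℂ) s)
    (χ ψ : Cfsg.IrrCharacter G) :
    contrib p d x e χ ψ = cycloForm e.toFinset Z (a χ) (a ψ) (i χ) (i ψ) ζ := by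
  classical
  simp only [contrib, cycloForm, regPair, hai, map_sum, map_mul, map_natCast, Finset.sum_mul,
    Finset.mul_sum]
  rw [Finset.sum_comm]
  conv_lhs => rw [Finset.sum_congr rfl fun _ _ => Finset.sum_comm]
  rw [Finset.sum_comm]
  refine Finset.sum_congr rfl fun φ hφ => Finset.sum_congr rfl fun θ hθ => ?_
  rw [hZ φ (Set.mem_toFinset.mp hφ) θ (Set.mem_toFinset.mp hθ), regPair]
  simp only [Finset.mul_sum, Finset.sum_mul]
  exact Finset.sum_congr rfl fun s _ => by ring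

/-- The rows `Z x` of a subsection have Gram matrix `p ^ d Z`. -/
theorem sum_row_mul_conj [Fact p.Prime] (hM : Cfsg.IsPModular p M) {C : Subgroup G} {x : G}
    (hC : C = Subgroup.centralizer {x}) (hx : ∃ k : ℕ, orderOf x = p ^ k) [Fintype C]
    {e : Set (Cfsg.IrrCharacter C)} [Fintype e] {B : Set (Cfsg.IrrCharacter G)} [Fintype B]
    (hind : Cfsg.IsInducedBlock M C e B) {ζ : ℂ} {d : ℕ}
    {Z : Cfsg.IrrCharacter C → Cfsg.IrrCharacter C → ℤ} (hsymm : ∀ φ θ, Z φ θ = Z θ φ)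
    (hZ : ∀ φ ∈ e, ∀ θ ∈ e, (Z φ θ : ℂ) =
      ((p ^ d : ℕ) : ℂ) * ((Nat.card C : ℂ)⁻¹ * regPair p (φ : C → ℂ) (θ : C → ℂ)))
    (hsq : ∀ φ ∈ e.toFinset, ∀ θ ∈ e.toFinset,
      ∑ ψ ∈ e.toFinset, Z φ ψ * Z ψ θ = ((p ^ d : ℕ) : ℤ) * Z φ θ)
    (a i : Cfsg.IrrCharacter G → Cfsg.IrrCharacter C → ℕ)
    (hai : ∀ (χ : Cfsg.IrrCharacter G) (s : C),
      Cfsg.blockPart e (fun c : C => (χ : G → ℂ) (x * c)) s =
        ∑ φ ∈ e.toFinset, (a χ φ : ℂ) * ζ ^ i χ φ * (φ : C → ℂ) s)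
    {φ θ : Cfsg.IrrCharacter C} (hφ : φ ∈ e) (hθ : θ ∈ e) :
    ∑ χ ∈ B.toFinset, linForm e.toFinset (fun ψ => Z ψ φ) (a χ) (i χ) ζ *
        conj (linForm e.toFinset (fun ψ => Z ψ θ) (a χ) (i χ) ζ) =
      (((p ^ d : ℕ) : ℤ) * Z φ θ : ℤ) := by
  classical
  let q : ℂ := ((p ^ d : ℕ) : ℂ) * (Nat.card C : ℂ)⁻¹
  have hrow : ∀ (η : Cfsg.IrrCharacter C), η ∈ e → ∀ f : C → ℂ, ∀ cf : Cfsg.IrrCharacter C → ℂ,
      (∀ s, f s = ∑ ψ ∈ e.toFinset, cf ψ * (ψ : C → ℂ) s) →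
      ∑ ψ ∈ e.toFinset, cf ψ * (Z ψ η : ℂ) = q * regPair p f (η : C → ℂ) := by
    intro η hη f cf hf
    simp only [regPair, hf, Finset.sum_mul, Finset.mul_sum]
    rw [Finset.sum_comm]
    refine Finset.sum_congr rfl fun ψ hψ => ?_
    rw [hZ ψ (Set.mem_toFinset.mp hψ) η hη, regPair]
    simp only [Finset.mul_sum, q]
    exact Finset.sum_congr rfl fun s _ => by ring
  have hlin : ∀ χ η, η ∈ e → linForm e.toFinset (fun ψ => Z ψ η) (a χ) (i χ) ζ =
      q * regPair p (Cfsg.blockPart e (fun c : C => (χ : G → ℂ) (x * c))) (η : C → ℂ) := by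
    intro χ η hη
    rw [← hrow η hη _ (fun ψ => (a χ ψ : ℂ) * ζ ^ i χ ψ) (hai χ)]
    exact Finset.sum_congr rfl fun ψ _ => by ring
  rw [Finset.sum_congr rfl fun χ _ => by rw [hlin χ φ hφ, hlin χ θ hθ]]
  have hirr : ∀ η η' : Cfsg.IrrCharacter C, η ∈ e → η' ∈ e →
      q * regPair p (η : C → ℂ) (η' : C → ℂ) = (Z η η' : ℂ) := fun η η' h h' => by
    rw [hZ η h η' h', mul_assoc]
  have hexp : ∀ {τ : Type u} (T : Finset τ) (F : τ → C → ℂ),
      ∑ t ∈ T, q * regPair p (F t) (φ : C → ℂ) * conj (q * regPair p (F t) (θ : C → ℂ)) =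
        ∑ s ∈ regSet p, ∑ s' ∈ regSet p, q * conj q * conj ((φ : C → ℂ) s) * (θ : C → ℂ) s' *
          ∑ t ∈ T, F t s * conj (F t s') := by
    intro τ T F
    simp only [regPair, map_sum, map_mul, Complex.conj_conj, Finset.sum_mul, Finset.mul_sum]
    rw [Finset.sum_comm]
    rw [Finset.sum_congr rfl fun _ _ => Finset.sum_comm, Finset.sum_comm]
    exact Finset.sum_congr rfl fun s _ => Finset.sum_congr rfl fun s' _ =>
      Finset.sum_congr rfl fun t _ => by ring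
  rw [hexp, Finset.sum_congr rfl fun s hs => Finset.sum_congr rfl fun s' hs' => by
    rw [sum_blockPart_translate_mul_conj hM hC hx hind (Finset.mem_filter.mp hs).2
      (Finset.mem_filter.mp hs').2], ← hexp]
  rw [← hsq φ (Set.mem_toFinset.mpr hφ) θ (Set.mem_toFinset.mpr hθ)]
  push_cast
  refine Finset.sum_congr rfl fun ψ hψ => ?_
  have hψ := Set.mem_toFinset.mp hψ
  rw [hirr ψ φ hψ hφ, hirr ψ θ hψ hθ, map_intCast, hsymm ψ φ]

end CfsgLib.BlockRank
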