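import Cfsg.Agent.Lib.BlockRank.MinNorm
import Cfsg.Agent.Lib.BlockRank.RankOneMajor
import Cfsg.Agent.Lib.BlockRank.BrauerFeit

/-!
# The least norm of a major subsection bounds the number of characters, whatever the heights
-/

set_option autoImplicit false
set_option maxHeartbeats 800000

open scoped ComplexConjugate
open Cfsg CfsgLib.BlockReg

namespace CfsgLib.BlockRank

universe u

variable {G : Type u} [Group G] {p : ℕ} {M : Ideal Cfsg.AlgInt}

/-- A major subsection whose local form has no nonzero value below `c` bounds the number of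
characters by `p ^ d * l / c`. -/
theorem card_mul_le_of_major [Fintype G] [Fact p.Prime] (hM : IsPModular p M) {C : Subgroup G}
    {x : G} (hC : C = Subgroup.centralizer {x}) {k : ℕ} (hx : orderOf x = p ^ k) [Fintype C]
    {e : Set (IrrCharacter C)} [Fintype e] {B : Set (IrrCharacter G)} [Fintype B]
    (hind : IsInducedBlock M C e B) (hdef : blockDefect p e = blockDefect p B) {c₀ : ℤ}
    (hmin : ∀ Z : IrrCharacter C → IrrCharacter C → ℤ,
      (∀ φ ∈ e, ∀ θ ∈ e, (Z φ θ : ℂ) = ((p ^ blockDefect p B : ℕ) : ℂ) *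
        ((Nat.card C : ℂ)⁻¹ * regPair p (φ : C → ℂ) (θ : C → ℂ))) →
      ∀ u, zForm e.toFinset Z u u ≠ 0 → c₀ ≤ zForm e.toFinset Z u u) :
    (B.toFinset.card : ℤ) * c₀ ≤ ((p ^ blockDefect p B * blockRank p e : ℕ) : ℤ) := by
  classical
  have hp : p.Prime := Fact.out
  set d := blockDefect p B with hdB
  have hd : d + minExp p e = (Nat.card C).factorization p := by
    rw [← hdef]; exact CfsgLib.BrauerFeit.defect_add_minExp hM hind.1
  set n := p ^ k with hn
  have hn0 : 0 < n := Nat.pow_pos hp.pos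
  let ζ := Complex.exp (2 * Real.pi * Complex.I / n)
  have hζ : IsPrimitiveRoot ζ n := Complex.isPrimitiveRoot_exp n hn0.ne'
  have hζx : IsPrimitiveRoot ζ (orderOf x) := by rw [hx]; exact hζ
  obtain ⟨c, Z, hc, hc', hZ, hval, hsq, htr, hcong⟩ := exists_local_matrix hM hind.1 hd
  choose a i hai using exists_blockPart_translate (G := G) hC hζx
  set T := e.toFinset with hT
  set N : ℤ := ((p ^ d : ℕ) : ℤ) with hN
  have hN0 : 0 < N := by rw [hN]; exact_mod_cast Nat.pow_pos (n := d) hp.pos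
  set m : ℤ := ((primitiveRoots n ℂ).card : ℤ) with hm
  have hm0 : 0 < m := by
    rw [hm]
    exact_mod_cast Finset.card_pos.mpr ⟨ζ, (mem_primitiveRoots hn0).mpr hζ⟩
  have hcf : ∀ χ ψ, contrib p d x e χ ψ = cycloForm T Z (a χ) (a ψ) (i χ) (i ψ) ζ :=
    contrib_eq_cycloForm (d := d) hval a i fun χ s => (hai χ).2 e s
  obtain ⟨ψ₀, hψ₀, hψ₀m⟩ := exists_minExp (p := p) (block_nonempty hM hind.2.1)
  have hdiag : ∀ χ ∈ B, contrib p d x e χ χ ≠ 0 := by
    intro χ hχ h0
    have h := sum_contrib_mul_conj hM hC ⟨k, hx⟩ hind d χ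
    simp only [h0, mul_zero, Complex.mul_conj] at h
    have h' : ∑ ψ ∈ B.toFinset, Complex.normSq (contrib p d x e χ ψ) = 0 := by exact_mod_cast h
    exact contrib_ne_zero hM hC ⟨k, hx⟩ hind hdef hχ hψ₀ hψ₀m (Complex.normSq_eq_zero.mp
      ((Finset.sum_eq_zero_iff_of_nonneg fun ψ _ => Complex.normSq_nonneg _).mp h' ψ₀
        (Set.mem_toFinset.mpr hψ₀)))
  have hpsd := zForm_self_nonneg hZ hN0 hsq
  have hc2 := hmin Z hval
  have hex : ∀ χ, ∃ S : ℤ, χ ∈ B →
      ∑ w ∈ primitiveRoots n ℂ, cycloForm T Z (a χ) (a χ) (i χ) (i χ) w = (S : ℂ) ∧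
        c₀ * m ≤ S := by
    intro χ
    by_cases hχ : χ ∈ B
    · obtain ⟨S, hS⟩ := avg_form_ge (T := T) hp k hZ hpsd (a χ) (i χ) hζ
        (by rw [← hcf]; exact hdiag χ hχ) hc2
      exact ⟨S, fun _ => hS⟩
    · exact ⟨0, fun h => absurd h hχ⟩
  choose S hS using hex
  have htot : ∑ χ ∈ B.toFinset, S χ = ((p ^ d * blockRank p e : ℕ) : ℤ) * m := by
    apply Int.cast_injective (α := ℂ)
    rw [Int.cast_sum, Int.cast_mul, hm, Int.cast_natCast (primitiveRoots n ℂ).card,
      ← sum_sum_cycloForm hn0 hζ B.toFinset Z a i _ (by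
        rw [Int.cast_natCast, Nat.cast_mul, ← sum_contrib_self hM hC ⟨k, hx⟩ hind d]
        exact Finset.sum_congr rfl fun χ _ => (hcf χ χ).symm)]
    exact Finset.sum_congr rfl fun χ hχ => (hS χ (Set.mem_toFinset.mp hχ)).1.symm
  have hlow := Finset.card_nsmul_le_sum B.toFinset S (c₀ * m)
    fun χ hχ => (hS χ (Set.mem_toFinset.mp hχ)).2
  rw [htot, nsmul_eq_mul] at hlow
  rw [← mul_assoc] at hlow
  exact le_of_mul_le_mul_right hlow hm0

end CfsgLib.BlockRank
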