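import Cfsg.Agent.Lib.BlockRank.Contribution

/-!
# Divisibility of the contributions of a major subsection by the heights
-/

set_option autoImplicit false

open scoped ComplexConjugate

namespace CfsgLib.BlockRank

universe u

variable {G : Type u} [Group G] [Fintype G] {p : ℕ} {M : Ideal Cfsg.AlgInt}

omit [Fintype G] in
theorem card_centralizer_translate [Finite G] [Fact p.Prime] {C : Subgroup G} {x : G}
    (hC : C = Subgroup.centralizer {x}) {k : ℕ} (hx : orderOf x = p ^ k) (s : C)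
    (hs : Cfsg.IsPRegular p s) :
    Nat.card (Subgroup.centralizer ({x * (s : G)} : Set G)) =
      Nat.card (Subgroup.centralizer ({s} : Set C)) := by
  have hp : p.Prime := Fact.out
  have hmem : ∀ y : G, y ∈ C ↔ y * x = x * y := fun y => by
    rw [hC, Subgroup.mem_centralizer_singleton_iff]
  have hpart : Cfsg.IsPPart p (x * (s : G)) x :=
    CfsgLib.Blocks.isPPart_of_commute ((hmem s).mp s.2).symm hx
      (by unfold Cfsg.IsPRegular at hs; rwa [Subgroup.orderOf_coe])
  have hin : ∀ y : G, y * (x * (s : G)) = x * s * y → y ∈ C := by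
    intro y hy
    have h1 := CfsgLib.Blocks.IsPPart.conj hpart y
    rw [hy, mul_inv_cancel_right] at h1
    exact (hmem y).mpr (mul_inv_eq_iff_eq_mul.mp (CfsgLib.Blocks.IsPPart.unique hp h1 hpart))
  refine Nat.card_congr
    { toFun := fun y => ⟨⟨(y : G), hin y (Subgroup.mem_centralizer_singleton_iff.mp y.2)⟩, ?_⟩
      invFun := fun y => ⟨((y : C) : G), ?_⟩
      left_inv := fun y => rfl
      right_inv := fun y => rfl }
  · have hy := Subgroup.mem_centralizer_singleton_iff.mp y.2
    have hyx := (hmem y).mp (hin y hy)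
    rw [Subgroup.mem_centralizer_singleton_iff]
    refine Subtype.ext ?_
    simp only [Subgroup.coe_mul]
    rw [← mul_assoc, hyx, mul_assoc, mul_assoc] at hy
    exact mul_left_cancel hy
  · rw [Subgroup.mem_centralizer_singleton_iff]
    have hy : ((y : C) : G) * s = s * (y : C) :=
      congrArg Subtype.val (Subgroup.mem_centralizer_singleton_iff.mp y.2)
    rw [← mul_assoc, (hmem _).mp (y : C).2, mul_assoc, hy, mul_assoc]

open CfsgLib.BlockReg in
/-- The regular pairing of a translate with a character of the centralizer, through central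
characters. -/
theorem regPair_translate_eq [Fact p.Prime] {C : Subgroup G} {x : G}
    (hC : C = Subgroup.centralizer {x}) {k : ℕ} (hx : orderOf x = p ^ k) [Fintype C]
    [Fintype (ConjClasses C)] (χ : Cfsg.IrrCharacter G) (θ : Cfsg.IrrCharacter C) :
    (Nat.card C : ℂ)⁻¹ * regPair p (fun c : C => (χ : G → ℂ) (x * c)) (θ : C → ℂ) =
      (Cfsg.charDegree (χ : G → ℂ) : ℂ) / (Nat.card G : ℂ) *
        ∑ K : ConjClasses C, Cfsg.pRegularPart p
          (fun s : C => Cfsg.centralChar (χ : G → ℂ) (x * s) * conj ((θ : C → ℂ) s))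
          (Quotient.out K) := by
  classical
  have hxs : ∀ s : C, ∀ g : C, Cfsg.centralChar (χ : G → ℂ) (x * ((g * s * g⁻¹ : C) : G)) =
      Cfsg.centralChar (χ : G → ℂ) (x * s) := by
    intro s g
    refine (centralChar_congr_isConj χ (isConj_iff.mpr ⟨(g : G), ?_⟩)).symm
    have hg : (g : G) * x = x * g :=
      Subgroup.mem_centralizer_singleton_iff.mp (hC ▸ g.2 : (g : G) ∈ Subgroup.centralizer {x})
    simp only [Subgroup.coe_mul, InvMemClass.coe_inv]
    rw [← mul_assoc, hg]
    group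
  set F : C → ℂ := Cfsg.pRegularPart p
    (fun s : C => Cfsg.centralChar (χ : G → ℂ) (x * s) * conj ((θ : C → ℂ) s)) with hF
  have hFclass : ∀ s t : C, IsConj s t → F s = F t := by
    intro s t hst
    obtain ⟨g, rfl⟩ := isConj_iff.mp hst
    rw [hF]
    refine (isClassFunction_pRegularPart (p := p) (fun a b => ?_) s g).symm
    rw [hxs a b, CfsgLib.Char.IsIrrCharacter.isClassFunction θ.2 a b]
  have hsum : regPair p (fun c : C => (χ : G → ℂ) (x * c)) (θ : C → ℂ) =
      (Cfsg.charDegree (χ : G → ℂ) : ℂ) / (Nat.card G : ℂ) *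
        ∑ s : C, (Nat.card (Subgroup.centralizer ({s} : Set C)) : ℂ) * F s := by
    rw [regPair, regSet, Finset.sum_filter, Finset.mul_sum]
    refine Finset.sum_congr rfl fun s _ => ?_
    rw [hF, pRegularPart_apply]
    split_ifs with hs
    · rw [← card_centralizer_translate hC hx s hs, char_eq_centralChar_mul χ (x * (s : G))]
      have hcs : (csize (x * (s : G)) : ℂ) ≠ 0 := Nat.cast_ne_zero.mpr (csize_ne_zero _)
      have hG : (Nat.card G : ℂ) ≠ 0 := Nat.cast_ne_zero.mpr Nat.card_pos.ne'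
      have hprod : (Nat.card (Subgroup.centralizer ({x * (s : G)} : Set G)) : ℂ) *
          csize (x * (s : G)) = Nat.card G := by exact_mod_cast csize_mul_card (x * (s : G))
      field_simp
      linear_combination (-(Cfsg.centralChar (χ : G → ℂ) (x * (s : G)) * conj ((θ : C → ℂ) s) *
        (Cfsg.charDegree (χ : G → ℂ) : ℂ))) * hprod
    · simp
  have hcl : ∑ s : C, (Nat.card (Subgroup.centralizer ({s} : Set C)) : ℂ) * F s =
      (Nat.card C : ℂ) * ∑ K : ConjClasses C, F (Quotient.out K) := by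
    rw [← CfsgLib.Char.sum_centralizer_mul (fun K : ConjClasses C => F (Quotient.out K))]
    refine Finset.sum_congr rfl fun s _ => ?_
    congr 1
    refine hFclass _ _ (IsConj.symm ?_)
    exact ConjClasses.mk_eq_mk_iff_isConj.mp (Quotient.out_eq (ConjClasses.mk s))
  have hcardC : (Nat.card C : ℂ) ≠ 0 := Nat.cast_ne_zero.mpr Nat.card_pos.ne'
  rw [hsum, hcl]
  field_simp

open CfsgLib.BlockReg in
/-- The contributions of a major subsection are divisible by the heights, and whether the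
quotient lies in `M` does not depend on the first character. -/
theorem exists_contrib_divisible [Fact p.Prime] (hM : Cfsg.IsPModular p M) {C : Subgroup G}
    {x : G} (hC : C = Subgroup.centralizer {x}) {k : ℕ} (hx : orderOf x = p ^ k) [Fintype C]
    {ζ : ℂ} (hζ : IsPrimitiveRoot ζ (orderOf x))
    {e : Set (Cfsg.IrrCharacter C)} [Fintype e] {B : Set (Cfsg.IrrCharacter G)}
    (hB : Cfsg.IsPBlock M B) (hind : Cfsg.IsInducedBlock M C e B) {d : ℕ}
    (hd : d + minExp p e = (Nat.card C).factorization p)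
    (hdB : d + minExp p B = (Nat.card G).factorization p) :
    ∃ Y : Cfsg.IrrCharacter G → Cfsg.IrrCharacter G → ℂ,
      (∀ χ ∈ B, ∀ ψ, IsIntegral ℤ (Y χ ψ) ∧ contrib p d x e χ ψ =
        ((p ^ ((Cfsg.charDegree (χ : G → ℂ)).factorization p - minExp p B) : ℕ) : ℂ) * Y χ ψ) ∧
      ∀ χ ∈ B, ∀ χ' ∈ B, ∀ ψ, Cfsg.MemLocalIdeal M (Y χ ψ) → Cfsg.MemLocalIdeal M (Y χ' ψ) := by
  classical
  have hp : p.Prime := Fact.out
  have := Fintype.ofFinite (ConjClasses C)
  obtain ⟨m, i, Z, -, hform, -⟩ := exists_contrib_form hM hC hζ hind hd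
  choose n j hnj using exists_blockPart_translate (G := G) hC hζ
  set a := (Nat.card G).factorization p with ha
  -- the local sum of central character values
  let K : Cfsg.IrrCharacter G → Cfsg.IrrCharacter G → ℂ := fun χ ψ =>
    ∑ θ ∈ e.toFinset, conj ((n ψ θ : ℂ) * ζ ^ j ψ θ) * ∑ L : ConjClasses C, Cfsg.pRegularPart p
      (fun s : C => Cfsg.centralChar (χ : G → ℂ) (x * s) * conj ((θ : C → ℂ) s)) (Quotient.out L)
  have hKint : ∀ χ ψ, IsIntegral ℤ (K χ ψ) := by
    intro χ ψ
    refine IsIntegral.sum _ fun θ _ => IsIntegral.mul ?_ (IsIntegral.sum _ fun L _ => ?_)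
    · exact ((isIntegral_natCast _).mul ((hζ.isIntegral (orderOf_pos x)).pow _)).map
        (RingHom.toIntAlgHom (starRingEnd ℂ))
    · rw [pRegularPart_apply]
      split_ifs
      · refine (isIntegral_centralChar χ _).mul ?_
        rw [← char_inv]
        exact isIntegral_char θ _
      · exact isIntegral_zero
  -- the contribution through `K`
  have hK : ∀ χ ψ, (Nat.card G : ℂ) * contrib p d x e χ ψ =
      ((p ^ d : ℕ) : ℂ) * (Cfsg.charDegree (χ : G → ℂ) : ℂ) * K χ ψ := by
    intro χ ψ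
    have hproj : ∀ θ ∈ e.toFinset,
        regPair p (Cfsg.blockPart e (fun c : C => (χ : G → ℂ) (x * c))) (θ : C → ℂ) =
          regPair p (fun c : C => (χ : G → ℂ) (x * c)) (θ : C → ℂ) := by
      intro θ hθ
      have hfull : ∀ c : C, (χ : G → ℂ) (x * c) =
          ∑ φ : Cfsg.IrrCharacter C, (n χ φ : ℂ) * ζ ^ j χ φ * (φ : C → ℂ) c := by
        intro c
        have h := (hnj χ).2 Set.univ c
        rw [Set.toFinset_univ] at h
        rw [← h, blockPart_apply, Set.toFinset_univ]
        conv_lhs => rw [show (χ : G → ℂ) (x * c) = (fun c : C => (χ : G → ℂ) (x * c)) c from rfl,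
          CfsgLib.Char.IsClassFunction.eq_sum_classInner (isClassFunction_translate hC χ)]
        rw [Finset.sum_apply]
        exact Finset.sum_congr rfl fun φ _ => by rw [Pi.smul_apply, smul_eq_mul]
      simp only [regPair, (hnj χ).2 e]
      simp only [hfull, Finset.sum_mul]
      rw [Finset.sum_comm, Finset.sum_comm (s := regSet p)]
      refine Finset.sum_subset (Finset.subset_univ _) fun φ _ hφ => ?_
      have h0 := regClosed_of_isPBlock hM hind.1 θ (Set.mem_toFinset.mp hθ) φ
        (fun h => hφ (Set.mem_toFinset.mpr h))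
      rw [classInner_pRegularPart_eq, mul_eq_zero] at h0
      have h1 := congrArg conj (h0.resolve_left (inv_ne_zero
        (Nat.cast_ne_zero.mpr Nat.card_pos.ne')))
      simp only [regPair, map_sum, map_mul, Complex.conj_conj, map_zero] at h1
      calc ∑ s ∈ regSet p, (n χ φ : ℂ) * ζ ^ j χ φ * (φ : C → ℂ) s * conj ((θ : C → ℂ) s)
          = (n χ φ : ℂ) * ζ ^ j χ φ *
              ∑ s ∈ regSet p, conj ((θ : C → ℂ) s) * (φ : C → ℂ) s := by
            rw [Finset.mul_sum]
            exact Finset.sum_congr rfl fun s _ => by ring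
        _ = 0 := by rw [h1, mul_zero]
    have hexp : regPair p (Cfsg.blockPart e (fun c : C => (χ : G → ℂ) (x * c)))
        (Cfsg.blockPart e (fun c : C => (ψ : G → ℂ) (x * c))) =
        ∑ θ ∈ e.toFinset, conj ((n ψ θ : ℂ) * ζ ^ j ψ θ) *
          regPair p (fun c : C => (χ : G → ℂ) (x * c)) (θ : C → ℂ) := by
      rw [Finset.sum_congr rfl fun θ hθ => by rw [← hproj θ hθ]]
      simp only [regPair, (hnj ψ).2 e, map_sum, map_mul, Finset.mul_sum]
      rw [Finset.sum_comm]
      exact Finset.sum_congr rfl fun θ _ => Finset.sum_congr rfl fun s _ => by ring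
    rw [contrib, hexp]
    simp only [K, Finset.mul_sum]
    refine Finset.sum_congr rfl fun θ _ => ?_
    have hG : (Nat.card G : ℂ) ≠ 0 := Nat.cast_ne_zero.mpr Nat.card_pos.ne'
    rw [mul_left_comm (Nat.card C : ℂ)⁻¹, regPair_translate_eq hC hx χ θ, ← Finset.mul_sum]
    simp only [← Finset.mul_sum]
    field_simp
  have hint : ∀ χ ψ, IsIntegral ℤ (contrib p d x e χ ψ) := by
    intro χ ψ
    rw [hform, cycloForm]
    exact IsIntegral.sum _ fun φ _ => IsIntegral.sum _ fun θ _ =>
      (((isIntegral_natCast _).mul (isIntegral_natCast _)).mul (isIntegral_intCast _)).mul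
        (((hζ.isIntegral (orderOf_pos x)).pow _).mul
          (((hζ.isIntegral (orderOf_pos x)).pow _).map (RingHom.toIntAlgHom (starRingEnd ℂ))))
  -- split off the powers of `p`
  obtain ⟨g', hg', hgG⟩ : ∃ g' : ℕ, ¬ p ∣ g' ∧ Nat.card G = p ^ a * g' :=
    ⟨Nat.card G / p ^ a, Nat.not_dvd_ordCompl hp Nat.card_pos.ne',
      (Nat.ordProj_mul_ordCompl_eq_self _ p).symm⟩
  have key : ∀ χ ∈ B, ∃ c : ℕ, ¬ p ∣ c ∧ ∀ ψ, (g' : ℂ) * contrib p d x e χ ψ =
      ((p ^ ((Cfsg.charDegree (χ : G → ℂ)).factorization p - minExp p B) : ℕ) : ℂ) *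
        ((c : ℂ) * K χ ψ) := by
    intro χ hχ
    set b := (Cfsg.charDegree (χ : G → ℂ)).factorization p with hb
    refine ⟨Cfsg.charDegree (χ : G → ℂ) / p ^ b, Nat.not_dvd_ordCompl hp (deg_pos χ).ne',
      fun ψ => ?_⟩
    have hdeg : (Cfsg.charDegree (χ : G → ℂ) : ℂ) =
        ((p ^ b : ℕ) : ℂ) * ((Cfsg.charDegree (χ : G → ℂ) / p ^ b : ℕ) : ℂ) := by
      rw [← Nat.cast_mul, hb, Nat.ordProj_mul_ordCompl_eq_self]
    have hexp : p ^ d * p ^ b = p ^ a * p ^ (b - minExp p B) := by
      rw [← pow_add, ← pow_add]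
      congr 1
      have := minExp_le (p := p) hχ
      omega
    have h := hK χ ψ
    rw [hgG, hdeg, Nat.cast_mul] at h
    refine mul_left_cancel₀ (Nat.cast_ne_zero.mpr (pow_ne_zero a hp.ne_zero) :
      ((p ^ a : ℕ) : ℂ) ≠ 0) ?_
    rw [← mul_assoc, h, ← mul_assoc ((p ^ a : ℕ) : ℂ), ← Nat.cast_mul (p ^ a), ← hexp, Nat.cast_mul]
    ring
  refine ⟨fun χ ψ => contrib p d x e χ ψ /
      ((p ^ ((Cfsg.charDegree (χ : G → ℂ)).factorization p - minExp p B) : ℕ) : ℂ),
    fun χ hχ ψ => ⟨?_, ?_⟩, fun χ hχ χ' hχ' ψ hY => ?_⟩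
  · obtain ⟨c, -, hc⟩ := key χ hχ
    set h := (Cfsg.charDegree (χ : G → ℂ)).factorization p - minExp p B with hh
    have hcop : Nat.Coprime g' (p ^ h) :=
      Nat.Coprime.pow_right _ ((hp.coprime_iff_not_dvd.mpr hg').symm)
    have hbez := Nat.gcd_eq_gcd_ab g' (p ^ h)
    rw [hcop.gcd_eq_one, Nat.cast_one] at hbez
    have hph : ((p ^ h : ℕ) : ℂ) ≠ 0 := Nat.cast_ne_zero.mpr (pow_ne_zero _ hp.ne_zero)
    have hbezC : (1 : ℂ) = (g' : ℂ) * (Nat.gcdA g' (p ^ h) : ℂ) +
        ((p ^ h : ℕ) : ℂ) * (Nat.gcdB g' (p ^ h) : ℂ) := by exact_mod_cast hbez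
    have heq : contrib p d x e χ ψ / ((p ^ h : ℕ) : ℂ) =
        (Nat.gcdA g' (p ^ h) : ℂ) * ((c : ℂ) * K χ ψ) +
          (Nat.gcdB g' (p ^ h) : ℂ) * contrib p d x e χ ψ := by
      rw [div_eq_iff hph]
      linear_combination (contrib p d x e χ ψ) * hbezC + (Nat.gcdA g' (p ^ h) : ℂ) * hc ψ
    beta_reduce
    rw [heq]
    exact ((isIntegral_intCast _).mul ((isIntegral_natCast _).mul (hKint χ ψ))).add
      ((isIntegral_intCast _).mul (hint χ ψ))
  · rw [mul_div_cancel₀ _ (Nat.cast_ne_zero.mpr (pow_ne_zero _ hp.ne_zero))]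
  · obtain ⟨c, hc0, hc⟩ := key χ hχ
    obtain ⟨c', hc0', hc'⟩ := key χ' hχ'
    have hKK : Cfsg.MemLocalIdeal M (K χ' ψ - K χ ψ) := by
      simp only [K, ← Finset.sum_sub_distrib, ← mul_sub]
      refine memIdeal_sum hM _ fun θ _ => memIdeal_mul_left hM (memRing_algInt hM ?_)
        (memIdeal_sum hM _ fun L _ => ?_)
      · exact ((isIntegral_natCast _).mul ((hζ.isIntegral (orderOf_pos x)).pow _)).map
          (RingHom.toIntAlgHom (starRingEnd ℂ))
      · rw [pRegularPart_apply, pRegularPart_apply]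
        split_ifs
        · rw [← sub_mul]
          exact memIdeal_mul_right hM (block_congr hM hB hχ' hχ _)
            (by rw [← char_inv]; exact memRing_char hM θ _)
        · rw [sub_self]; exact memIdeal_zero hM
    have hK1 : ∀ (χ₁ : Cfsg.IrrCharacter G) (c₁ : ℕ), ¬ p ∣ c₁ →
        (∀ ψ, (g' : ℂ) * contrib p d x e χ₁ ψ =
          ((p ^ ((Cfsg.charDegree (χ₁ : G → ℂ)).factorization p - minExp p B) : ℕ) : ℂ) *
            ((c₁ : ℂ) * K χ₁ ψ)) →
        (Cfsg.MemLocalIdeal M (contrib p d x e χ₁ ψ /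
          ((p ^ ((Cfsg.charDegree (χ₁ : G → ℂ)).factorization p - minExp p B) : ℕ) : ℂ)) ↔
            Cfsg.MemLocalIdeal M (K χ₁ ψ)) := by
      intro χ₁ c₁ hc₁ hkey
      have hph : ((p ^ ((Cfsg.charDegree (χ₁ : G → ℂ)).factorization p - minExp p B) : ℕ) : ℂ) ≠
          0 := Nat.cast_ne_zero.mpr (pow_ne_zero _ hp.ne_zero)
      have hg0 : (g' : ℂ) ≠ 0 := Nat.cast_ne_zero.mpr fun h => hg' (h ▸ dvd_zero p)
      have hc10 : (c₁ : ℂ) ≠ 0 := Nat.cast_ne_zero.mpr fun h => hc₁ (h ▸ dvd_zero p)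
      constructor
      · intro h
        have heq : K χ₁ ψ = ((g' : ℂ) * ((c₁ : ℂ)⁻¹)) * (contrib p d x e χ₁ ψ /
            ((p ^ ((Cfsg.charDegree (χ₁ : G → ℂ)).factorization p - minExp p B) : ℕ) : ℂ)) := by
          field_simp
          linear_combination -(hkey ψ)
        rw [heq]
        exact memIdeal_mul_left hM (memRing_mul hM (memRing_natCast hM _)
          (memRing_inv_natCast hM hc₁)) h
      · intro h
        have heq : contrib p d x e χ₁ ψ /
            ((p ^ ((Cfsg.charDegree (χ₁ : G → ℂ)).factorization p - minExp p B) : ℕ) : ℂ) =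
            ((c₁ : ℂ) * ((g' : ℂ)⁻¹)) * K χ₁ ψ := by
          field_simp
          linear_combination hkey ψ
        rw [heq]
        exact memIdeal_mul_left hM (memRing_mul hM (memRing_natCast hM _)
          (memRing_inv_natCast hM hg')) h
    have h1 := (hK1 χ c hc0 hc).mp hY
    refine (hK1 χ' c' hc0' hc').mpr ?_
    simpa using memIdeal_add hM hKK h1

end CfsgLib.BlockRank
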