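import Cfsg.Agent.Lib.BlockRank.RankTwoMajor
import Cfsg.Agent.Lib.BlockRank.CentralQuot
import Cfsg.Agent.Lib.BlockPrincipal.LatticeBound
import Cfsg.Agent.Lib.BlockReg.Bounds

/-!
# The least norm of a local block bounds the number of characters of a block
-/

set_option autoImplicit false
set_option maxHeartbeats 800000

open scoped ComplexConjugate
open Cfsg CfsgLib.BlockReg

namespace CfsgLib.BlockRank

universe u

variable {G : Type u} [Group G] {p : ℕ} {M : Ideal Cfsg.AlgInt}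

/-- The local form of a block is `p^d` times the pairing on regular elements. -/
theorem zForm_eq_regPair [Fintype G] (T : Finset (IrrCharacter G)) (d : ℕ)
    (Z : IrrCharacter G → IrrCharacter G → ℤ)
    (hZ : ∀ φ ∈ T, ∀ θ ∈ T, (Z φ θ : ℂ) =
      ((p ^ d : ℕ) : ℂ) * ((Nat.card G : ℂ)⁻¹ * regPair p (φ : G → ℂ) (θ : G → ℂ)))
    (u v : IrrCharacter G → ℤ) :
    (zForm T Z u v : ℂ) = ((p ^ d : ℕ) : ℂ) * ((Nat.card G : ℂ)⁻¹ *
      regPair p (fun g => ∑ φ ∈ T, (u φ : ℂ) * (φ : G → ℂ) g)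
        (fun g => ∑ φ ∈ T, (v φ : ℂ) * (φ : G → ℂ) g)) := by
  simp only [zForm, regPair, map_sum, map_mul, map_intCast, Finset.sum_mul, Finset.mul_sum]
  push_cast
  conv_rhs => rw [Finset.sum_comm]
  conv_rhs => rw [Finset.sum_congr rfl fun _ _ => Finset.sum_comm]
  conv_rhs => rw [Finset.sum_comm]
  refine Finset.sum_congr rfl fun φ hφ => Finset.sum_congr rfl fun θ hθ => ?_
  rw [hZ φ hφ θ hθ, regPair]
  simp only [Finset.mul_sum, Finset.sum_mul]
  exact Finset.sum_congr rfl fun s _ => by push_cast; ring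

/-- A major subsection whose local form has no nonzero value below the rank bounds the number of
characters of a block of height zero by the order of the defect group. -/
theorem card_le_of_norm_ge [Fintype G] [Fact p.Prime] (hM : IsPModular p M) {C : Subgroup G}
    {x : G} (hC : C = Subgroup.centralizer {x}) {k : ℕ} (hx : orderOf x = p ^ k) [Fintype C]
    {e : Set (IrrCharacter C)} [Fintype e] {B : Set (IrrCharacter G)} [Fintype B]
    (hind : IsInducedBlock M C e B) {d : ℕ}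
    (hd : d + minExp p e = (Nat.card C).factorization p)
    (hh : ∀ χ ∈ B, (charDegree (χ : G → ℂ)).factorization p = minExp p B)
    (hmin : ∀ Z : IrrCharacter C → IrrCharacter C → ℤ,
      (∀ φ ∈ e, ∀ θ ∈ e, (Z φ θ : ℂ) =
        ((p ^ d : ℕ) : ℂ) * ((Nat.card C : ℂ)⁻¹ * regPair p (φ : C → ℂ) (θ : C → ℂ))) →
      ∀ u, zForm e.toFinset Z u u ≠ 0 → (blockRank p e : ℤ) ≤ zForm e.toFinset Z u u) :
    B.toFinset.card ≤ p ^ d := by
  classical
  have hp : p.Prime := Fact.out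
  set n := p ^ k with hn
  have hn0 : 0 < n := Nat.pow_pos hp.pos
  let ζ := Complex.exp (2 * Real.pi * Complex.I / n)
  have hζ : IsPrimitiveRoot ζ n := Complex.isPrimitiveRoot_exp n hn0.ne'
  have hζx : IsPrimitiveRoot ζ (orderOf x) := by rw [hx]; exact hζ
  obtain ⟨c, Z, hc, hc', hZ, hval, hsq, htr, hcong⟩ := exists_local_matrix hM hind.1 hd
  choose a i hai using exists_blockPart_translate (G := G) hC hζx
  set T := e.toFinset with hT
  set N : ℤ := ((p ^ d : ℕ) : ℤ) with hN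
  have hN0 : 0 < N := by rw [hN]; exact_mod_cast Nat.pow_pos (n := d) hp.pos
  set m : ℤ := ((primitiveRoots n ℂ).card : ℤ) with hm
  have hm0 : 0 < m := by
    rw [hm]
    exact_mod_cast Finset.card_pos.mpr ⟨ζ, (mem_primitiveRoots hn0).mpr hζ⟩
  have hcf : ∀ χ ψ, contrib p d x e χ ψ = cycloForm T Z (a χ) (a ψ) (i χ) (i ψ) ζ :=
    contrib_eq_cycloForm (d := d) hval a i fun χ s => (hai χ).2 e s
  let r : IrrCharacter C → ℂ := fun φ =>
    (charDegree (φ : C → ℂ) : ℂ) / ((p ^ minExp p e : ℕ) : ℂ)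
  let R : IrrCharacter G → ℂ := fun χ => ∑ φ ∈ T, (a χ φ : ℂ) * r φ
  have hR : ∀ χ, MemLocalRing M (R χ) := fun χ =>
    memRing_sum hM _ fun φ hφ => memRing_mul hM (memRing_natCast hM _)
      (deg_div_memRing hM (Set.mem_toFinset.mp hφ))
  have hR0 : ∀ χ ∈ B, ¬ MemLocalIdeal M (R χ) := fun χ hχ hmem =>
    not_memIdeal_degree_blockPart hM hind hχ (hh χ hχ) (a χ) (hai χ).1 hmem
  have hred : ∀ χ, MemLocalIdeal M (contrib p d x e χ χ - c * (R χ * R χ)) := by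
    intro χ
    rw [hcf, cycloForm]
    simp only [R, Finset.sum_mul_sum]
    simp only [Finset.mul_sum, ← Finset.sum_sub_distrib]
    refine memIdeal_sum hM _ fun φ hφ => memIdeal_sum hM _ fun θ hθ => ?_
    have h1 := memIdeal_mul_left hM (memRing_natCast hM (a χ φ * a χ θ))
      (hcong φ (Set.mem_toFinset.mp hφ) θ (Set.mem_toFinset.mp hθ))
    have hz : MemLocalIdeal M (ζ ^ i χ φ * conj (ζ ^ i χ θ) - 1) := by
      rw [map_pow, ← Complex.inv_eq_conj
        (Complex.norm_eq_one_of_pow_eq_one hζ.pow_eq_one hn0.ne'),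
        show ζ⁻¹ = ζ ^ (n - 1) from (eq_inv_of_mul_eq_one_left (by
          rw [← pow_succ, Nat.sub_add_cancel hn0, hζ.pow_eq_one])).symm, ← pow_mul, ← pow_add]
      exact memIdeal_pow_sub_one hM hζ _
    have h2 := memIdeal_mul_left hM
      (memRing_intCast hM (((a χ φ * a χ θ : ℕ) : ℤ) * Z φ θ)) hz
    convert memIdeal_add hM h1 h2 using 1
    simp only [r]
    push_cast
    ring
  have hdiag : ∀ χ ∈ B, contrib p d x e χ χ ≠ 0 := by
    intro χ hχ h0
    refine not_memIdeal_mul hM hc (memRing_mul hM (hR χ) (hR χ)) hc'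
      (not_memIdeal_mul hM (hR χ) (hR χ) (hR0 χ hχ) (hR0 χ hχ)) ?_
    have h := hred χ
    rw [h0, zero_sub] at h
    simpa using memIdeal_sub hM (memIdeal_zero hM) h
  have hpsd := zForm_self_nonneg hZ hN0 hsq
  have hc2 := hmin Z hval
  have hex : ∀ χ, ∃ S : ℤ, χ ∈ B →
      ∑ w ∈ primitiveRoots n ℂ, cycloForm T Z (a χ) (a χ) (i χ) (i χ) w = (S : ℂ) ∧
        (blockRank p e : ℤ) * m ≤ S := by
    intro χ
    by_cases hχ : χ ∈ B
    · obtain ⟨S, hS⟩ := avg_form_ge (T := T) hp k hZ hpsd (a χ) (i χ) hζ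
        (by rw [← hcf]; exact hdiag χ hχ) hc2
      exact ⟨S, fun _ => hS⟩
    · exact ⟨0, fun h => absurd h hχ⟩
  choose S hS using hex
  have htot : ∑ χ ∈ B.toFinset, S χ = ((p ^ d * blockRank p e : ℕ) : ℤ) * m := by
    apply Int.cast_injective (α := ℂ)
    rw [Int.cast_sum, Int.cast_mul, hm, Int.cast_natCast (primitiveRoots n ℂ).card,
      ← sum_sum_cycloForm hn0 hζ B.toFinset Z a i _ (by
        rw [Int.cast_natCast, Nat.cast_mul, ← sum_contrib_self hM hC ⟨k, hx⟩ hind d]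
        exact Finset.sum_congr rfl fun χ _ => (hcf χ χ).symm)]
    exact Finset.sum_congr rfl fun χ hχ => (hS χ (Set.mem_toFinset.mp hχ)).1.symm
  have hlow := Finset.card_nsmul_le_sum B.toFinset S ((blockRank p e : ℤ) * m)
    fun χ hχ => (hS χ (Set.mem_toFinset.mp hχ)).2
  rw [htot, nsmul_eq_mul] at hlow
  have hl0 : 0 < blockRank p e := blockRank_pos hp.ne_one (block_nonempty hM hind.1)
  have h : (B.toFinset.card : ℤ) * ((blockRank p e : ℤ) * m) ≤
      ((p ^ d : ℕ) : ℤ) * ((blockRank p e : ℤ) * m) := by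
    refine hlow.trans (le_of_eq ?_)
    push_cast
    ring
  exact_mod_cast le_of_mul_le_mul_right h (mul_pos (by exact_mod_cast hl0) hm0)

/-- A block of defect one: no nonzero value of the local form is below the rank. -/
theorem norm_ge_of_defect_one [Fintype G] [Fact p.Prime] (hM : IsPModular p M)
    {e : Set (IrrCharacter G)} [Fintype e] (he : IsPBlock M e)
    (hd : 1 + minExp p e = (Nat.card G).factorization p)
    (Z : IrrCharacter G → IrrCharacter G → ℤ)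
    (hval : ∀ φ ∈ e, ∀ θ ∈ e, (Z φ θ : ℂ) =
      ((p ^ 1 : ℕ) : ℂ) * ((Nat.card G : ℂ)⁻¹ * regPair p (φ : G → ℂ) (θ : G → ℂ)))
    (u : IrrCharacter G → ℤ) (hu : zForm e.toFinset Z u u ≠ 0) :
    (blockRank p e : ℤ) ≤ zForm e.toFinset Z u u := by
  classical
  have hp : p.Prime := Fact.out
  obtain ⟨c, Z', hc, hc', hZ', hval', hsq, htr, hcong⟩ := exists_local_matrix hM he hd
  set T := e.toFinset with hT
  have hmem : ∀ φ, φ ∈ T ↔ φ ∈ e := fun φ => Set.mem_toFinset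
  have hZZ : ∀ φ ∈ T, ∀ θ ∈ T, Z φ θ = Z' φ θ := fun φ hφ θ hθ => by
    have h := hval φ ((hmem φ).1 hφ) θ ((hmem θ).1 hθ)
    rw [← hval' φ ((hmem φ).1 hφ) θ ((hmem θ).1 hθ)] at h
    exact_mod_cast h
  set r : IrrCharacter G → ℂ := fun φ =>
    (charDegree (φ : G → ℂ) : ℂ) / ((p ^ minExp p e : ℕ) : ℂ) with hr
  have hrR : ∀ φ ∈ e, MemLocalRing M (r φ) := fun φ hφ => deg_div_memRing hM hφ
  have hht : ∀ φ ∈ e, (charDegree (φ : G → ℂ)).factorization p = minExp p e := by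
    intro φ hφ
    by_contra hne
    have := height_add_two_le hM he hφ (lt_of_le_of_ne (minExp_le hφ) (Ne.symm hne))
    have := minExp_le (p := p) hφ
    omega
  have hr0 : ∀ φ ∈ e, ¬ MemLocalIdeal M (r φ) := by
    intro φ hφ hmem
    have hdvd := Nat.ordProj_dvd (charDegree (φ : G → ℂ)) p
    rw [hht φ hφ] at hdvd
    obtain ⟨w, hw⟩ := hdvd
    have hrw : r φ = (w : ℂ) := by
      simp only [hr]
      rw [hw, Nat.cast_mul, mul_div_cancel_left₀ _ (Nat.cast_ne_zero.2 (pow_ne_zero _ hp.ne_zero))]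
    rw [hrw, memIdeal_natCast_iff hM] at hmem
    have h2 := Nat.pow_succ_factorization_not_dvd (CfsgLib.BlockReg.deg_pos φ).ne' hp
    rw [hht φ hφ] at h2
    refine h2 ?_
    rw [hw, pow_succ]
    exact Nat.mul_dvd_mul_left _ hmem
  obtain ⟨φ₀, hφ₀⟩ := block_nonempty hM he
  set t := Z' φ₀ φ₀ with ht
  have hcc : ∀ φ ∈ e, ∀ θ ∈ e, MemLocalIdeal M ((Z' φ θ : ℂ) - c * r φ * r θ) := hcong
  have hnd : ∀ φ ∈ e, ¬ (p : ℤ) ∣ Z' φ φ := by
    intro φ hφ hdvd
    refine not_memIdeal_mul hM (memRing_mul hM hc (hrR φ hφ)) (hrR φ hφ)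
      (not_memIdeal_mul hM hc (hrR φ hφ) hc' (hr0 φ hφ)) (hr0 φ hφ) ?_
    obtain ⟨w, hw⟩ := hdvd
    have h1 : MemLocalIdeal M (Z' φ φ : ℂ) := by
      rw [hw, Int.cast_mul, Int.cast_natCast]
      exact memIdeal_mul_right hM ((memIdeal_natCast_iff hM p).2 dvd_rfl) (memRing_intCast hM w)
    have h := memIdeal_sub hM h1 (hcc φ hφ φ hφ)
    rwa [sub_sub_cancel] at h
  -- an inverse of the unit `t` modulo `p`
  obtain ⟨v, w, hwv'⟩ : IsCoprime (p : ℤ) t :=
    ((Nat.prime_iff_prime_int.1 hp).coprime_iff_not_dvd).2 (hnd φ₀ hφ₀)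
  have hwv : t * w + (p : ℤ) * v = 1 := by rw [← hwv']; ring
  let ι := {φ : IrrCharacter G // φ ∈ T}
  let A : Matrix ι ι ℤ := Matrix.of fun φ θ => Z' φ θ
  have hsymm : A.transpose = A := by ext φ θ; exact hZ' _ _
  have hA2 : A * A = (p : ℤ) • A := by
    ext φ θ
    rw [Matrix.mul_apply, Matrix.smul_apply, smul_eq_mul]
    simp only [A, Matrix.of_apply]
    rw [Finset.sum_coe_sort T (fun ψ => Z' φ ψ * Z' ψ θ), hsq φ φ.2 θ θ.2, pow_one]
  have hAtr : A.trace = (p : ℤ) * (blockRank p e : ℤ) := by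
    simp only [Matrix.trace, Matrix.diag_apply, A, Matrix.of_apply]
    rw [Finset.sum_coe_sort T (fun ψ => Z' ψ ψ), htr]
    push_cast
    ring
  have hrank : ∀ φ θ : ι, (p : ℤ) ∣ A φ θ - (w * Z' φ φ₀) * Z' φ₀ θ := by
    intro φ θ
    have hφ := (hmem φ).1 φ.2
    have hθ := (hmem θ).1 θ.2
    have h1 : (p : ℤ) ∣ Z' φ θ * Z' φ₀ φ₀ - Z' φ φ₀ * Z' φ₀ θ := by
      have hi : MemLocalIdeal M ((Z' φ θ * Z' φ₀ φ₀ - Z' φ φ₀ * Z' φ₀ θ : ℤ) : ℂ) := by
        have e1 := memIdeal_mul_right hM (hcc φ hφ θ hθ) (memRing_intCast hM (Z' φ₀ φ₀))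
        have e2 := memIdeal_mul_left hM
          (memRing_mul hM (memRing_mul hM hc (hrR φ hφ)) (hrR θ hθ)) (hcc φ₀ hφ₀ φ₀ hφ₀)
        have e3 := memIdeal_mul_right hM (hcc φ hφ φ₀ hφ₀) (memRing_intCast hM (Z' φ₀ θ))
        have e4 := memIdeal_mul_left hM
          (memRing_mul hM (memRing_mul hM hc (hrR φ hφ)) (hrR φ₀ hφ₀)) (hcc φ₀ hφ₀ θ hθ)
        convert memIdeal_sub hM (memIdeal_add hM e1 e2) (memIdeal_add hM e3 e4) using 1
        push_cast
        ring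
      exact (memIdeal_intCast_iff hM _).1 hi
    have h2 : A φ θ - (w * Z' φ φ₀) * Z' φ₀ θ =
        w * (Z' φ θ * Z' φ₀ φ₀ - Z' φ φ₀ * Z' φ₀ θ) + Z' φ θ * ((p : ℤ) * v) := by
      simp only [A, Matrix.of_apply]
      linear_combination (-(Z' φ θ)) * hwv
    rw [h2]
    exact dvd_add (h1.mul_left _) (dvd_mul_of_dvd_right (dvd_mul_right _ _) _)
  have hq : zForm T Z u u = (fun φ : ι => u φ) ⬝ᵥ A.mulVec (fun φ : ι => u φ) := by
    rw [zForm_eq_sum_mul]
    simp only [dotProduct, Matrix.mulVec, A, Matrix.of_apply]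
    rw [← Finset.sum_coe_sort T (fun φ => u φ * ∑ θ ∈ T, Z φ θ * u θ)]
    refine Finset.sum_congr rfl fun φ _ => ?_
    rw [← Finset.sum_coe_sort T (fun θ => Z φ θ * u θ)]
    exact congrArg _ (Finset.sum_congr rfl fun θ _ => by rw [hZZ φ φ.2 θ θ.2])
  rw [hq]
  refine CfsgLib.LatticeBound.le_quadratic (by exact_mod_cast hp.pos) A hsymm hA2 _ hAtr
    (fun φ => w * Z' φ φ₀) (fun θ => Z' φ₀ θ) hrank (fun φ h => hnd φ ((hmem φ).1 φ.2) ?_) _
    fun h0 => hu (by rw [hq, h0, dotProduct_zero])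
  have h' : Z' (φ : IrrCharacter G) φ = (p : ℤ) := h
  rw [h']

/-- Values of the local form of a block are values of the local form of the block of the quotient by
a central `p`-subgroup. -/
theorem exists_zForm_quotient [Fintype G] [Fact p.Prime] (hM : IsPModular p M) (N : Subgroup G)
    [N.Normal] [Fintype (G ⧸ N)] (hc : N ≤ Subgroup.center G) (hP : IsPGroup p N)
    {B : Set (IrrCharacter G)} [Fintype B] (hB : IsPBlock M B)
    {Bbar : Set (IrrCharacter (G ⧸ N))} [Fintype Bbar] (hBbar : IsPBlock M Bbar)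
    (hiff : ∀ η, η ∈ Bbar ↔ CfsgLib.Blocks.infl N η ∈ B) {d d' : ℕ}
    (hdd : Nat.card N * p ^ d' = p ^ d)
    (Z : IrrCharacter G → IrrCharacter G → ℤ)
    (hval : ∀ φ ∈ B, ∀ θ ∈ B, (Z φ θ : ℂ) =
      ((p ^ d : ℕ) : ℂ) * ((Nat.card G : ℂ)⁻¹ * regPair p (φ : G → ℂ) (θ : G → ℂ)))
    (Z' : IrrCharacter (G ⧸ N) → IrrCharacter (G ⧸ N) → ℤ)
    (hval' : ∀ φ ∈ Bbar, ∀ θ ∈ Bbar, (Z' φ θ : ℂ) = ((p ^ d' : ℕ) : ℂ) *
      ((Nat.card (G ⧸ N) : ℂ)⁻¹ * regPair p (φ : G ⧸ N → ℂ) (θ : G ⧸ N → ℂ)))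
    (u : IrrCharacter G → ℤ) :
    ∃ u' : IrrCharacter (G ⧸ N) → ℤ,
      zForm B.toFinset Z u u = zForm Bbar.toFinset Z' u' u' := by
  classical
  have hex : ∀ φ : IrrCharacter G, ∃ n : IrrCharacter (G ⧸ N) → ℤ, φ ∈ B → ∀ g : G,
      ¬ p ∣ orderOf g →
        (φ : G → ℂ) g = ∑ η ∈ Bbar.toFinset, (n η : ℂ) * (η : G ⧸ N → ℂ) g := by
    intro φ
    by_cases hφ : φ ∈ B
    · obtain ⟨n, hn⟩ := CfsgLib.CentralQuot.exists_int_lift N hM hc hP hB hBbar hiff hφ
      exact ⟨n, fun _ => hn⟩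
    · exact ⟨0, fun h => absurd h hφ⟩
  choose n hn using hex
  refine ⟨fun η => ∑ φ ∈ B.toFinset, u φ * n φ η, Int.cast_injective (α := ℂ) ?_⟩
  rw [zForm_eq_regPair B.toFinset d Z (fun φ hφ θ hθ =>
      hval φ (Set.mem_toFinset.1 hφ) θ (Set.mem_toFinset.1 hθ)),
    zForm_eq_regPair Bbar.toFinset d' Z' (fun φ hφ θ hθ =>
      hval' φ (Set.mem_toFinset.1 hφ) θ (Set.mem_toFinset.1 hθ)),
    regPair, regPair, ← CfsgLib.CentralQuot.sum_regular N (Fact.out : p.Prime) hc hP,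
    Subgroup.card_eq_card_quotient_mul_card_subgroup N, ← hdd]
  have hval2 : ∀ g ∈ regSet (G := G) p,
      ∑ φ ∈ B.toFinset, (u φ : ℂ) * (φ : G → ℂ) g = ∑ η ∈ Bbar.toFinset,
        ((∑ φ ∈ B.toFinset, u φ * n φ η : ℤ) : ℂ) * (η : G ⧸ N → ℂ) g := by
    intro g hg
    have hg' : ¬ p ∣ orderOf g := (Finset.mem_filter.1 hg).2
    rw [Finset.sum_congr rfl fun φ hφ => by rw [hn φ (Set.mem_toFinset.1 hφ) g hg']]
    simp only [Finset.mul_sum, Int.cast_sum, Int.cast_mul, Finset.sum_mul, mul_assoc]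
    exact Finset.sum_comm
  rw [Finset.sum_congr rfl fun g hg => by rw [hval2 g hg]]
  have hN0 : (Nat.card N : ℂ) ≠ 0 := Nat.cast_ne_zero.2 Nat.card_pos.ne'
  push_cast
  field_simp

end CfsgLib.BlockRank
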