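import Cfsg.Agent.Lib.BlockRank.AvgForm
import Cfsg.Agent.Lib.BlockRank.RankOne

/-!
# A symmetric integral matrix with `Z ^ 2 = N Z`, trace at most `2 N` and a vector of norm one
-/

set_option autoImplicit false

namespace CfsgLib.BlockRank

variable {κ : Type*} {T : Finset κ} {Z : κ → κ → ℤ} {N : ℤ}

theorem zForm_single [DecidableEq κ] {φ : κ} (hφ : φ ∈ T) (t : ℤ) (v : κ → ℤ) :
    zForm T Z (fun ψ => if ψ = φ then t else 0) v = t * ∑ θ ∈ T, Z φ θ * v θ := by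
  rw [zForm, Finset.sum_eq_single φ (fun ψ _ h => by simp [h]) (fun h => absurd hφ h),
    Finset.mul_sum]
  exact Finset.sum_congr rfl fun θ _ => by simp only [if_true]; ring

theorem zForm_eq_sum_mul (u v : κ → ℤ) :
    zForm T Z u v = ∑ φ ∈ T, u φ * ∑ θ ∈ T, Z φ θ * v θ := by
  simp only [zForm, Finset.mul_sum]
  exact Finset.sum_congr rfl fun φ _ => Finset.sum_congr rfl fun θ _ => by ring

/-- A symmetric matrix whose square is a positive multiple of it is semidefinite. -/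
theorem zForm_self_nonneg (hZ : ∀ φ θ, Z φ θ = Z θ φ) (hN : 0 < N)
    (hsq : ∀ φ ∈ T, ∀ θ ∈ T, ∑ ψ ∈ T, Z φ ψ * Z ψ θ = N * Z φ θ) (u : κ → ℤ) :
    0 ≤ zForm T Z u u := by
  have h : N * zForm T Z u u = ∑ ψ ∈ T, (∑ φ ∈ T, Z ψ φ * u φ) * ∑ θ ∈ T, Z ψ θ * u θ := by
    simp only [zForm, Finset.mul_sum, Finset.sum_mul]
    rw [Finset.sum_congr rfl fun φ hφ => Finset.sum_congr rfl fun θ hθ => by
      rw [← mul_assoc, ← mul_assoc, ← hsq φ hφ θ hθ, Finset.sum_mul, Finset.sum_mul]]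
    symm
    rw [Finset.sum_congr rfl fun _ _ => Finset.sum_comm, Finset.sum_comm]
    refine Finset.sum_congr rfl fun φ _ => ?_
    rw [Finset.sum_comm]
    exact Finset.sum_congr rfl fun θ _ => Finset.sum_congr rfl fun ψ _ => by rw [hZ φ ψ]; ring
  have h0 : 0 ≤ N * zForm T Z u u := by
    rw [h]
    exact Finset.sum_nonneg fun ψ _ => mul_self_nonneg _
  exact nonneg_of_mul_nonneg_right h0 hN

/-- Such a matrix with trace `N` (or less) is a positive multiple of the square of a vector. -/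
theorem exists_rank_one_of_trace_le (hZ : ∀ φ θ, Z φ θ = Z θ φ) (hN : 0 < N)
    (hsq : ∀ φ ∈ T, ∀ θ ∈ T, ∑ ψ ∈ T, Z φ ψ * Z ψ θ = N * Z φ θ)
    (htr : ∑ φ ∈ T, Z φ φ ≤ N) :
    ∃ (β x : κ → ℤ) (D : ℤ), 0 < D ∧ (∀ φ ∈ T, ∀ θ ∈ T, Z φ θ = D * β φ * β θ) ∧
      (∀ φ ∈ T, ∑ θ ∈ T, Z φ θ * x θ = D * β φ) ∧ zForm T Z x x ≤ D := by
  classical
  have hpsd := zForm_self_nonneg hZ hN hsq
  have hentry : ∀ φ ∈ T, ∀ θ ∈ T,
      zForm T Z (fun ψ => if ψ = φ then 1 else 0) (fun ψ => if ψ = θ then 1 else 0) = Z φ θ := by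
    intro φ hφ θ hθ
    simp [zForm_single hφ, hθ]
  by_cases hzero : ∀ φ ∈ T, Z φ φ = 0
  · refine ⟨0, 0, 1, one_pos, fun φ hφ θ hθ => ?_, fun φ _ => by simp, by simp [zForm]⟩
    have h : Z φ θ = 0 := by
      rw [← hentry φ hφ θ hθ]
      exact zForm_eq_zero_of_self_eq_zero hZ hpsd (by rw [hentry φ hφ φ hφ, hzero φ hφ]) _
    simp [h]
  push Not at hzero
  obtain ⟨φ₀, hφ₀, h00⟩ := hzero
  have hdiag : ∀ φ ∈ T, 0 ≤ Z φ φ := fun φ hφ => by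
    rw [← hentry φ hφ φ hφ]; exact hpsd _
  set a := Z φ₀ φ₀ with ha
  have ha0 : 0 < a := lt_of_le_of_ne (hdiag φ₀ hφ₀) (Ne.symm h00)
  -- the entries satisfy the inequality of Cauchy and Schwarz, with equality by the trace
  have hCS : ∀ φ ∈ T, ∀ θ ∈ T, Z φ θ * Z φ θ ≤ Z φ φ * Z θ θ := by
    intro φ hφ θ hθ
    have hu := hpsd ((fun ψ => if ψ = θ then Z φ φ else 0) - (fun ψ => if ψ = φ then Z φ θ else 0))
    rw [zForm_sub_self hZ, zForm_single hθ, zForm_single hφ, zForm_single hθ] at hu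
    simp only [mul_ite, mul_zero, Finset.sum_ite_eq', hθ, hφ, if_true, hZ θ φ] at hu
    rcases eq_or_lt_of_le (hdiag φ hφ) with h0 | h0
    · have h2 : Z φ θ = 0 := by
        rw [← hentry φ hφ θ hθ]
        exact zForm_eq_zero_of_self_eq_zero hZ hpsd (by rw [hentry φ hφ φ hφ, ← h0]) _
      rw [h2, ← h0]
      simp
    · refine le_of_mul_le_mul_left ?_ h0
      linarith
  have hsum : ∑ φ ∈ T, ∑ θ ∈ T, (Z φ φ * Z θ θ - Z φ θ * Z φ θ) ≤ 0 := by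
    have h1 : ∑ φ ∈ T, ∑ θ ∈ T, Z φ θ * Z φ θ = N * ∑ φ ∈ T, Z φ φ := by
      rw [Finset.mul_sum]
      refine Finset.sum_congr rfl fun φ hφ => ?_
      rw [← hsq φ hφ φ hφ]
      exact Finset.sum_congr rfl fun θ _ => by rw [hZ θ φ]
    simp only [Finset.sum_sub_distrib, ← Finset.sum_mul_sum, h1]
    have h2 : 0 ≤ ∑ φ ∈ T, Z φ φ := Finset.sum_nonneg hdiag
    nlinarith
  have heq : ∀ φ ∈ T, ∀ θ ∈ T, Z φ θ * Z φ θ = Z φ φ * Z θ θ := by
    intro φ hφ θ hθ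
    have hnn : ∀ φ ∈ T, 0 ≤ ∑ θ ∈ T, (Z φ φ * Z θ θ - Z φ θ * Z φ θ) := fun φ hφ =>
      Finset.sum_nonneg fun θ hθ => sub_nonneg.mpr (hCS φ hφ θ hθ)
    have h := (Finset.sum_eq_zero_iff_of_nonneg hnn).mp (le_antisymm hsum (Finset.sum_nonneg hnn))
      φ hφ
    have h' := (Finset.sum_eq_zero_iff_of_nonneg
      (fun θ hθ => sub_nonneg.mpr (hCS φ hφ θ hθ))).mp h θ hθ
    linarith
  have hprod : ∀ φ ∈ T, ∀ θ ∈ T, a * Z φ θ = Z φ₀ φ * Z φ₀ θ := by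
    intro φ hφ θ hθ
    have h := zForm_eq_zero_of_self_eq_zero hZ hpsd (u := (fun ψ => if ψ = φ then a else 0) -
      fun ψ => if ψ = φ₀ then Z φ₀ φ else 0) ?_ (fun ψ => if ψ = θ then 1 else 0)
    · rw [zForm_sub_left, zForm_single hφ, zForm_single hφ₀] at h
      simp only [mul_ite, mul_one, mul_zero, Finset.sum_ite_eq', hθ, if_true] at h
      linarith
    · rw [zForm_sub_self hZ, zForm_single hφ, zForm_single hφ₀, zForm_single hφ]
      simp only [mul_ite, mul_zero, Finset.sum_ite_eq', hφ, hφ₀, if_true, hZ φ φ₀]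
      have := heq φ₀ hφ₀ φ hφ
      rw [← ha] at this ⊢
      linear_combination (-a) * this
  set g := T.gcd fun φ => (Z φ₀ φ).natAbs with hg
  obtain ⟨y, hy⟩ := exists_int_sum_eq_gcd T fun φ => (Z φ₀ φ).natAbs
  rw [← hg] at hy
  have hgd : ∀ φ ∈ T, (g : ℤ) ∣ Z φ₀ φ := fun φ hφ =>
    Int.natCast_dvd.mpr (Finset.gcd_dvd hφ)
  have hg0 : (g : ℤ) ≠ 0 := by
    intro h0
    have := hgd φ₀ hφ₀
    rw [h0, zero_dvd_iff] at this
    exact ha0.ne' this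
  let x : κ → ℤ := fun φ => y φ * (Z φ₀ φ).sign
  have hx : ∑ φ ∈ T, Z φ₀ φ * x φ = g := by
    rw [← hy]
    refine Finset.sum_congr rfl fun φ _ => ?_
    rw [show Z φ₀ φ * x φ = y φ * ((Z φ₀ φ).sign * Z φ₀ φ) by simp only [x]; ring,
      Int.sign_mul_self_eq_natAbs]
  let β : κ → ℤ := fun φ => Z φ₀ φ / g
  have hβ : ∀ φ ∈ T, Z φ₀ φ = g * β φ := fun φ hφ =>
    (Int.mul_ediv_cancel' (hgd φ hφ)).symm
  have hxβ : ∑ φ ∈ T, β φ * x φ = 1 := by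
    refine mul_left_cancel₀ hg0 ?_
    rw [mul_one, Finset.mul_sum]
    refine (Finset.sum_congr rfl fun φ hφ => ?_).trans hx
    rw [← mul_assoc, ← hβ φ hφ]
  set D := zForm T Z x x with hD
  have haD : a * D = (g : ℤ) * g := by
    rw [hD, zForm, Finset.mul_sum, show (g : ℤ) * g =
      (∑ φ ∈ T, Z φ₀ φ * x φ) * ∑ θ ∈ T, Z φ₀ θ * x θ by rw [hx], Finset.sum_mul_sum]
    refine Finset.sum_congr rfl fun φ hφ => ?_
    rw [Finset.mul_sum]
    exact Finset.sum_congr rfl fun θ hθ => by linear_combination (x φ * x θ) * hprod φ hφ θ hθ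
  have hD0 : 0 < D := by
    have : 0 < a * D := by rw [haD]; exact mul_self_pos.mpr hg0
    exact pos_of_mul_pos_right this ha0.le
  have hform : ∀ φ ∈ T, ∀ θ ∈ T, Z φ θ = D * β φ * β θ := by
    intro φ hφ θ hθ
    refine mul_left_cancel₀ ha0.ne' ?_
    rw [hprod φ hφ θ hθ, hβ φ hφ, hβ θ hθ]
    linear_combination (-(β φ * β θ)) * haD
  refine ⟨β, x, D, hD0, hform, fun φ hφ => ?_, le_rfl⟩
  rw [Finset.sum_congr rfl fun θ hθ => by rw [hform φ hφ θ hθ, mul_assoc], ← Finset.mul_sum, hxβ,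
    mul_one]

/-- Splitting off a vector of norm one. -/
theorem exists_rank_two_split (hZ : ∀ φ θ, Z φ θ = Z θ φ) (hN : 0 < N)
    (hsq : ∀ φ ∈ T, ∀ θ ∈ T, ∑ ψ ∈ T, Z φ ψ * Z ψ θ = N * Z φ θ)
    (htr : ∑ φ ∈ T, Z φ φ ≤ 2 * N) {v : κ → ℤ} (hv : zForm T Z v v = 1) :
    ∃ (β w : κ → ℤ) (D : ℤ), 0 < D ∧
      (∀ φ ∈ T, ∀ θ ∈ T, Z φ θ =
        (∑ ψ ∈ T, Z φ ψ * v ψ) * (∑ ψ ∈ T, Z θ ψ * v ψ) + D * β φ * β θ) ∧
      (∀ φ ∈ T, ∑ θ ∈ T, Z φ θ * w θ = D * β φ) ∧ zForm T Z w w ≤ D := by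
  classical
  let s : κ → ℤ := fun φ => ∑ ψ ∈ T, Z φ ψ * v ψ
  let Z' : κ → κ → ℤ := fun φ θ => Z φ θ - s φ * s θ
  have hZ' : ∀ φ θ, Z' φ θ = Z' θ φ := fun φ θ => by simp only [Z', hZ φ θ]; ring
  have hZs : ∀ φ ∈ T, ∑ ψ ∈ T, Z φ ψ * s ψ = N * s φ := by
    intro φ hφ
    simp only [s, Finset.mul_sum]
    rw [Finset.sum_comm]
    refine Finset.sum_congr rfl fun θ hθ => ?_
    rw [← mul_assoc, ← hsq φ hφ θ hθ, Finset.sum_mul]
    exact Finset.sum_congr rfl fun ψ _ => by ring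
  have hsv : ∑ φ ∈ T, v φ * s φ = 1 := by rw [← hv, zForm_eq_sum_mul]
  have hss : ∑ φ ∈ T, s φ * s φ = N := by
    calc ∑ φ ∈ T, s φ * s φ = ∑ φ ∈ T, ∑ θ ∈ T, Z φ θ * v θ * s φ :=
          Finset.sum_congr rfl fun φ _ => Finset.sum_mul _ _ _
      _ = ∑ θ ∈ T, v θ * ∑ φ ∈ T, Z θ φ * s φ := by
          rw [Finset.sum_comm]
          simp only [Finset.mul_sum]
          exact Finset.sum_congr rfl fun θ _ => Finset.sum_congr rfl fun φ _ => by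
            rw [hZ φ θ]; ring
      _ = N * ∑ θ ∈ T, v θ * s θ := by
          rw [Finset.mul_sum]
          exact Finset.sum_congr rfl fun θ hθ => by rw [hZs θ hθ]; ring
      _ = N := by rw [hsv, mul_one]
  have hsq' : ∀ φ ∈ T, ∀ θ ∈ T, ∑ ψ ∈ T, Z' φ ψ * Z' ψ θ = N * Z' φ θ := by
    intro φ hφ θ hθ
    have h1 : ∑ ψ ∈ T, s ψ * Z ψ θ = N * s θ := by
      rw [← hZs θ hθ]
      exact Finset.sum_congr rfl fun ψ _ => by rw [hZ θ ψ]; ring
    have h2 : ∑ ψ ∈ T, Z' φ ψ * Z' ψ θ = (∑ ψ ∈ T, Z φ ψ * Z ψ θ) -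
        (∑ ψ ∈ T, Z φ ψ * s ψ) * s θ - s φ * (∑ ψ ∈ T, s ψ * Z ψ θ) +
        s φ * (∑ ψ ∈ T, s ψ * s ψ) * s θ := by
      simp only [Z', Finset.sum_mul, Finset.mul_sum, ← Finset.sum_sub_distrib,
        ← Finset.sum_add_distrib]
      exact Finset.sum_congr rfl fun ψ _ => by ring
    rw [h2, hsq φ hφ θ hθ, hZs φ hφ, h1, hss]
    simp only [Z']
    ring
  have htr' : ∑ φ ∈ T, Z' φ φ ≤ N := by
    simp only [Z', Finset.sum_sub_distrib, hss]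
    linarith
  obtain ⟨β, x, D, hD, hform, hx, hxD⟩ := exists_rank_one_of_trace_le hZ' hN hsq' htr'
  set t := ∑ θ ∈ T, s θ * x θ with ht
  let w : κ → ℤ := fun θ => x θ - t * v θ
  have hw : ∀ φ ∈ T, ∑ θ ∈ T, Z φ θ * w θ = D * β φ := by
    intro φ hφ
    rw [← hx φ hφ]
    simp only [w, Z', mul_sub, sub_mul, Finset.sum_sub_distrib]
    congr 1
    rw [ht]
    calc ∑ θ ∈ T, Z φ θ * ((∑ ψ ∈ T, s ψ * x ψ) * v θ)
        = (∑ ψ ∈ T, s ψ * x ψ) * s φ := by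
          simp only [s, Finset.mul_sum]
          exact Finset.sum_congr rfl fun θ _ => by ring
      _ = _ := by
          rw [Finset.sum_mul]
          exact Finset.sum_congr rfl fun ψ _ => by ring
  refine ⟨β, w, D, hD, fun φ hφ θ hθ => ?_, hw, ?_⟩
  · rw [← hform φ hφ θ hθ]
    simp only [Z', s]
    ring
  · refine le_trans (le_of_eq ?_) hxD
    have hxZ : zForm T Z' x x = ∑ φ ∈ T, x φ * (D * β φ) := by
      rw [zForm_eq_sum_mul]
      exact Finset.sum_congr rfl fun φ hφ => by rw [hx φ hφ]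
    have hsv' : ∑ φ ∈ T, v φ * (D * β φ) = 0 := by
      have h0 : ∀ φ ∈ T, D * β φ = ∑ θ ∈ T, Z' φ θ * x θ := fun φ hφ => (hx φ hφ).symm
      rw [Finset.sum_congr rfl fun φ hφ => by rw [h0 φ hφ]]
      simp only [Finset.mul_sum]
      rw [Finset.sum_comm]
      refine Finset.sum_eq_zero fun θ _ => ?_
      have hv' : ∑ φ ∈ T, v φ * Z' φ θ = 0 := by
        simp only [Z', mul_sub, Finset.sum_sub_distrib, ← mul_assoc, ← Finset.sum_mul, hsv, one_mul]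
        rw [sub_eq_zero]
        exact Finset.sum_congr rfl fun φ _ => by rw [hZ φ θ]; ring
      rw [Finset.sum_congr rfl fun φ _ => (mul_assoc (v φ) _ _).symm, ← Finset.sum_mul, hv',
        zero_mul]
    rw [hxZ, zForm_eq_sum_mul, Finset.sum_congr rfl fun φ hφ => by rw [hw φ hφ]]
    simp only [w, sub_mul, Finset.sum_sub_distrib, mul_assoc t, ← Finset.mul_sum, hsv', mul_zero,
      sub_zero]

end CfsgLib.BlockRank
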