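import Cfsg.Agent.Lib.BlockRank.LocalMatrix
import Cfsg.Agent.Lib.BlockRank.RankTwoSplit
import Cfsg.Agent.Lib.BlockRank.MajorDivisible

/-!
# Major subsections with at most two Brauer characters
-/

set_option autoImplicit false

open scoped ComplexConjugate
open Polynomial

namespace CfsgLib.BlockRank

universe u

section cyclo

variable {κ : Type*} {T : Finset κ}

theorem linForm_congr {s t : κ → ℤ} (h : ∀ φ ∈ T, s φ = t φ) (a i : κ → ℕ) (w : ℂ) :
    linForm T s a i w = linForm T t a i w :=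
  Finset.sum_congr rfl fun φ hφ => by rw [h φ hφ]

theorem linForm_sum_mul {Z : κ → κ → ℤ} (u : κ → ℤ) (a i : κ → ℕ) (z : ℂ) :
    linForm T (fun φ => ∑ θ ∈ T, Z φ θ * u θ) a i z =
      ∑ θ ∈ T, (u θ : ℂ) * linForm T (fun φ => Z φ θ) a i z := by
  simp only [linForm, Int.cast_sum, Int.cast_mul, Finset.mul_sum, Finset.sum_mul]
  rw [Finset.sum_comm]
  exact Finset.sum_congr rfl fun θ _ => Finset.sum_congr rfl fun φ _ => by ring

theorem isIntegral_linForm {n : ℕ} (hn : 0 < n) {ζ : ℂ} (hζ : IsPrimitiveRoot ζ n) (s : κ → ℤ)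
    (a i : κ → ℕ) : IsIntegral ℤ (linForm T s a i ζ) :=
  IsIntegral.sum _ fun _ _ =>
    ((isIntegral_natCast _).mul (isIntegral_intCast _)).mul ((hζ.isIntegral hn).pow _)

/-- A relation between diagonal values at one primitive root holds for every conjugate. -/
theorem sum_sum_cycloForm {ι : Type*} {n : ℕ} (hn : 0 < n) {ζ : ℂ} (hζ : IsPrimitiveRoot ζ n)
    (S : Finset ι) (Z : κ → κ → ℤ) (a i : ι → κ → ℕ) (N : ℤ)
    (h : ∑ χ ∈ S, cycloForm T Z (a χ) (a χ) (i χ) (i χ) ζ = (N : ℂ)) :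
    ∑ χ ∈ S, ∑ w ∈ primitiveRoots n ℂ, cycloForm T Z (a χ) (a χ) (i χ) (i χ) w =
      (N : ℂ) * (primitiveRoots n ℂ).card := by
  rw [Finset.sum_comm, Finset.sum_congr rfl (g := fun _ => (N : ℂ)) fun w hw => ?_,
    Finset.sum_const, nsmul_eq_mul, mul_comm]
  have hw' := (mem_primitiveRoots hn).mp hw
  have h0 : aeval ζ (∑ χ ∈ S, cycloPoly n T Z (a χ) (a χ) (i χ) (i χ) - Polynomial.C N) = 0 := by
    rw [map_sub, map_sum, aeval_C, Finset.sum_congr rfl fun χ _ =>
      aeval_cycloPoly hn hζ.pow_eq_one T Z _ _ _ _, h, algebraMap_int_eq, eq_intCast, sub_self]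
  have h1 := aeval_eq_zero_of_primitive hn hζ hw' _ h0
  rw [map_sub, map_sum, aeval_C, Finset.sum_congr rfl fun χ _ =>
    aeval_cycloPoly hn hw'.pow_eq_one T Z _ _ _ _, algebraMap_int_eq, eq_intCast,
    sub_eq_zero] at h1
  exact h1

/-- Weights bounded by the conjugate sums of the square of a linear form. -/
theorem exists_sq_weight {p : ℕ} (hp : p.Prime) (k : ℕ) {ζ : ℂ}
    (hζ : IsPrimitiveRoot ζ (p ^ k)) (s : κ → ℤ) (a i : κ → ℕ) :
    ∃ S : ℤ, ∑ w ∈ primitiveRoots (p ^ k) ℂ, cycloForm T (fun φ θ => s φ * s θ) a a i i w =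
        (S : ℂ) ∧ 0 ≤ S ∧
      (linForm T s a i ζ ≠ 0 → ((primitiveRoots (p ^ k) ℂ).card : ℤ) ≤ S ∧
        ((p : ℤ) ∣ ∑ φ ∈ T, (a φ : ℤ) * s φ →
          2 * ((primitiveRoots (p ^ k) ℂ).card : ℤ) ≤ S)) := by
  classical
  have hn : 0 < p ^ k := Nat.pow_pos hp.pos
  have hζ0 := cycloForm_rank_one T s s a a i i ζ
  by_cases h0 : linForm T s a i ζ = 0
  · refine ⟨0, ?_, le_rfl, fun h => absurd h0 h⟩
    rw [Int.cast_zero]
    refine Finset.sum_eq_zero fun w hw => ?_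
    have hw' := (mem_primitiveRoots hn).mp hw
    have h1 := aeval_eq_zero_of_primitive hn hζ hw'
      (cycloPoly (p ^ k) T (fun φ θ => s φ * s θ) a a i i) (by
        rw [aeval_cycloPoly hn hζ.pow_eq_one, hζ0, h0, zero_mul])
    rwa [aeval_cycloPoly hn hw'.pow_eq_one] at h1
  have hne : cycloForm T (fun φ θ => s φ * s θ) a a i i ζ ≠ 0 := by
    rw [hζ0]
    exact mul_ne_zero h0 ((map_ne_zero (starRingEnd ℂ)).mpr h0)
  have hpsd : ∀ u, 0 ≤ zForm T (fun φ θ => s φ * s θ) u u := fun u => by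
    have : zForm T (fun φ θ => s φ * s θ) u u = (∑ φ ∈ T, s φ * u φ) * ∑ θ ∈ T, s θ * u θ := by
      rw [Finset.sum_mul_sum]
      exact Finset.sum_congr rfl fun φ _ => Finset.sum_congr rfl fun θ _ => by ring
    rw [this]
    exact mul_self_nonneg _
  obtain ⟨S, hS, hle⟩ := avg_form_ge (T := T) hp k (fun φ θ => mul_comm _ _) hpsd a i hζ hne
    (c := 1) (fun u hu => by have := hpsd u; omega)
  rw [one_mul] at hle
  refine ⟨S, hS, (Int.natCast_nonneg _).trans hle, fun _ => ⟨hle, fun hd => ?_⟩⟩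
  obtain ⟨S', hS', hle'⟩ := avg_sq_ge_two (T := T) hp k s a i hζ hne hd
  rwa [show S = S' by exact_mod_cast hS.symm.trans hS']

end cyclo

variable {G : Type u} [Group G] [Fintype G] {p : ℕ} {M : Ideal Cfsg.AlgInt}

/-- Modulo `M` a root of unity of `p`-power order is one. -/
theorem memIdeal_pow_sub_one (hM : Cfsg.IsPModular p M) {k : ℕ} {ζ : ℂ}
    (hζ : IsPrimitiveRoot ζ (p ^ k)) (j : ℕ) : Cfsg.MemLocalIdeal M (ζ ^ j - 1) := by
  have : M.IsPrime := hM.2.1.isPrime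
  have : M.IsMaximal := hM.2.1
  have hR : ζ ^ j ∈ CfsgLib.Blocks.locRing M :=
    CfsgLib.BlockReg.memRing_algInt hM ((hζ.isIntegral (Nat.pow_pos hM.1.pos)).pow j)
  rw [← OneMemClass.coe_one (CfsgLib.Blocks.locRing M),
    CfsgLib.Blocks.memLocalIdeal_sub_iff (x := ⟨ζ ^ j, hR⟩), map_one]
  refine CfsgLib.Blocks.red_eq_one_of_pow_prime_pow hM.1 hM.2.2 (k := k) (Subtype.ext ?_)
  show (ζ ^ j) ^ p ^ k = 1
  rw [← pow_mul, mul_comm, pow_mul, hζ.pow_eq_one, one_pow]

open CfsgLib.BlockReg in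
theorem linForm_congr_memIdeal {κ : Type*} {T : Finset κ} (hM : Cfsg.IsPModular p M) {k : ℕ}
    {ζ : ℂ} (hζ : IsPrimitiveRoot ζ (p ^ k)) (s : κ → ℤ) (a i : κ → ℕ) :
    Cfsg.MemLocalIdeal M (linForm T s a i ζ - ((∑ φ ∈ T, (a φ : ℤ) * s φ : ℤ) : ℂ)) ∧
      Cfsg.MemLocalIdeal M
        (conj (linForm T s a i ζ) - ((∑ φ ∈ T, (a φ : ℤ) * s φ : ℤ) : ℂ)) := by
  have h : ∀ j : κ → ℕ, Cfsg.MemLocalIdeal M
      (linForm T s a j ζ - ((∑ φ ∈ T, (a φ : ℤ) * s φ : ℤ) : ℂ)) := fun j => by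
    simp only [linForm, Int.cast_sum, ← Finset.sum_sub_distrib]
    refine memIdeal_sum hM _ fun φ _ => ?_
    have h := memIdeal_mul_left hM (memRing_intCast hM ((a φ : ℤ) * s φ))
      (memIdeal_pow_sub_one hM hζ (j φ))
    convert h using 1
    push_cast
    ring
  refine ⟨h i, ?_⟩
  have hn : p ^ k ≠ 0 := pow_ne_zero _ hM.1.ne_zero
  have hconj : conj (linForm T s a i ζ) = linForm T s a (fun φ => (p ^ k - 1) * i φ) ζ := by
    simp only [linForm, map_sum, map_mul, map_natCast, map_intCast, map_pow]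
    refine Finset.sum_congr rfl fun φ _ => ?_
    rw [pow_mul, show ζ ^ (p ^ k - 1) = conj ζ by
      rw [← Complex.inv_eq_conj (Complex.norm_eq_one_of_pow_eq_one hζ.pow_eq_one hn)]
      refine eq_inv_of_mul_eq_one_left ?_
      rw [← pow_succ, Nat.sub_add_cancel (Nat.pos_of_ne_zero hn), hζ.pow_eq_one]]
  rw [hconj]
  exact h _

open CfsgLib.BlockReg in
/-- A major subsection with at most two Brauer characters bounds the number of characters. -/
theorem card_le_pow_of_rank_le_two [Fact p.Prime] (hM : Cfsg.IsPModular p M) {C : Subgroup G}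
    {x : G} (hC : C = Subgroup.centralizer {x}) {k : ℕ} (hx : orderOf x = p ^ k) [Fintype C]
    {e : Set (Cfsg.IrrCharacter C)} {B : Set (Cfsg.IrrCharacter G)} [Fintype B]
    (hB : Cfsg.IsPBlock M B) (hind : Cfsg.IsInducedBlock M C e B) {d : ℕ}
    (hd : d + minExp p e = (Nat.card C).factorization p)
    (hdB : d + minExp p B = (Nat.card G).factorization p) (hl : Cfsg.blockRank p e ≤ 2) :
    B.toFinset.card ≤ p ^ d := by
  classical
  have hp : p.Prime := Fact.out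
  have := Fintype.ofFinite e
  set n := p ^ k with hn
  have hn0 : 0 < n := Nat.pow_pos hp.pos
  let ζ := Complex.exp (2 * Real.pi * Complex.I / n)
  have hζ : IsPrimitiveRoot ζ n := Complex.isPrimitiveRoot_exp n hn0.ne'
  have hζx : IsPrimitiveRoot ζ (orderOf x) := by rw [hx]; exact hζ
  obtain ⟨c, Z, hc, hc', hZ, hval, hsq, htr, hcong⟩ := exists_local_matrix hM hind.1 hd
  choose a i hai using exists_blockPart_translate (G := G) hC hζx
  obtain ⟨Y, hY, hYiff⟩ := exists_contrib_divisible hM hC hx hζx hB hind hd hdB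
  set T := e.toFinset with hT
  set N : ℤ := ((p ^ d : ℕ) : ℤ) with hN
  have hN0 : 0 < N := by rw [hN]; exact_mod_cast Nat.pow_pos (n := d) hp.pos
  set m : ℤ := ((primitiveRoots n ℂ).card : ℤ) with hm
  have hm0 : 0 < m := by
    rw [hm]
    exact_mod_cast Finset.card_pos.mpr ⟨ζ, (mem_primitiveRoots hn0).mpr hζ⟩
  have hcf : ∀ χ ψ, contrib p d x e χ ψ = cycloForm T Z (a χ) (a ψ) (i χ) (i ψ) ζ :=
    contrib_eq_cycloForm (d := d) hval a i fun χ s => (hai χ).2 e s
  have hconj : ∀ χ ψ, contrib p d x e ψ χ = conj (contrib p d x e χ ψ) := fun χ ψ => by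
    rw [hcf, hcf, conj_cycloForm _ hZ]
  -- the degree sums
  let r : Cfsg.IrrCharacter C → ℂ := fun φ =>
    (Cfsg.charDegree (φ : C → ℂ) : ℂ) / ((p ^ minExp p e : ℕ) : ℂ)
  let R : Cfsg.IrrCharacter G → ℂ := fun χ => ∑ φ ∈ T, (a χ φ : ℂ) * r φ
  have hr : ∀ φ ∈ T, Cfsg.MemLocalRing M (r φ) := fun φ hφ =>
    deg_div_memRing hM (Set.mem_toFinset.mp hφ)
  have hR : ∀ χ, Cfsg.MemLocalRing M (R χ) := fun χ =>
    memRing_sum hM _ fun φ hφ => memRing_mul hM (memRing_natCast hM _) (hr φ hφ)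
  have hR0 : ∀ χ ∈ B, (Cfsg.charDegree (χ : G → ℂ)).factorization p = minExp p B →
      ¬ Cfsg.MemLocalIdeal M (R χ) := fun χ hχ hh =>
    not_memIdeal_degree_blockPart hM hind hχ hh (a χ) (hai χ).1
  have hred : ∀ χ ψ, Cfsg.MemLocalIdeal M (contrib p d x e χ ψ - c * (R χ * R ψ)) := by
    intro χ ψ
    rw [hcf, cycloForm]
    simp only [R, Finset.sum_mul_sum]
    simp only [Finset.mul_sum, ← Finset.sum_sub_distrib]
    refine memIdeal_sum hM _ fun φ hφ => memIdeal_sum hM _ fun θ hθ => ?_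
    have h1 := memIdeal_mul_left hM (memRing_natCast hM (a χ φ * a ψ θ))
      (hcong φ (Set.mem_toFinset.mp hφ) θ (Set.mem_toFinset.mp hθ))
    have hz : Cfsg.MemLocalIdeal M (ζ ^ i χ φ * conj (ζ ^ i ψ θ) - 1) := by
      rw [map_pow, ← Complex.inv_eq_conj
        (Complex.norm_eq_one_of_pow_eq_one hζ.pow_eq_one hn0.ne'),
        show ζ⁻¹ = ζ ^ (n - 1) from (eq_inv_of_mul_eq_one_left (by
          rw [← pow_succ, Nat.sub_add_cancel hn0, hζ.pow_eq_one])).symm, ← pow_mul, ← pow_add]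
      exact memIdeal_pow_sub_one hM hζ _
    have h2 := memIdeal_mul_left hM
      (memRing_intCast hM (((a χ φ * a ψ θ : ℕ) : ℤ) * Z φ θ)) hz
    convert memIdeal_add hM h1 h2 using 1
    simp only [r]
    push_cast
    ring
  obtain ⟨χ₀, hχ₀, hχ₀m⟩ := exists_minExp (p := p) (block_nonempty hM hB)
  have hY0 : ∀ χ ∈ B, (Cfsg.charDegree (χ : G → ℂ)).factorization p = minExp p B → ∀ ψ,
      contrib p d x e χ ψ = Y χ ψ := fun χ hχ hh ψ => by
    rw [(hY χ hχ ψ).2, hh, Nat.sub_self, pow_zero, Nat.cast_one, one_mul]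
  have hunit : ∀ χ ∈ B, (Cfsg.charDegree (χ : G → ℂ)).factorization p = minExp p B →
      ¬ Cfsg.MemLocalIdeal M (contrib p d x e χ χ) := by
    intro χ hχ hh hmem
    refine not_memIdeal_mul hM hc (memRing_mul hM (hR χ) (hR χ)) hc'
      (not_memIdeal_mul hM (hR χ) (hR χ) (hR0 χ hχ hh) (hR0 χ hχ hh)) ?_
    have h := memIdeal_sub hM hmem (hred χ χ)
    rwa [sub_sub_cancel] at h
  have hYne : ∀ χ ∈ B, ∀ ψ ∈ B, (Cfsg.charDegree (ψ : G → ℂ)).factorization p = minExp p B →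
      ¬ Cfsg.MemLocalIdeal M (Y χ ψ) := fun χ hχ ψ hψ hh h =>
    hunit ψ hψ hh (by rw [hY0 ψ hψ hh]; exact hYiff χ hχ ψ hψ ψ h)
  have hoff : ∀ χ ∈ B, ∀ ψ ∈ B, (Cfsg.charDegree (ψ : G → ℂ)).factorization p = minExp p B →
      contrib p d x e χ ψ ≠ 0 := fun χ hχ ψ hψ hh => by
    rw [(hY χ hχ ψ).2]
    exact mul_ne_zero (Nat.cast_ne_zero.mpr (pow_ne_zero _ hp.ne_zero))
      (ne_zero_of_not_memIdeal hM (hYne χ hχ ψ hψ hh))
  have hdiag : ∀ χ ∈ B, contrib p d x e χ χ ≠ 0 := by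
    intro χ hχ h0
    have h := sum_contrib_mul_conj hM hC ⟨k, hx⟩ hind d χ
    simp only [h0, mul_zero, Complex.mul_conj] at h
    have h' : ∑ ψ ∈ B.toFinset, Complex.normSq (contrib p d x e χ ψ) = 0 := by exact_mod_cast h
    exact hoff χ hχ χ₀ hχ₀ hχ₀m (Complex.normSq_eq_zero.mp
      ((Finset.sum_eq_zero_iff_of_nonneg fun ψ _ => Complex.normSq_nonneg _).mp h' χ₀
        (Set.mem_toFinset.mpr hχ₀)))
  -- positive height
  have hpos : ∀ χ ∈ B, (Cfsg.charDegree (χ : G → ℂ)).factorization p ≠ minExp p B →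
      Cfsg.MemLocalIdeal M (contrib p d x e χ χ₀) ∧ Cfsg.MemLocalIdeal M (Y χ χ) := by
    intro χ hχ hh
    have hge := minExp_le (p := p) hχ
    have hmem : Cfsg.MemLocalIdeal M (contrib p d x e χ χ₀) := by
      rw [(hY χ hχ χ₀).2]
      exact memIdeal_mul_right hM
        ((memIdeal_natCast_iff hM _).mpr (dvd_pow_self p (by omega)))
        (memRing_algInt hM (hY χ hχ χ₀).1)
    refine ⟨hmem, hYiff χ₀ hχ₀ χ hχ χ ?_⟩
    rw [← hY0 χ₀ hχ₀ hχ₀m, hconj χ χ₀, (hY χ hχ χ₀).2, map_mul, map_natCast]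
    exact memIdeal_mul_right hM
      ((memIdeal_natCast_iff hM _).mpr (dvd_pow_self p (by omega)))
      (memRing_algInt hM ((hY χ hχ χ₀).1.map (RingHom.toIntAlgHom (starRingEnd ℂ))))
  have hRpos : ∀ χ ∈ B, (Cfsg.charDegree (χ : G → ℂ)).factorization p ≠ minExp p B →
      Cfsg.MemLocalIdeal M (R χ) := by
    intro χ hχ hh
    by_contra hcon
    refine not_memIdeal_mul hM hc (memRing_mul hM (hR χ) (hR χ₀)) hc'
      (not_memIdeal_mul hM (hR χ) (hR χ₀) hcon (hR0 χ₀ hχ₀ hχ₀m)) ?_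
    have h := memIdeal_sub hM (hpos χ hχ hh).1 (hred χ χ₀)
    rwa [sub_sub_cancel] at h
  have hpsd := zForm_self_nonneg hZ hN0 hsq
  by_cases hone : ∃ v, zForm T Z v v = 1
  swap
  · -- all nonzero norms at least two
    push Not at hone
    have hc2 : ∀ u, zForm T Z u u ≠ 0 → (2 : ℤ) ≤ zForm T Z u u := fun u hu => by
      have := hpsd u
      have := hone u
      omega
    have hex : ∀ χ, ∃ S : ℤ, χ ∈ B →
        ∑ w ∈ primitiveRoots n ℂ, cycloForm T Z (a χ) (a χ) (i χ) (i χ) w = (S : ℂ) ∧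
          2 * m ≤ S := by
      intro χ
      by_cases hχ : χ ∈ B
      · obtain ⟨S, hS⟩ := avg_form_ge (T := T) hp k hZ hpsd (a χ) (i χ) hζ
          (by rw [← hcf]; exact hdiag χ hχ) hc2
        exact ⟨S, fun _ => hS⟩
      · exact ⟨0, fun h => absurd h hχ⟩
    choose S hS using hex
    have htot : ∑ χ ∈ B.toFinset, S χ = ((p ^ d * Cfsg.blockRank p e : ℕ) : ℤ) * m := by
      apply Int.cast_injective (α := ℂ)
      rw [Int.cast_sum, Int.cast_mul, hm, Int.cast_natCast (primitiveRoots n ℂ).card,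
        ← sum_sum_cycloForm hn0 hζ B.toFinset Z a i _ (by
          rw [Int.cast_natCast, Nat.cast_mul, ← sum_contrib_self hM hC ⟨k, hx⟩ hind d]
          exact Finset.sum_congr rfl fun χ _ => (hcf χ χ).symm)]
      exact Finset.sum_congr rfl fun χ hχ => (hS χ (Set.mem_toFinset.mp hχ)).1.symm
    have hlow := Finset.card_nsmul_le_sum B.toFinset S (2 * m)
      fun χ hχ => (hS χ (Set.mem_toFinset.mp hχ)).2
    rw [htot, nsmul_eq_mul] at hlow
    have hl' : ((p ^ d * Cfsg.blockRank p e : ℕ) : ℤ) ≤ 2 * N := by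
      rw [hN]
      exact_mod_cast (Nat.mul_le_mul_left _ hl).trans_eq (mul_comm _ _)
    have : (B.toFinset.card : ℤ) * (2 * m) ≤ N * (2 * m) := by nlinarith
    have h := le_of_mul_le_mul_right this (by linarith)
    rw [hN] at h
    exact_mod_cast h
  obtain ⟨v, hv⟩ := hone
  have htr2 : ∑ φ ∈ T, Z φ φ ≤ 2 * N := by
    rw [htr, hN]
    exact_mod_cast (Nat.mul_le_mul_left _ hl).trans_eq (mul_comm _ _)
  obtain ⟨β, w, D, hD, hsplit, hw, hwD⟩ := exists_rank_two_split hZ hN0 hsq htr2 hv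
  set s : Cfsg.IrrCharacter C → ℤ := fun φ => ∑ θ ∈ T, Z φ θ * v θ with hs
  let La : Cfsg.IrrCharacter G → ℂ := fun χ => linForm T s (a χ) (i χ) ζ
  let Lb : Cfsg.IrrCharacter G → ℂ := fun χ => linForm T β (a χ) (i χ) ζ
  have hdec : ∀ χ ψ, contrib p d x e χ ψ = La χ * conj (La ψ) + (D : ℂ) * (Lb χ * conj (Lb ψ)) := by
    intro χ ψ
    rw [hcf]
    simp only [La, Lb, ← cycloForm_rank_one, cycloForm, Finset.mul_sum, ← Finset.sum_add_distrib]
    exact Finset.sum_congr rfl fun φ hφ => Finset.sum_congr rfl fun θ hθ => by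
      rw [hsplit φ hφ θ hθ]; simp only [hs]; push_cast; ring
  -- Gram sums
  have hgram : ∀ (u t : Cfsg.IrrCharacter C → ℤ), (∀ φ ∈ T, t φ = ∑ θ ∈ T, Z φ θ * u θ) →
      ∑ χ ∈ B.toFinset, linForm T t (a χ) (i χ) ζ * conj (linForm T t (a χ) (i χ) ζ) =
        ((N * zForm T Z u u : ℤ) : ℂ) := by
    intro u t ht
    calc ∑ χ ∈ B.toFinset, linForm T t (a χ) (i χ) ζ * conj (linForm T t (a χ) (i χ) ζ)
        = ∑ χ ∈ B.toFinset, ∑ φ ∈ T, ∑ θ ∈ T, ((u φ : ℂ) * (u θ : ℂ)) *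
            (linForm T (fun ψ => Z ψ φ) (a χ) (i χ) ζ *
              conj (linForm T (fun ψ => Z ψ θ) (a χ) (i χ) ζ)) := by
          refine Finset.sum_congr rfl fun χ _ => ?_
          rw [linForm_congr ht, linForm_sum_mul]
          simp only [map_sum, map_mul, map_intCast, Finset.sum_mul_sum]
          exact Finset.sum_congr rfl fun φ _ => Finset.sum_congr rfl fun θ _ => by ring
      _ = ∑ φ ∈ T, ∑ θ ∈ T, ((u φ : ℂ) * (u θ : ℂ)) * ((N * Z φ θ : ℤ) : ℂ) := by
          rw [Finset.sum_comm]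
          refine Finset.sum_congr rfl fun φ hφ => ?_
          rw [Finset.sum_comm]
          refine Finset.sum_congr rfl fun θ hθ => ?_
          rw [← Finset.mul_sum, sum_row_mul_conj hM hC ⟨k, hx⟩ hind hZ hval hsq a i
            (fun χ s => (hai χ).2 e s) (Set.mem_toFinset.mp hφ) (Set.mem_toFinset.mp hθ)]
      _ = _ := by
          simp only [zForm, Finset.mul_sum, Int.cast_sum]
          exact Finset.sum_congr rfl fun φ _ => Finset.sum_congr rfl fun θ _ => by push_cast; ring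
  choose Sa hSa using fun χ => exists_sq_weight (T := T) hp k hζ s (a χ) (i χ)
  choose Sb hSb using fun χ => exists_sq_weight (T := T) hp k hζ β (a χ) (i χ)
  have hsa : ∑ χ ∈ B.toFinset, Sa χ = N * m := by
    apply Int.cast_injective (α := ℂ)
    rw [Int.cast_sum, Int.cast_mul, hm, Int.cast_natCast (primitiveRoots n ℂ).card,
      ← sum_sum_cycloForm hn0 hζ B.toFinset (fun φ θ => s φ * s θ) a i N (by
        simp only [cycloForm_rank_one]
        rw [hgram v s fun φ _ => rfl, hv, mul_one])]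
    exact Finset.sum_congr rfl fun χ _ => (hSa χ).1.symm
  have hsb : ∑ χ ∈ B.toFinset, Sb χ ≤ N * m := by
    have hg := hgram w (fun φ => D * β φ) fun φ hφ => (hw φ hφ).symm
    have hsc : ∀ χ, linForm T (fun φ => D * β φ) (a χ) (i χ) ζ = (D : ℂ) * Lb χ := fun χ => by
      simp only [Lb, linForm, Finset.mul_sum]
      exact Finset.sum_congr rfl fun φ _ => by push_cast; ring
    have hint : ∑ χ ∈ B.toFinset, cycloForm T (fun φ θ => (D * β φ) * (D * β θ))
        (a χ) (a χ) (i χ) (i χ) ζ = ((N * zForm T Z w w : ℤ) : ℂ) := by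
      simp only [cycloForm_rank_one]
      exact hg
    have h2 := sum_sum_cycloForm hn0 hζ B.toFinset _ a i _ hint
    have h3 : D * D * ∑ χ ∈ B.toFinset, Sb χ = N * zForm T Z w w * m := by
      apply Int.cast_injective (α := ℂ)
      rw [Int.cast_mul (N * zForm T Z w w), hm, Int.cast_natCast (primitiveRoots n ℂ).card, ← h2,
        Int.cast_mul, Int.cast_sum, Finset.mul_sum]
      refine Finset.sum_congr rfl fun χ _ => ?_
      rw [← (hSb χ).1, Finset.mul_sum]
      refine Finset.sum_congr rfl fun z _ => ?_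
      simp only [cycloForm, Finset.mul_sum]
      exact Finset.sum_congr rfl fun φ _ => Finset.sum_congr rfl fun θ _ => by push_cast; ring
    have h4 : 0 ≤ ∑ χ ∈ B.toFinset, Sb χ := Finset.sum_nonneg fun χ _ => (hSb χ).2.1
    have h5 : N * zForm T Z w w * m ≤ N * D * m :=
      mul_le_mul_of_nonneg_right (mul_le_mul_of_nonneg_left hwD hN0.le) hm0.le
    have h6 : D * ∑ χ ∈ B.toFinset, Sb χ ≤ N * m :=
      le_of_mul_le_mul_left (by linarith) hD
    exact le_trans (le_mul_of_one_le_left h4 (by omega)) h6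
  -- the linear forms modulo `M`
  let rv : ℂ := ∑ θ ∈ T, r θ * (v θ : ℂ)
  have hrvR : Cfsg.MemLocalRing M rv :=
    memRing_sum hM _ fun θ hθ => memRing_mul hM (hr θ hθ) (memRing_intCast hM _)
  have hsred : ∀ φ ∈ T, Cfsg.MemLocalIdeal M ((s φ : ℂ) - c * r φ * rv) := by
    intro φ hφ
    simp only [hs, rv, Int.cast_sum, Finset.mul_sum, ← Finset.sum_sub_distrib]
    refine memIdeal_sum hM _ fun θ hθ => ?_
    have h := memIdeal_mul_right hM (hcong φ (Set.mem_toFinset.mp hφ) θ (Set.mem_toFinset.mp hθ))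
      (memRing_intCast hM (v θ))
    convert h using 1
    simp only [r]
    push_cast
    ring
  have hasum : ∀ χ, Cfsg.MemLocalIdeal M
      (((∑ φ ∈ T, (a χ φ : ℤ) * s φ : ℤ) : ℂ) - c * rv * R χ) := by
    intro χ
    simp only [Int.cast_sum, R, Finset.mul_sum, ← Finset.sum_sub_distrib]
    refine memIdeal_sum hM _ fun φ hφ => ?_
    convert memIdeal_mul_left hM (memRing_natCast hM (a χ φ)) (hsred φ hφ) using 1
    push_cast
    ring
  have hrv : ¬ Cfsg.MemLocalIdeal M rv := by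
    intro hmem
    have h1 : Cfsg.MemLocalIdeal M (((1 : ℤ) : ℂ) - c * rv * rv) := by
      rw [← hv, zForm_eq_sum_mul]
      simp only [Int.cast_sum]
      conv => arg 2; arg 2; arg 2; rw [show rv = ∑ θ ∈ T, r θ * (v θ : ℂ) from rfl]
      rw [Finset.mul_sum, ← Finset.sum_sub_distrib]
      refine memIdeal_sum hM _ fun φ hφ => ?_
      convert memIdeal_mul_left hM (memRing_intCast hM (v φ)) (hsred φ hφ) using 1
      push_cast [hs]
      ring
    have h2 := memIdeal_add hM h1 (memIdeal_mul_left hM (memRing_mul hM hc hrvR) hmem)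
    rw [sub_add_cancel, memIdeal_intCast_iff hM] at h2
    exact hp.ne_one (Nat.dvd_one.mp (by exact_mod_cast h2))
  have hLa0 : ∀ χ ∈ B, (Cfsg.charDegree (χ : G → ℂ)).factorization p = minExp p B → La χ ≠ 0 := by
    intro χ hχ hh h0
    have h1 := memIdeal_add hM (linForm_congr_memIdeal (T := T) hM hζ s (a χ) (i χ)).1 (hasum χ)
    rw [show linForm T s (a χ) (i χ) ζ = 0 from h0, sub_add_sub_cancel, zero_sub] at h1
    have h2 := memIdeal_neg h1
    rw [neg_neg] at h2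
    exact not_memIdeal_mul hM (memRing_mul hM hc hrvR) (hR χ)
      (not_memIdeal_mul hM hc hrvR hc' hrv) (hR0 χ hχ hh) h2
  have hdvds : ∀ χ ∈ B, (Cfsg.charDegree (χ : G → ℂ)).factorization p ≠ minExp p B →
      (p : ℤ) ∣ ∑ φ ∈ T, (a χ φ : ℤ) * s φ := by
    intro χ hχ hh
    refine (memIdeal_intCast_iff hM _).mp ?_
    have h := memIdeal_add hM (hasum χ)
      (memIdeal_mul_left hM (memRing_mul hM hc hrvR) (hRpos χ hχ hh))
    rwa [sub_add_cancel] at h
  -- the count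
  set F0 := B.toFinset.filter fun χ : Cfsg.IrrCharacter G =>
    (Cfsg.charDegree (χ : G → ℂ)).factorization p = minExp p B with hF0
  set F1 := B.toFinset.filter fun χ : Cfsg.IrrCharacter G =>
    ¬ (Cfsg.charDegree (χ : G → ℂ)).factorization p = minExp p B with hF1
  set A := F1.filter fun χ => La χ = 0 with hA
  set A' := F1.filter fun χ => ¬ La χ = 0 with hA'
  have hcards : F0.card + (A.card + A'.card) = B.toFinset.card := by
    rw [hA, hA', Finset.card_filter_add_card_filter_not, hF0, hF1,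
      Finset.card_filter_add_card_filter_not]
  have hbound : ∀ (S : Cfsg.IrrCharacter G → ℤ) (U : Finset (Cfsg.IrrCharacter G)),
      U ⊆ F1 → (∀ χ ∈ B.toFinset, 0 ≤ S χ) → (∀ χ ∈ F0, m ≤ S χ) → (∀ χ ∈ U, 2 * m ≤ S χ) →
      ∑ χ ∈ B.toFinset, S χ ≤ N * m → F0.card + 2 * U.card ≤ p ^ d := by
    intro S U hU hS0 hS1 hS2 hsum
    rw [← Finset.sum_filter_add_sum_filter_not B.toFinset (fun χ : Cfsg.IrrCharacter G =>
      (Cfsg.charDegree (χ : G → ℂ)).factorization p = minExp p B)] at hsum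
    have h1 := Finset.card_nsmul_le_sum F0 S m hS1
    have h2 := (Finset.card_nsmul_le_sum U S (2 * m) hS2).trans
      (Finset.sum_le_sum_of_subset_of_nonneg hU fun χ hχ _ => hS0 χ (Finset.mem_filter.mp hχ).1)
    rw [nsmul_eq_mul] at h1 h2
    have : ((F0.card : ℤ) + 2 * (U.card : ℤ)) * m ≤ N * m := by linarith
    have h := le_of_mul_le_mul_right this hm0
    rw [hN] at h
    exact_mod_cast h
  have hb1 : F0.card + 2 * A'.card ≤ p ^ d := by
    refine hbound Sa A' (Finset.filter_subset _ _) (fun χ _ => (hSa χ).2.1) (fun χ hχ => ?_)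
      (fun χ hχ => ?_) hsa.le
    · obtain ⟨hχ, hh⟩ := Finset.mem_filter.mp hχ
      exact ((hSa χ).2.2 (hLa0 χ (Set.mem_toFinset.mp hχ) hh)).1
    · obtain ⟨hχ, hne⟩ := Finset.mem_filter.mp hχ
      obtain ⟨hχ, hh⟩ := Finset.mem_filter.mp hχ
      exact ((hSa χ).2.2 hne).2 (hdvds χ (Set.mem_toFinset.mp hχ) hh)
  rcases A.eq_empty_or_nonempty with hA0 | ⟨χ₁, hχ₁⟩
  · rw [hA0, Finset.card_empty] at hcards
    omega
  have hb2 : F0.card + 2 * A.card ≤ p ^ d := by
    refine hbound Sb A (Finset.filter_subset _ _) (fun χ _ => (hSb χ).2.1) (fun χ hχ => ?_)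
      (fun χ hχ => ?_) hsb
    · obtain ⟨hχ, hh⟩ := Finset.mem_filter.mp hχ
      obtain ⟨hχ₁', hz⟩ := Finset.mem_filter.mp hχ₁
      have hne := hoff χ₁ (Set.mem_toFinset.mp (Finset.mem_filter.mp hχ₁').1) χ
        (Set.mem_toFinset.mp hχ) hh
      rw [hdec, show La χ₁ = 0 from hz, zero_mul, zero_add] at hne
      exact ((hSb χ).2.2 fun h0 => hne (by
        rw [show Lb χ = 0 from h0, map_zero, mul_zero, mul_zero])).1
    · obtain ⟨hχ', hz⟩ := Finset.mem_filter.mp hχ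
      obtain ⟨hχ', hh⟩ := Finset.mem_filter.mp hχ'
      have hχ := Set.mem_toFinset.mp hχ'
      have hne : Lb χ ≠ 0 := by
        intro h0
        apply hdiag χ hχ
        rw [hdec, show La χ = 0 from hz, h0]
        ring
      refine ((hSb χ).2.2 hne).2 ((memIdeal_intCast_iff hM _).mp ?_)
      set q : ℂ := ((p ^ ((Cfsg.charDegree (χ : G → ℂ)).factorization p - minExp p B) : ℕ) : ℂ)
        with hq
      have h1 : q * Y χ χ₀ = (D : ℂ) * (Lb χ * conj (Lb χ₀)) := by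
        rw [hq, ← (hY χ hχ χ₀).2, hdec, show La χ = 0 from hz, zero_mul, zero_add]
      have h2 : q * Y χ χ = (D : ℂ) * (Lb χ * conj (Lb χ)) := by
        rw [hq, ← (hY χ hχ χ).2, hdec, show La χ = 0 from hz, zero_mul, zero_add]
      have hq0 : q ≠ 0 := Nat.cast_ne_zero.mpr (pow_ne_zero _ hp.ne_zero)
      have h3 : conj (Lb χ) * Y χ χ₀ = conj (Lb χ₀) * Y χ χ := by
        refine mul_left_cancel₀ hq0 ?_
        linear_combination conj (Lb χ) * h1 - conj (Lb χ₀) * h2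
      have hint : ∀ ψ, Cfsg.MemLocalRing M (conj (Lb ψ)) := fun ψ => memRing_algInt hM
        ((isIntegral_linForm hn0 hζ β (a ψ) (i ψ)).map (RingHom.toIntAlgHom (starRingEnd ℂ)))
      have h4 : Cfsg.MemLocalIdeal M (conj (Lb χ)) := by
        by_contra hcon
        refine not_memIdeal_mul hM (hint χ) (memRing_algInt hM (hY χ hχ χ₀).1) hcon
          (hYne χ hχ χ₀ hχ₀ hχ₀m) ?_
        rw [h3]
        exact memIdeal_mul_left hM (hint χ₀) (hpos χ hχ hh).2
      have h5 := memIdeal_sub hM h4 (linForm_congr_memIdeal (T := T) hM hζ β (a χ) (i χ)).2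
      rwa [sub_sub_cancel] at h5
  omega

end CfsgLib.BlockRank
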