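import Cfsg.Agent.Lib.BlockRank.StarColumns

/-!
# The bounds for abelian defect groups of rank two and three from the star construction
-/

set_option autoImplicit false
set_option maxHeartbeats 800000
set_option synthInstance.maxHeartbeats 400000

open Cfsg CfsgLib.Blocks CfsgLib.Blocks.Pairs CfsgLib.BlockReg
open scoped Classical ComplexConjugate

namespace CfsgLib.BlockRank

universe u

variable (p : ℕ) [Fact p.Prime] (M : Ideal AlgInt) [M.IsMaximal] [CharP (ResField M) p]

/-- The two facts about the star construction used for abelian defect groups. -/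
def StarFacts : Prop :=
  ∀ {G : Type u} [Group G] [Fintype G] {B : Set (IrrCharacter G)} (hB : IsPBlock M B)
    {P : Subgroup G} {e : MonoidAlgebra (ResField M) G}, PairOf p (ebar hB) P e → NoExt p P e →
    ∀ η : G → ℂ, CfsgLib.BlockStar.Stable p P e η →
      IsGeneralizedCharacter P (fun u : P => η u) → ∀ χ ∈ B,
      IsGeneralizedCharacter G (CfsgLib.BlockStar.star p M P e η (χ : G → ℂ)) ∧
      ∀ (z : G), (∃ k : ℕ, orderOf z = p ^ k) →
        ∀ s : Subgroup.centralizer ({z} : Set G), IsPRegular p s →
          CfsgLib.BlockStar.star p M P e η (χ : G → ℂ) (z * (s : G)) =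
          ∑ b : {b : Set (IrrCharacter (Subgroup.centralizer ({z} : Set G))) // IsPBlock M b},
            CfsgLib.BlockStar.pairVal p P e η z (eIn b.2) *
              blockPart b.1 (fun c => (χ : G → ℂ) (z * (c : G))) s

variable {p M}

theorem starIntegral (hM : IsPModular p M) (hs : StarFacts.{u} p M) : StarIntegral.{u} p M := by
  intro G _ _ B hB P e hP hno hab η _ hinv hchar T φ hsurj _ hreps hpair χ hχ ψ _
  have hst : CfsgLib.BlockStar.Stable p P e η := by
    intro u hu g f h1 h2
    rw [CfsgLib.BlockStar.conjSub_zpowers_eq] at h2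
    obtain ⟨y, hy, hyu⟩ := exists_stab_of_fusion hP hno hab h1 h2
    rw [← hyu]
    exact hinv y hy u hu
  obtain ⟨n, lam, c, hc⟩ := hchar
  obtain ⟨hgen, hsec⟩ :=
    hs hB hP hno η hst (isGeneralizedCharacter_linearCombination lam c _ hc) χ hχ
  obtain ⟨z, hz⟩ := CfsgLib.CharExc.exists_int_classInner hgen ψ.2
  exact ⟨z, by rw [← hz, classInner_eq_sum_contrib hM hB hP hno hab η hinv T φ hsurj hreps hpair
    (CfsgLib.BlockStar.isClassFunction_star hM hst (CfsgLib.Char.IsIrrCharacter.isClassFunction χ.2))
    hsec]⟩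

theorem cyclicNormBound (hM : IsPModular p M) (hs : StarFacts.{u} p M) :
    CyclicNormBound.{u} p M := by
  intro G _ _ B _ P hB hD hcyc Z hval v hv
  exact norm_ge_of_cyclic (starIntegral hM hs) hM P hB hD hcyc Z hval v hv

end CfsgLib.BlockRank
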