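import Cfsg.Agent.Lib.BlockRank.CyclicLattice
import Cfsg.Agent.Lib.BlockStar.Def

/-!
# The coefficients of a star product in terms of contributions
-/

set_option autoImplicit false
set_option maxHeartbeats 800000
set_option synthInstance.maxHeartbeats 400000

open Cfsg CfsgLib.Blocks CfsgLib.Blocks.Pairs CfsgLib.BlockReg
open scoped Classical ComplexConjugate

namespace CfsgLib.BlockRank

universe u

variable {p : ℕ} [Fact p.Prime] {M : Ideal AlgInt} [M.IsMaximal]
variable {G : Type u} [Group G] [Fintype G]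

omit [Fact p.Prime] [M.IsMaximal] [Fintype G] in
/-- An integral combination of linear characters is a generalized character. -/
theorem isGeneralizedCharacter_linearCombination {P : Subgroup G} {n : ℕ}
    (lam : Fin n → (P →* ℂˣ)) (c : Fin n → ℤ) (f : P → ℂ)
    (hf : ∀ u : P, f u = ∑ i, (c i : ℂ) * (lam i u : ℂ)) : IsGeneralizedCharacter P f := by
  have hsum : f = ∑ i, (c i : ℂ) • fun u : P => (lam i u : ℂ) := by
    funext u
    simp [hf, Finset.sum_apply]
  rw [hsum]
  exact Finset.sum_induction _ (IsGeneralizedCharacter P)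
    (fun a b ha hb => CfsgLib.Char.IsGeneralizedCharacter.add ha hb)
    CfsgLib.Char.IsGeneralizedCharacter.zero fun i _ =>
      CfsgLib.Char.IsGeneralizedCharacter.intCast_smul
        (CfsgLib.Char.IsIrrCharacter.isGeneralizedCharacter
          (CfsgLib.Char.isIrrCharacter_linear _)) _

variable [CharP (ResField M) p]

/-- The coefficient of a character in a star product, from its values on the sections. -/
theorem classInner_eq_sum_contrib (hM : IsPModular p M) {B : Set (IrrCharacter G)}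
    (hB : IsPBlock M B) {P : Subgroup G} {e : MonoidAlgebra (ResField M) G}
    (hP : PairOf p (ebar hB) P e) (hno : NoExt p P e) (hab : ∀ x ∈ P, ∀ y ∈ P, x * y = y * x)
    (η : G → ℂ) (hηinv : ∀ y ∈ pairStab P e, ∀ u ∈ P, η (y * u * y⁻¹) = η u)
    (T : Finset (Σ x : G, Set (IrrCharacter (Subgroup.centralizer ({x} : Set G)))))
    (φ : (Σ x : G, Set (IrrCharacter (Subgroup.centralizer ({x} : Set G)))) → G)
    (hsurj : ∀ u ∈ P, ∃ s ∈ T, ∃ y ∈ pairStab P e, y * φ s * y⁻¹ = u)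
    (hreps : ∀ s₁ ∈ T, ∀ s₂ ∈ T, IsConj s₁.1 s₂.1 → s₁.1 = s₂.1)
    (hpair : ∀ s ∈ T, ∃ (g : G) (hb : IsPBlock M s.2), g * s.1 * g⁻¹ = φ s ∧
      SLE p (Subgroup.zpowers (φ s)) (conjA g (eIn hb)) P e)
    {χ : IrrCharacter G} {ψ : IrrCharacter G} {F : G → ℂ} (hF : IsClassFunction G F)
    (hsec : ∀ (z : G), (∃ k : ℕ, orderOf z = p ^ k) →
      ∀ s : Subgroup.centralizer ({z} : Set G), IsPRegular p s → F (z * (s : G)) =
        ∑ b : {b : Set (IrrCharacter (Subgroup.centralizer ({z} : Set G))) // IsPBlock M b},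
          CfsgLib.BlockStar.pairVal p P e η z (eIn b.2) *
            blockPart b.1 (fun c => (χ : G → ℂ) (z * (c : G))) s) :
    classInner F (ψ : G → ℂ) = ((p ^ blockDefect p B : ℕ) : ℂ)⁻¹ *
      ∑ s ∈ T, η (φ s) * contrib p (blockDefect p B) s.1 s.2 χ ψ := by
  have hp : p.Prime := Fact.out
  set d := blockDefect p B
  have hst : CfsgLib.BlockStar.Stable p P e η := by
    intro u hu g f h1 h2
    rw [CfsgLib.BlockStar.conjSub_zpowers_eq] at h2
    obtain ⟨y, hy, hyu⟩ := exists_stab_of_fusion hP hno hab h1 h2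
    rw [← hyu]
    exact hηinv y hy u hu
  have hpp : ∀ s ∈ T, ∃ k : ℕ, orderOf s.1 = p ^ k := by
    intro s hs
    obtain ⟨g, hb, hg, hle⟩ := hpair s hs
    obtain ⟨k, hk⟩ := IsPGroup.iff_orderOf.1 hP.pair.pgroup
      ⟨φ s, hle.le (Subgroup.mem_zpowers _)⟩
    refine ⟨k, ?_⟩
    rw [← hk, Subgroup.orderOf_mk, ← hg]
    exact (MulEquiv.orderOf_eq (MulAut.conj g) s.1).symm
  -- class representatives extending those of the subsections
  let rep : ConjClasses G → G := fun K =>
    if h : ∃ s ∈ T, ConjClasses.mk s.1 = K then h.choose.1 else Quotient.out K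
  have hrep : ∀ g : G, IsConj g (rep (ConjClasses.mk g)) := by
    intro g
    simp only [rep]
    split_ifs with h
    · exact (ConjClasses.mk_eq_mk_iff_isConj.1 h.choose_spec.2).symm
    · exact (ConjClasses.mk_eq_mk_iff_isConj.1 (Quotient.out_eq (ConjClasses.mk g))).symm
  have hrepT : ∀ s ∈ T, rep (ConjClasses.mk s.1) = s.1 := by
    intro s hs
    simp only [rep]
    rw [dif_pos ⟨s, hs, rfl⟩]
    generalize_proofs h
    exact hreps _ h.choose_spec.1 s hs (ConjClasses.mk_eq_mk_iff_isConj.1 h.choose_spec.2)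
  let X : Finset G := (Finset.univ.image fun g : G => rep (ConjClasses.mk g)).filter
    fun x => ∃ k : ℕ, orderOf x = p ^ k
  have hX : ∀ x ∈ X, ∃ k : ℕ, orderOf x = p ^ k := fun x hx => (Finset.mem_filter.1 hx).2
  have hXrep : ∀ g : G, (∃ k : ℕ, orderOf g = p ^ k) → ∃! x, x ∈ X ∧ IsConj g x := by
    intro g ⟨k, hk⟩
    refine ⟨rep (ConjClasses.mk g), ⟨Finset.mem_filter.2
      ⟨Finset.mem_image.2 ⟨g, Finset.mem_univ _, rfl⟩, k, ?_⟩, hrep g⟩, ?_⟩
    · obtain ⟨c, hc⟩ := isConj_iff.1 (hrep g)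
      rw [← hc, ← hk]
      exact MulEquiv.orderOf_eq (MulAut.conj c) g
    · rintro y ⟨hy, hgy⟩
      obtain ⟨g', -, rfl⟩ := Finset.mem_image.1 (Finset.mem_filter.1 hy).1
      rw [ConjClasses.mk_eq_mk_iff_isConj.2 (hgy.trans (hrep g').symm)]
  have hTX : ∀ s ∈ T, s.1 ∈ X := fun s hs => Finset.mem_filter.2
    ⟨Finset.mem_image.2 ⟨s.1, Finset.mem_univ _, hrepT s hs⟩, hpp s hs⟩
  -- the sum over the sections
  let V : (Σ x : G, Set (IrrCharacter (Subgroup.centralizer ({x} : Set G)))) → ℂ := fun s =>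
    if h : IsPBlock M s.2 then CfsgLib.BlockStar.pairVal p P e η s.1 (eIn h) else 0
  have hfcl : IsClassFunction G fun g => F g * conj ((ψ : G → ℂ) g) := fun g h => by
    show F (h * g * h⁻¹) * conj ((ψ : G → ℂ) (h * g * h⁻¹)) = _
    rw [hF, CfsgLib.Char.IsIrrCharacter.isClassFunction ψ.2]
  have hstep : ∀ x ∈ X, (Nat.card {y : G // IsConj x y} : ℂ) *
      sectionSum p (fun g => F g * conj ((ψ : G → ℂ) g)) x =
      (Nat.card G : ℂ) * ∑ b : {b : Set (IrrCharacter (Subgroup.centralizer ({x} : Set G))) //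
          IsPBlock M b}, V ⟨x, b.1⟩ * (((p ^ d : ℕ) : ℂ)⁻¹ * contrib p d x b.1 χ ψ) := by
    intro x hx
    rw [sectionSum_eq_sum_regSet (C := Subgroup.centralizer ({x} : Set G)) _ rfl]
    rw [Finset.sum_congr rfl fun s hs => by
      rw [hsec x (hX x hx) s (Finset.mem_filter.1 hs).2, Finset.sum_mul]]
    rw [Finset.sum_comm, Finset.mul_sum, Finset.mul_sum]
    refine Finset.sum_congr rfl fun b _ => ?_
    haveI := Fintype.ofFinite b.1
    have hreg : regPair p (blockPart b.1 (fun c => (χ : G → ℂ) (x * (c : G))))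
        (fun c : Subgroup.centralizer ({x} : Set G) => (ψ : G → ℂ) (x * (c : G))) =
        regPair p (blockPart b.1 (fun c => (χ : G → ℂ) (x * (c : G))))
          (blockPart b.1 (fun c : Subgroup.centralizer ({x} : Set G) => (ψ : G → ℂ) (x * (c : G)))) := by
      have h := congrArg conj (regPair_blockPart hM b.2 (isClassFunction_translate rfl ψ)
        (fun c : Subgroup.centralizer ({x} : Set G) => (χ : G → ℂ) (x * (c : G))))
      simp only [regPair, map_sum, map_mul, Complex.conj_conj] at h ⊢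
      rw [Finset.sum_congr rfl fun s _ => mul_comm _ _, h]
      exact Finset.sum_congr rfl fun s _ => mul_comm _ _
    have hcard : (Nat.card {y : G // IsConj x y} : ℂ) *
        (Nat.card (Subgroup.centralizer ({x} : Set G)) : ℂ) = (Nat.card G : ℂ) := by
      rw [← Nat.cast_mul, CfsgLib.Char.card_isConj_mul_card_centralizer x]
    simp only [V, dif_pos b.2]
    rw [contrib, ← hreg, regPair, ← hcard]
    have hC0 : (Nat.card (Subgroup.centralizer ({x} : Set G)) : ℂ) ≠ 0 :=
      Nat.cast_ne_zero.2 Nat.card_pos.ne'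
    have hp0 : ((p ^ d : ℕ) : ℂ) ≠ 0 := Nat.cast_ne_zero.2 (pow_ne_zero _ hp.ne_zero)
    simp only [Finset.mul_sum]
    refine Finset.sum_congr rfl fun s _ => ?_
    field_simp
  have hVT : ∀ s ∈ T, V s = η (φ s) := by
    intro s hs
    obtain ⟨g, hb, hg, hle⟩ := hpair s hs
    simp only [V, dif_pos hb]
    rw [CfsgLib.BlockStar.pairVal_eq hst (g := g) (by
      rwa [CfsgLib.BlockStar.conjSub_zpowers_eq, hg]), hg]
  have hV0 : ∀ x ∈ X, ∀ b : Set (IrrCharacter (Subgroup.centralizer ({x} : Set G))),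
      (⟨x, b⟩ : Σ x : G, Set (IrrCharacter (Subgroup.centralizer ({x} : Set G)))) ∉ T →
      V ⟨x, b⟩ = 0 := by
    intro x hx b hnot
    simp only [V]
    split_ifs with hb
    swap
    · rfl
    refine CfsgLib.BlockStar.pairVal_eq_zero fun g hg => hnot ?_
    rw [CfsgLib.BlockStar.conjSub_zpowers_eq] at hg
    obtain ⟨⟨x', b'⟩, hs, y, hy, hyu⟩ := hsurj _ (hg.le (Subgroup.mem_zpowers _))
    obtain ⟨g', hb', hg', hle⟩ := hpair _ hs
    dsimp only at hb' hg' hle
    rw [← hg'] at hyu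
    have hu : g * x * g⁻¹ = y * g' * x' * (y * g')⁻¹ := by rw [← hyu]; group
    obtain rfl : x = x' := by
      have h1 : IsConj x' x := isConj_iff.2 ⟨g⁻¹ * (y * g'), by
        calc _ = g⁻¹ * (y * g' * x' * (y * g')⁻¹) * g := by group
          _ = x := by rw [← hu]; group⟩
      exact (hXrep x (hX x hx)).unique ⟨hx, IsConj.refl _⟩ ⟨hTX _ hs, h1.symm⟩
    have hl := hle.conj y
    rw [← hg', CfsgLib.BlockStar.conjSub_zpowers_eq, conjA_conjA,
      conjSub_eq_of_mem_normalizer hy.1, hy.2,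
      show y * (g' * x * g'⁻¹) * y⁻¹ = y * g' * x * (y * g')⁻¹ by group, ← hu] at hl
    have h3 := SLE.unique hP.pair hl hg
    have h4 : conjA (g⁻¹ * (y * g')) (eIn hb') = eIn hb := by
      rw [← conjA_conjA, h3, conjA_inv_conjA]
    have hc : g⁻¹ * (y * g') ∈ Subgroup.centralizer ({x} : Set G) := by
      rw [Subgroup.mem_centralizer_singleton_iff]
      calc _ = g⁻¹ * (y * g' * x * (y * g')⁻¹) * (y * g') := by group
        _ = _ := by rw [← hu]; group
    rw [conjFixed_iff.mp (isBlockIdem_eIn hb').mem.fixed _ hc] at h4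
    obtain rfl : b' = b := eIn_injective hb' hb h4
    exact hs
  rw [classInner, sum_eq_sum_sectionSum (p := p) hfcl X hX hXrep, Finset.sum_congr rfl hstep,
    ← Finset.mul_sum, ← mul_assoc, inv_mul_cancel₀ (Nat.cast_ne_zero.2 Nat.card_pos.ne'), one_mul,
    Finset.sum_sigma' X (fun x => Finset.univ)
      fun x (b : {b : Set (IrrCharacter (Subgroup.centralizer ({x} : Set G))) // IsPBlock M b}) =>
        V ⟨x, b.1⟩ * (((p ^ d : ℕ) : ℂ)⁻¹ * contrib p d x b.1 χ ψ), Finset.mul_sum]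
  symm
  refine Finset.sum_bij_ne_zero (fun s hs _ => ⟨s.1, ⟨s.2, (hpair s hs).choose_spec.choose⟩⟩)
    (fun s hs _ => Finset.mem_sigma.2 ⟨hTX s hs, Finset.mem_univ _⟩) ?_ ?_ ?_
  · rintro ⟨x₁, b₁⟩ _ _ ⟨x₂, b₂⟩ _ _ h
    simp only [Sigma.mk.injEq] at h
    obtain ⟨rfl, h⟩ := h
    rw [heq_eq_eq, Subtype.mk.injEq] at h
    rw [h]
  · rintro ⟨x, b⟩ hb hne
    have hmem : (⟨x, b.1⟩ : Σ x : G, Set (IrrCharacter (Subgroup.centralizer ({x} : Set G)))) ∈ T := by
      by_contra hnot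
      exact hne (by rw [hV0 x (Finset.mem_sigma.1 hb).1 b.1 hnot, zero_mul])
    refine ⟨⟨x, b.1⟩, hmem, ?_, rfl⟩
    intro h0
    apply hne
    rw [hVT _ hmem, ← h0]
    ring
  · intro s hs _
    rw [show (⟨s.1, (⟨s.2, _⟩ : {b // IsPBlock M b}).1⟩ :
      Σ x : G, Set (IrrCharacter (Subgroup.centralizer ({x} : Set G)))) = s from rfl, hVT s hs]
    ring

end CfsgLib.BlockRank
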