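import Mathlib.GroupTheory.PGroup
import Mathlib.Algebra.MonoidAlgebra.Basic
import Mathlib.Algebra.CharP.Lemmas
import Mathlib.Algebra.CharP.Two
import Mathlib.Data.ZMod.Basic
import Mathlib.Algebra.Order.Ring.Nat

/-!
# Small subsets of a `2`-group with an automorphism of order three

A family of subsets with at most three elements, covering a finite abelian `2`-group on which an
automorphism `τ` of order three acts without fixed points, such that the parities of the numbers of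
representations of each element as a quotient of members of two of the subsets are `τ`-invariant.
Then after a translation all subsets are invariant.
-/

set_option autoImplicit false

open scoped Classical

namespace CfsgLib.BlockRank.TriParity

universe u

variable {A : Type u} [CommGroup A]

/-- The number of representations of `ν` as `a / b` with `a ∈ S`, `b ∈ T`. -/
noncomputable def pc (S T : Finset A) (ν : A) : ℕ :=
  ((S ×ˢ T).filter fun q => q.1 / q.2 = ν).card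

/-- The parities of the representation numbers are invariant. -/
def Compat (τ : A ≃* A) (S T : Finset A) : Prop := ∀ ν, pc S T (τ ν) % 2 = pc S T ν % 2

/-- The elements represented an odd number of times. -/
noncomputable def par (S T : Finset A) : Finset A :=
  ((S ×ˢ T).image fun q => q.1 / q.2).filter fun ν => pc S T ν % 2 = 1

theorem mem_par {S T : Finset A} {ν : A} : ν ∈ par S T ↔ pc S T ν % 2 = 1 := by
  refine ⟨fun h => (Finset.mem_filter.1 h).2, fun h => Finset.mem_filter.2 ⟨?_, h⟩⟩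
  obtain ⟨q, hq⟩ := Finset.card_pos.1 (show 0 < pc S T ν by omega)
  obtain ⟨hq, hν⟩ := Finset.mem_filter.1 hq
  exact Finset.mem_image.2 ⟨q, hq, hν⟩

theorem par_invariant {τ : A ≃* A} {S T : Finset A} (h : Compat τ S T) :
    ∀ ν ∈ par S T, τ ν ∈ par S T := fun ν hν => mem_par.2 ((h ν).trans (mem_par.1 hν))

theorem mem_par_of_unique {S T : Finset A} {a b : A} (ha : a ∈ S) (hb : b ∈ T)
    (h : ∀ x ∈ S, ∀ y ∈ T, x / y = a / b → x = a ∧ y = b) : a / b ∈ par S T := by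
  rw [mem_par, pc, show ((S ×ˢ T).filter fun q => q.1 / q.2 = a / b) = {(a, b)} from ?_,
    Finset.card_singleton]
  ext ⟨x, y⟩
  simp only [Finset.mem_filter, Finset.mem_product, Finset.mem_singleton, Prod.mk.injEq]
  exact ⟨fun ⟨⟨hx, hy⟩, he⟩ => h x hx y hy he, fun ⟨hx, hy⟩ => by subst hx hy; exact ⟨⟨ha, hb⟩, rfl⟩⟩

theorem exists_of_mem_par {S T : Finset A} {ν : A} (h : ν ∈ par S T) :
    ∃ x ∈ S, ∃ y ∈ T, x / y = ν := by
  obtain ⟨⟨x, y⟩, hq, hν⟩ := Finset.mem_image.1 (Finset.mem_filter.1 h).1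
  obtain ⟨hx, hy⟩ := Finset.mem_product.1 hq
  exact ⟨x, hx, y, hy, hν⟩

theorem pc_translate (x : A) (S T : Finset A) :
    pc (S.image (x * ·)) (T.image (x * ·)) = pc S T := by
  funext ν
  refine (Finset.card_bij (fun q _ => (x * q.1, x * q.2)) (fun q hq => ?_)
    (fun a _ b _ h => ?_) (fun q hq => ?_)).symm
  · simp only [Finset.mem_filter, Finset.mem_product, Finset.mem_image] at hq ⊢
    exact ⟨⟨⟨q.1, hq.1.1, rfl⟩, ⟨q.2, hq.1.2, rfl⟩⟩, by rw [mul_div_mul_left_eq_div]; exact hq.2⟩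
  · simpa [Prod.ext_iff] using h
  · simp only [Finset.mem_filter, Finset.mem_product, Finset.mem_image] at hq
    obtain ⟨⟨⟨a, ha, h1⟩, ⟨b, hb, h2⟩⟩, he⟩ := hq
    refine ⟨(a, b), ?_, Prod.ext h1 h2⟩
    simp only [Finset.mem_filter, Finset.mem_product]
    exact ⟨⟨ha, hb⟩, by rw [← he, ← h1, ← h2, mul_div_mul_left_eq_div]⟩

theorem pc_eq_sum (S T : Finset A) (ν : A) :
    pc S T ν = ∑ a ∈ S, ∑ b ∈ T, if a / b = ν then 1 else 0 := by
  rw [pc, Finset.card_filter, Finset.sum_product]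

theorem cube_eq_one (h2 : ∀ a : A, ∃ k : ℕ, a ^ 2 ^ k = 1) {a : A} (h : a ^ 3 = 1) : a = 1 := by
  obtain ⟨k, hk⟩ := h2 a
  have h1 : orderOf a ∣ Nat.gcd 3 (2 ^ k) :=
    Nat.dvd_gcd (orderOf_dvd_of_pow_eq_one h) (orderOf_dvd_of_pow_eq_one hk)
  rw [Nat.Coprime.gcd_eq_one (Nat.Coprime.pow_right k (by norm_num))] at h1
  exact orderOf_eq_one_iff.1 (Nat.dvd_one.1 h1)

section Free

variable {τ : A ≃* A}

/-- An invariant set avoiding the identity consists of orbits of length three. -/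
theorem three_dvd_card (h3 : ∀ a, τ (τ (τ a)) = a) (hfree : ∀ a, τ a = a → a = 1) :
    ∀ F : Finset A, (∀ a ∈ F, τ a ∈ F) → (1 : A) ∉ F → 3 ∣ F.card := by
  intro F
  induction F using Finset.strongInduction with
  | _ F ih =>
    intro hF h1
    rcases F.eq_empty_or_nonempty with rfl | ⟨a, ha⟩
    · simp
    have ha1 : a ≠ 1 := fun h => h1 (h ▸ ha)
    have n1 : τ a ≠ a := fun h => ha1 (hfree a h)
    have n2 : τ (τ a) ≠ τ a := fun h => n1 (τ.injective h)
    have n3 : τ (τ a) ≠ a := fun h => n1 (by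
      have := congrArg τ h
      rw [h3] at this
      exact this.symm)
    set O : Finset A := {a, τ a, τ (τ a)} with hO
    have hOF : O ⊆ F := by
      intro y hy
      simp only [O, Finset.mem_insert, Finset.mem_singleton] at hy
      rcases hy with rfl | rfl | rfl
      exacts [ha, hF _ ha, hF _ (hF _ ha)]
    have hcard : O.card = 3 := Finset.card_eq_three.2 ⟨_, _, _, n1.symm, n3.symm, n2.symm, rfl⟩
    have hO' : ∀ y, τ y ∈ O → y ∈ O := by
      intro y hy
      simp only [O, Finset.mem_insert, Finset.mem_singleton] at hy ⊢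
      rcases hy with h | h | h
      · right; right; rw [← h3 y, h]
      · left; exact τ.injective h
      · right; left; exact τ.injective h
    have hlt : F \ O ⊂ F :=
      Finset.sdiff_ssubset hOF ⟨a, by simp [O]⟩
    have := ih _ hlt (fun y hy => Finset.mem_sdiff.2
      ⟨hF y (Finset.mem_sdiff.1 hy).1, fun h => (Finset.mem_sdiff.1 hy).2 (hO' y h)⟩)
      (fun h => h1 (Finset.mem_sdiff.1 h).1)
    rw [Finset.card_sdiff_of_subset hOF, hcard] at this
    have h3le : 3 ≤ F.card := hcard ▸ Finset.card_le_card hOF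
    omega

variable [Finite A]

theorem exists_div_apply (hfree : ∀ a, τ a = a → a = 1) (σ : A →* A)
    (hσ : ∀ a, σ a = a → τ a = a) (q : A) : ∃ v, v / σ v = q := by
  have hinj : Function.Injective fun v => v / σ v := by
    intro v w h
    have h' : σ (v / w) = v / w := by
      rw [map_div]
      simp only [div_eq_div_iff_mul_eq_mul] at h ⊢
      rw [mul_comm, ← h, mul_comm]
    exact div_eq_one.1 (hfree _ (hσ _ h'))
  exact (Finite.injective_iff_surjective.1 hinj) q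

omit [Finite A] in
theorem norm_eq_one (h3 : ∀ a, τ (τ (τ a)) = a) (hfree : ∀ a, τ a = a → a = 1) (a : A) :
    a * τ a * τ (τ a) = 1 := by
  refine hfree _ ?_
  rw [map_mul, map_mul, h3]
  ac_rfl

set_option maxHeartbeats 1000000 in
/-- A subset of three elements with invariant parities of quotients is a translate of an orbit or
of `{1, b, b⁻¹}` with `b` of order four. -/
theorem classify_three (h3 : ∀ a, τ (τ (τ a)) = a) (hfree : ∀ a, τ a = a → a = 1)
    (h2 : ∀ a : A, ∃ k : ℕ, a ^ 2 ^ k = 1)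
    (hV : ∀ u v : A, u ^ 2 = 1 → v ^ 2 = 1 → u ≠ 1 → v ≠ 1 → u ≠ v →
      ∀ w, w ^ 2 = 1 → w = 1 ∨ w = u ∨ w = v ∨ w = u * v)
    {S : Finset A} (hS : S.card = 3) (hc : Compat τ S S) :
    (∃ c v, v ≠ 1 ∧ S = {c * v, c * τ v, c * τ (τ v)}) ∨
      ∃ c b, b ^ 4 = 1 ∧ b ^ 2 ≠ 1 ∧ S = {c, c * b, c * b⁻¹} := by
  obtain ⟨x, y, z, hxy, hxz, hyz, rfl⟩ := Finset.card_eq_three.1 hS
  obtain ⟨q₁, hq₁⟩ : ∃ q, q = x / y := ⟨_, rfl⟩
  obtain ⟨q₂, hq₂⟩ : ∃ q, q = y / z := ⟨_, rfl⟩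
  obtain ⟨q₃, hq₃⟩ : ∃ q, q = z / x := ⟨_, rfl⟩
  have hprod : q₁ * q₂ * q₃ = 1 := by simp [hq₁, hq₂, hq₃]
  have hq3' : q₃ = (q₁ * q₂)⁻¹ := eq_inv_of_mul_eq_one_right hprod
  have n₁ : q₁ ≠ 1 := by rw [hq₁]; exact div_ne_one.2 hxy
  have n₂ : q₂ ≠ 1 := by rw [hq₂]; exact div_ne_one.2 hyz
  have n₃ : q₃ ≠ 1 := by rw [hq₃]; exact div_ne_one.2 (Ne.symm hxz)
  have hpc : ∀ ν : A, ν ≠ 1 → pc {x, y, z} {x, y, z} ν =
      (if q₁ = ν then 1 else 0) + (if q₁⁻¹ = ν then 1 else 0) + (if q₂ = ν then 1 else 0) +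
      (if q₂⁻¹ = ν then 1 else 0) + (if q₃ = ν then 1 else 0) +
      (if q₃⁻¹ = ν then 1 else 0) := by
    intro ν hν
    rw [pc_eq_sum]
    simp only [Finset.sum_insert, Finset.mem_insert, Finset.mem_singleton, hxy, hxz, hyz, or_self,
      not_false_eq_true, Finset.sum_singleton, hq₁, hq₂, hq₃, inv_div, div_self',
      if_neg (Ne.symm hν)]
    omega
  have hinv := par_invariant hc
  have hmem : ∀ ν : A, ν ≠ 1 → ν ∈ par {x, y, z} {x, y, z} →
      ν = q₁ ∨ ν = q₁⁻¹ ∨ ν = q₂ ∨ ν = q₂⁻¹ ∨ ν = q₃ ∨ ν = q₃⁻¹ := by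
    intro ν hν h
    rw [mem_par, hpc ν hν] at h
    by_contra hne
    push Not at hne
    obtain ⟨a, b, c, d, e, f⟩ := hne
    simp [Ne.symm a, Ne.symm b, Ne.symm c, Ne.symm d, Ne.symm e, Ne.symm f] at h
  have hne1 : ∀ a : A, a ≠ 1 → τ a ≠ 1 := fun a ha h => ha (τ.injective (h.trans τ.map_one.symm))
  have cube := fun (a : A) => cube_eq_one h2 (a := a)
  -- two equal quotients
  have hAP : ∀ a b c : A, ({x, y, z} : Finset A) = {a, b, c} → a / b = b / c →
      (∀ ν : A, ν ≠ 1 → pc {x, y, z} {x, y, z} ν =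
        (if a / b = ν then 1 else 0) + (if (a / b)⁻¹ = ν then 1 else 0) +
        (if b / c = ν then 1 else 0) + (if (b / c)⁻¹ = ν then 1 else 0) +
        (if c / a = ν then 1 else 0) + (if (c / a)⁻¹ = ν then 1 else 0)) →
      a / b ≠ 1 → c / a ≠ 1 →
      ∃ c b, b ^ 4 = 1 ∧ b ^ 2 ≠ 1 ∧ ({x, y, z} : Finset A) = {c, c * b, c * b⁻¹} := by
    intro a b c hset heq hform hq hq'
    obtain ⟨q, hqdef⟩ : ∃ q, q = a / b := ⟨_, rfl⟩
    have hca : c / a = (q ^ 2)⁻¹ := by
      rw [pow_two]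
      nth_rewrite 2 [hqdef]
      rw [hqdef, heq]
      nth_rewrite 2 [← heq]
      simp
    have hq2 : q ^ 2 ≠ 1 := fun h => hq' (by rw [hca, h, inv_one])
    refine ⟨b, q, ?_, hq2, ?_⟩
    · by_contra h4
      have e1 : q ≠ q ^ 2 := fun h => hq (hqdef ▸ (mul_left_cancel
        (show q * 1 = q * q by rw [mul_one, ← pow_two]; exact h)).symm)
      have e2 : q⁻¹ ≠ q ^ 2 := fun h => hq (hqdef ▸ cube q (by
        rw [pow_succ, ← h, inv_mul_cancel]))
      have e3 : (q ^ 2)⁻¹ ≠ q ^ 2 := fun h => h4 (by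
        rw [show (4 : ℕ) = 2 + 2 from rfl, pow_add]
        nth_rewrite 1 [← h]
        rw [inv_mul_cancel])
      have hν : q ^ 2 ∈ par ({x, y, z} : Finset A) {x, y, z} := by
        rw [mem_par, hform _ hq2, ← heq, ← hqdef, hca, inv_inv]
        simp [e1, e2, e3]
      have h := hinv _ hν
      have hn := hne1 _ hq2
      rw [mem_par, hform _ hn, ← heq, ← hqdef, hca, inv_inv] at h
      have key : τ (q ^ 2) = q ^ 2 ∨ τ (q ^ 2) = (q ^ 2)⁻¹ := by
        by_contra hne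
        push Not at hne
        simp only [if_neg (Ne.symm hne.1), if_neg (Ne.symm hne.2), add_zero] at h
        split_ifs at h <;> omega
      rcases key with hk | hk
      · exact hq2 (hfree _ hk)
      · have h2' : τ (τ (q ^ 2)) = q ^ 2 := by rw [hk, map_inv, hk, inv_inv]
        exact hq2 (hfree _ (by conv_lhs => rw [← h2', h3]))
    · rw [hset, hqdef]
      ext w
      simp only [Finset.mem_insert, Finset.mem_singleton]
      rw [show b * (a / b) = a by simp]
      rw [show b * (a / b)⁻¹ = c by rw [heq]; simp]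
      tauto
  by_cases h12 : q₁ = q₂
  · exact Or.inr (hAP x y z rfl (by rw [← hq₁, ← hq₂, h12]) (fun ν hν => by
      rw [hpc ν hν, hq₁, hq₂, hq₃]) (hq₁ ▸ n₁) (hq₃ ▸ n₃))
  by_cases h23 : q₂ = q₃
  · exact Or.inr (hAP y z x (by ext w; simp; tauto) (by rw [← hq₂, ← hq₃, h23]) (fun ν hν => by
      rw [hpc ν hν, hq₁, hq₂, hq₃]; omega) (hq₂ ▸ n₂) (hq₁ ▸ n₁))
  by_cases h31 : q₃ = q₁
  · exact Or.inr (hAP z x y (by ext w; simp; tauto) (by rw [← hq₃, ← hq₁, h31]) (fun ν hν => by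
      rw [hpc ν hν, hq₁, hq₂, hq₃]; omega) (hq₃ ▸ n₃) (hq₂ ▸ n₂))
  left
  have i12 : q₁ * q₂ ≠ 1 := fun h => n₃ (by rw [hq3', h, inv_one])
  have i23 : q₂ * q₃ ≠ 1 := fun h => n₁ (by rwa [mul_assoc, h, mul_one] at hprod)
  have i13 : q₁ * q₃ ≠ 1 := fun h => n₂ (by rwa [mul_right_comm, h, one_mul] at hprod)
  -- an involution among the quotients
  have hinvol : ∀ a b c : A, ({x, y, z} : Finset A) = {a, b, c} → (a / b) ^ 2 = 1 →
      (∀ ν : A, ν ≠ 1 → pc {x, y, z} {x, y, z} ν =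
        (if a / b = ν then 1 else 0) + (if (a / b)⁻¹ = ν then 1 else 0) +
        (if b / c = ν then 1 else 0) + (if (b / c)⁻¹ = ν then 1 else 0) +
        (if c / a = ν then 1 else 0) + (if (c / a)⁻¹ = ν then 1 else 0)) →
      a / b ≠ 1 → b / c ≠ 1 → c / a ≠ 1 → a / b ≠ b / c → b / c ≠ c / a → c / a ≠ a / b →
      (a / b) * (b / c) ≠ 1 → (b / c) * (c / a) ≠ 1 → (a / b) * (c / a) ≠ 1 →
      ∃ c v, v ≠ 1 ∧ ({x, y, z} : Finset A) = {c * v, c * τ v, c * τ (τ v)} := by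
    intro a b c hset hsq hform m₁ m₂ m₃ d12 d23 d31 p12 p23 p13
    obtain ⟨u, hu⟩ : ∃ u, u = a / b := ⟨_, rfl⟩
    obtain ⟨v, hv⟩ : ∃ v, v = b / c := ⟨_, rfl⟩
    obtain ⟨w, hw⟩ : ∃ w, w = c / a := ⟨_, rfl⟩
    have huvw : u * v * w = 1 := by simp [hu, hv, hw]
    rw [← hu] at hsq
    rw [← hu] at m₁ d12 d31 p12 p13
    rw [← hv] at m₂ d12 d23 p12 p23
    rw [← hw] at m₃ d23 d31 p23 p13
    have huinv : u⁻¹ = u := inv_eq_of_mul_eq_one_right (by rw [← pow_two, hsq])
    by_cases hv2 : v ^ 2 = 1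
    · -- the involutions
      have hvinv : v⁻¹ = v := inv_eq_of_mul_eq_one_right (by rw [← pow_two, hv2])
      have hwuv : w = u * v := by
        rw [eq_inv_of_mul_eq_one_right huvw, mul_inv, huinv, hvinv]
      have hτu : τ u = v ∨ τ u = u * v := by
        rcases hV u v hsq hv2 m₁ m₂ d12 (τ u) (by rw [← map_pow, hsq, map_one]) with h | h | h | h
        · exact absurd h (hne1 u m₁)
        · exact absurd (hfree u h) m₁
        · exact Or.inl h
        · exact Or.inr h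
      refine ⟨a * v, u, m₁, ?_⟩
      have hn := norm_eq_one h3 hfree u
      have e1 : a * v * v = a := by rw [mul_assoc, ← pow_two, hv2, mul_one]
      have e2 : a * v * (u * v) = b := by
        rw [mul_comm u v, ← mul_assoc, e1, ← huinv, hu, inv_div, mul_div_cancel]
      have e3 : a * v * u = c := by
        rw [mul_assoc, mul_comm v u, ← hwuv, hw, mul_div_cancel]
      have hrest : ∀ s, u * τ u * s = 1 → s = (u * τ u)⁻¹ := fun s h =>
        eq_inv_of_mul_eq_one_right h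
      rcases hτu with h | h
      · have h' : τ (τ u) = u * v := by
          rw [hrest _ hn, h, mul_inv, huinv, hvinv]
        rw [hset, h', h, e3, e1, e2]
        ext r; simp; tauto
      · have h' : τ (τ u) = v := by
          rw [hrest _ hn, h, mul_inv, mul_inv, huinv, hvinv, ← mul_assoc, ← pow_two, hsq, one_mul]
        rw [hset, h', h, e3, e1, e2]
        ext r; simp; tauto
    · -- four elements
      exfalso
      have hw2 : w ^ 2 ≠ 1 := fun h => hv2 (by
        have := congrArg (· ^ 2) huvw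
        simpa [mul_pow, hsq, h] using this)
      have vinv : v ≠ v⁻¹ := fun h => hv2 (by rw [pow_two]; exact mul_eq_one_iff_eq_inv.2 h)
      have winv : w ≠ w⁻¹ := fun h => hw2 (by rw [pow_two]; exact mul_eq_one_iff_eq_inv.2 h)
      have hvw : v ≠ w⁻¹ := fun h => p23 (mul_eq_one_iff_eq_inv.2 h)
      have hwv : w ≠ v⁻¹ := fun h => p23 (by rw [h, mul_inv_cancel])
      have huv : u ≠ v⁻¹ := fun h => p12 (by rw [h, inv_mul_cancel])
      have huw : u ≠ w⁻¹ := fun h => p13 (by rw [h, inv_mul_cancel])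
      have hvi : v⁻¹ ≠ w⁻¹ := fun h => d23 (inv_injective h)
      have hodd : ∀ ν ∈ ({v, v⁻¹, w, w⁻¹} : Finset A),
          ν ∈ (par ({x, y, z} : Finset A) {x, y, z}).erase 1 := by
        intro ν hν
        simp only [Finset.mem_insert, Finset.mem_singleton] at hν
        rcases hν with rfl | rfl | rfl | rfl <;> rw [Finset.mem_erase]
        · refine ⟨m₂, ?_⟩
          rw [mem_par, hform _ m₂, ← hu, ← hv, ← hw, huinv]
          simp [d12, vinv.symm, hvw.symm, d23.symm]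
        · refine ⟨inv_ne_one.2 m₂, ?_⟩
          rw [mem_par, hform _ (inv_ne_one.2 m₂), ← hu, ← hv, ← hw, huinv]
          simp [huv, vinv, hwv, hvi.symm]
        · refine ⟨m₃, ?_⟩
          rw [mem_par, hform _ m₃, ← hu, ← hv, ← hw, huinv]
          simp [d31.symm, d23, winv.symm, hwv.symm]
        · refine ⟨inv_ne_one.2 m₃, ?_⟩
          rw [mem_par, hform _ (inv_ne_one.2 m₃), ← hu, ← hv, ← hw, huinv]
          simp [huw, winv, hvw, hvi]
      have hsub : (par ({x, y, z} : Finset A) {x, y, z}).erase 1 ⊆ {v, v⁻¹, w, w⁻¹} := by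
        intro ν hν
        obtain ⟨hν1, hνp⟩ := Finset.mem_erase.1 hν
        rw [mem_par, hform _ hν1, ← hu, ← hv, ← hw, huinv] at hνp
        by_contra hne
        simp only [Finset.mem_insert, Finset.mem_singleton, not_or] at hne
        obtain ⟨a', b', c', d'⟩ := hne
        simp only [if_neg (Ne.symm a'), if_neg (Ne.symm b'), if_neg (Ne.symm c'),
          if_neg (Ne.symm d'), add_zero] at hνp
        split_ifs at hνp <;> omega
      have hdvd := three_dvd_card h3 hfree _ (fun ν hν => by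
        obtain ⟨hν1, hνp⟩ := Finset.mem_erase.1 hν
        exact Finset.mem_erase.2 ⟨hne1 ν hν1, hinv _ hνp⟩) (Finset.notMem_erase 1 _)
      rw [Finset.Subset.antisymm hsub hodd, Finset.card_insert_of_notMem, Finset.card_insert_of_notMem,
        Finset.card_insert_of_notMem, Finset.card_singleton] at hdvd
      · omega
      · simp [winv]
      · simp [Ne.symm hwv, hvi]
      · simp [vinv, d23, hvw]
  by_cases s1 : q₁ ^ 2 = 1
  · exact hinvol x y z rfl (hq₁ ▸ s1) (fun ν hν => by rw [hpc ν hν, hq₁, hq₂, hq₃])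
      (hq₁ ▸ n₁) (hq₂ ▸ n₂) (hq₃ ▸ n₃) (by rwa [← hq₁, ← hq₂]) (by rwa [← hq₂, ← hq₃])
      (by rwa [← hq₃, ← hq₁]) (by rwa [← hq₁, ← hq₂]) (by rwa [← hq₂, ← hq₃])
      (by rwa [← hq₁, ← hq₃])
  by_cases s2 : q₂ ^ 2 = 1
  · exact hinvol y z x (by ext w; simp; tauto) (hq₂ ▸ s2)
      (fun ν hν => by rw [hpc ν hν, hq₁, hq₂, hq₃]; omega)
      (hq₂ ▸ n₂) (hq₃ ▸ n₃) (hq₁ ▸ n₁) (by rwa [← hq₂, ← hq₃]) (by rwa [← hq₃, ← hq₁])
      (by rwa [← hq₁, ← hq₂]) (by rwa [← hq₂, ← hq₃]) (by rw [← hq₃, ← hq₁, mul_comm]; exact i13)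
      (by rw [← hq₂, ← hq₁, mul_comm]; exact i12)
  by_cases s3 : q₃ ^ 2 = 1
  · exact hinvol z x y (by ext w; simp; tauto) (hq₃ ▸ s3)
      (fun ν hν => by rw [hpc ν hν, hq₁, hq₂, hq₃]; omega)
      (hq₃ ▸ n₃) (hq₁ ▸ n₁) (hq₂ ▸ n₂) (by rwa [← hq₃, ← hq₁]) (by rwa [← hq₁, ← hq₂])
      (by rwa [← hq₂, ← hq₃]) (by rw [← hq₃, ← hq₁, mul_comm]; exact i13) (by rwa [← hq₁, ← hq₂])
      (by rw [← hq₃, ← hq₂, mul_comm]; exact i23)
  -- six elements
  have inv1 : q₁ ≠ q₁⁻¹ := fun h => s1 (by rw [pow_two]; exact mul_eq_one_iff_eq_inv.2 h)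
  have hq1par : q₁ ∈ par ({x, y, z} : Finset A) {x, y, z} := by
    have a1 : q₂⁻¹ ≠ q₁ := fun h => i12 (by rw [← h, inv_mul_cancel])
    have a2 : q₃⁻¹ ≠ q₁ := fun h => i13 (by rw [← h, inv_mul_cancel])
    rw [mem_par, hpc _ n₁]
    simp [inv1.symm, Ne.symm h12, h31, a1, a2]
  have hn := norm_eq_one h3 hfree q₁
  have hττ : τ (τ q₁) = (q₁ * τ q₁)⁻¹ := eq_inv_of_mul_eq_one_right hn
  have hττmem := hmem _ (hne1 _ (hne1 _ n₁)) (hinv _ (hinv _ hq1par))
  have hττne : τ (τ q₁) ≠ τ q₁ := fun h => n₁ (hfree _ (τ.injective h))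
  have hbad : ∀ r t : A, t = (q₁ * r)⁻¹ → r ^ 2 ≠ 1 →
      (∀ ν : A, ν = q₁ ∨ ν = q₁⁻¹ ∨ ν = q₂ ∨ ν = q₂⁻¹ ∨ ν = q₃ ∨ ν = q₃⁻¹ →
        ν = q₁ ∨ ν = q₁⁻¹ ∨ ν = r ∨ ν = r⁻¹ ∨ ν = t ∨ ν = t⁻¹) → τ q₁ = r⁻¹ → False := by
    intro r t ht hr2 hperm h
    have hτ2 : τ (τ q₁) = r * q₁⁻¹ := by rw [hττ, h, mul_inv_rev, inv_inv]
    have hr1 : r ≠ 1 := fun h' => hr2 (by rw [h', one_pow])
    rcases hperm _ hττmem with e | e | e | e | e | e <;> rw [hτ2] at e
    · have hr : r = q₁ ^ 2 := by rw [mul_inv_eq_iff_eq_mul.1 e, pow_two]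
      have hc1 : τ q₁ = (q₁ ^ 2)⁻¹ := by rw [h, hr]
      have h9 : τ (τ (τ q₁)) = (q₁ ^ 8)⁻¹ := by
        simp only [hc1, map_inv, map_pow, inv_pow, inv_inv, ← pow_mul]
      rw [h3, eq_inv_iff_mul_eq_one, ← pow_succ'] at h9
      exact n₁ (cube _ (cube _ (by rw [← pow_mul]; exact h9)))
    · exact hr1 (mul_eq_right.1 e)
    · exact n₁ (inv_eq_one.1 (mul_eq_left.1 e))
    · exact hττne (by rw [hτ2, h]; exact e)
    · rw [ht, mul_inv_rev, mul_left_inj] at e
      exact hr2 (by rw [pow_two]; exact mul_eq_one_iff_eq_inv.2 e)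
    · rw [ht, inv_inv, mul_comm q₁, mul_right_inj] at e
      exact inv1 e.symm
  rcases hmem _ (hne1 _ n₁) (hinv _ hq1par) with h | h | h | h | h | h
  · exact absurd (hfree _ h) n₁
  · exfalso
    refine n₁ (hfree _ ?_)
    have h' : τ (τ q₁) = q₁ := by rw [h, map_inv, h, inv_inv]
    conv_lhs => rw [← h', h3]
  · -- the first orientation
    obtain ⟨v, hv⟩ := exists_div_apply hfree τ.toMonoidHom (fun a ha => ha) q₁
    change v / τ v = q₁ at hv
    refine ⟨x / v, v, fun hv1 => n₁ (by rw [← hv, hv1, map_one, div_one]), ?_⟩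
    have ey : x / v * τ v = y := by
      rw [show y = x / q₁ by rw [hq₁]; simp, ← hv]
      simp [div_div_eq_mul_div, div_mul_eq_mul_div]
    have ez : x / v * τ (τ v) = z := by
      rw [show z = y / q₂ by rw [hq₂]; simp, ← h, ← hv, ← ey, map_div]
      simp [div_div_eq_mul_div, div_eq_mul_inv, mul_assoc, mul_comm, mul_left_comm]
    rw [div_mul_cancel, ey, ez]
  · exact (hbad q₂ q₃ hq3' s2 (fun ν hν => hν) h).elim
  · -- the second orientation
    obtain ⟨v, hv⟩ := exists_div_apply hfree (τ.toMonoidHom.comp τ.toMonoidHom)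
      (fun a ha => by
        have := congrArg τ ha
        simp only [MonoidHom.comp_apply, MulEquiv.coe_toMonoidHom] at this
        rw [h3] at this
        exact this.symm) q₁
    simp only [MonoidHom.comp_apply, MulEquiv.coe_toMonoidHom] at hv
    refine ⟨x / v, v, fun hv1 => n₁ (by rw [← hv, hv1, map_one, map_one, div_one]), ?_⟩
    have ey : x / v * τ (τ v) = y := by
      rw [show y = x / q₁ by rw [hq₁]; simp, ← hv]
      simp [div_div_eq_mul_div, div_mul_eq_mul_div]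
    have ez : x / v * τ v = z := by
      rw [show z = q₃ * x by rw [hq₃]; simp, ← h, ← hv, map_div, h3]
      simp [div_eq_mul_inv, mul_assoc, mul_comm, mul_left_comm]
    rw [div_mul_cancel, ey, ez]
    ext r; simp; tauto
  · refine (hbad q₃ q₂ ?_ s3 (fun ν hν => ?_) h).elim
    swap
    · rcases hν with e | e | e | e | e | e
      exacts [Or.inl e, Or.inr (Or.inl e), Or.inr (Or.inr (Or.inr (Or.inr (Or.inl e)))),
        Or.inr (Or.inr (Or.inr (Or.inr (Or.inr e)))), Or.inr (Or.inr (Or.inl e)),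
        Or.inr (Or.inr (Or.inr (Or.inl e)))]
    exact eq_inv_of_mul_eq_one_right (by rw [mul_right_comm]; exact hprod)

end Free

end CfsgLib.BlockRank.TriParity
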