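import Cfsg.Agent.Lib.BlockRank.TwoMajor

/-!
# The bound of Robinson for an abstract idempotent-like matrix over `ℤ[ζ]`, `ζ` of `2`-power order
-/

set_option autoImplicit false

open scoped ComplexConjugate
open Polynomial

namespace CfsgLib.BlockRank

open CfsgLib.BlockReg in
/-- A hermitian matrix over `ℤ[ζ]` with square `2 ^ q` times itself, trace at most `3 * 2 ^ q`,
rows divisible by `2 ^ ht` and odd entries at height zero has few rows. -/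
theorem two_bound_abstract {ι : Type*} {M : Ideal Cfsg.AlgInt} (hM : Cfsg.IsPModular 2 M) {k : ℕ}
    {ζ : ℂ} (hζ : IsPrimitiveRoot ζ (2 ^ k)) (S : Finset ι) (ht : ι → ℕ) (P : ι → ι → ℤ[X])
    (Y : ι → ι → ℂ) {q r : ℕ}
    (hconj : ∀ w : ℂ, IsPrimitiveRoot w (2 ^ k) → ∀ χ ψ,
      aeval w (P ψ χ) = conj (aeval w (P χ ψ)))
    (hY : ∀ χ ∈ S, ∀ ψ ∈ S, IsIntegral ℤ (Y χ ψ) ∧
      aeval ζ (P χ ψ) = ((2 ^ ht χ : ℕ) : ℂ) * Y χ ψ)
    (hYiff : ∀ χ ∈ S, ∀ χ' ∈ S, ∀ ψ ∈ S,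
      Cfsg.MemLocalIdeal M (Y χ ψ) → Cfsg.MemLocalIdeal M (Y χ' ψ))
    (h00 : ∀ χ ∈ S, ht χ = 0 → ∀ ψ ∈ S, ht ψ = 0 →
      ¬ Cfsg.MemLocalIdeal M (aeval ζ (P χ ψ)))
    {χ₀ : ι} (hχ₀ : χ₀ ∈ S) (hχ₀h : ht χ₀ = 0)
    (hrowζ : ∀ χ ∈ S, ∑ ψ ∈ S, aeval ζ (P χ ψ) * conj (aeval ζ (P χ ψ)) =
      ((2 ^ q : ℕ) : ℂ) * aeval ζ (P χ χ))
    (htr : ∑ χ ∈ S, aeval ζ (P χ χ) = ((2 ^ q * r : ℕ) : ℂ)) (hr : r ≤ 3) :
    3 * (S.filter fun χ => ht χ = 0).card + 2 * ∑ χ ∈ S.filter (fun χ => ¬ ht χ = 0), 2 ^ ht χ ≤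
      3 * 2 ^ q := by
  classical
  set n := 2 ^ k with hn
  have hn0 : 0 < n := Nat.pow_pos (by norm_num)
  set m := (primitiveRoots n ℂ).card with hm
  have hmpos : 0 < m := Finset.card_pos.mpr ⟨ζ, (mem_primitiveRoots hn0).mpr hζ⟩
  have hY0 : ∀ χ ∈ S, ht χ = 0 → ∀ ψ ∈ S, aeval ζ (P χ ψ) = Y χ ψ := fun χ hχ hh ψ hψ => by
    rw [(hY χ hχ ψ hψ).2, hh, pow_zero, Nat.cast_one, one_mul]
  have hne : ∀ χ ∈ S, ∀ ψ ∈ S, ht ψ = 0 → ¬ Cfsg.MemLocalIdeal M (Y χ ψ) :=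
    fun χ hχ ψ hψ hh h => h00 ψ hψ hh ψ hψ hh (by
      rw [hY0 ψ hψ hh ψ hψ]
      exact hYiff χ hχ ψ hψ ψ hψ h)
  have hYdiag : ∀ χ ∈ S, ht χ ≠ 0 → Cfsg.MemLocalIdeal M (Y χ χ) := by
    intro χ hχ hh
    refine hYiff χ₀ hχ₀ χ hχ χ hχ ?_
    rw [← hY0 χ₀ hχ₀ hχ₀h χ hχ, hconj ζ hζ χ χ₀, (hY χ hχ χ₀ hχ₀).2, map_mul, map_natCast,
      show ht χ = (ht χ - 1) + 1 by omega, pow_succ', Nat.cast_mul, mul_assoc]
    refine memIdeal_mul_right hM ((memIdeal_natCast_iff hM 2).mpr dvd_rfl) (memRing_algInt hM ?_)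
    exact (isIntegral_natCast _).mul
      ((hY χ hχ χ₀ hχ₀).1.map (RingHom.toIntAlgHom (starRingEnd ℂ)))
  have hQex : ∀ χ ψ, ∃ Q : ℤ[X], χ ∈ S → ψ ∈ S → aeval ζ Q = Y χ ψ := by
    intro χ ψ
    by_cases h : χ ∈ S ∧ ψ ∈ S
    · obtain ⟨Q, hQ⟩ := exists_divided hM hζ (ht χ) (P χ ψ) (hY χ h.1 ψ h.2).1 (by
        rw [(hY χ h.1 ψ h.2).2]
        push_cast
        rfl)
      exact ⟨Q, fun _ _ => hQ⟩
    · exact ⟨0, fun h1 h2 => absurd ⟨h1, h2⟩ h⟩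
  choose Q hQ using hQex
  have hscale : ∀ χ ∈ S, ∀ ψ ∈ S, ∀ w ∈ primitiveRoots n ℂ,
      aeval w (P χ ψ) = ((2 ^ ht χ : ℕ) : ℂ) * aeval w (Q χ ψ) := fun χ hχ ψ hψ w hw =>
    aeval_scale_of_primitive hn0 hζ ((mem_primitiveRoots hn0).mp hw) _ _ _ (by
      rw [hQ χ ψ hχ hψ, (hY χ hχ ψ hψ).2])
  have hzex : ∀ χ, ∃ z : ℤ, χ ∈ S →
      ∑ w ∈ primitiveRoots n ℂ, aeval w (Q χ χ) = (z : ℂ) * m ∧
        Cfsg.MemLocalIdeal M (Y χ χ - (z : ℂ)) := by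
    intro χ
    by_cases hχ : χ ∈ S
    · have hreal : conj (aeval ζ (Q χ χ)) = aeval ζ (Q χ χ) := by
        have h1 := hscale χ hχ χ hχ ζ ((mem_primitiveRoots hn0).mpr hζ)
        have h2 := hconj ζ hζ χ χ
        rw [h1, map_mul, map_natCast] at h2
        exact (mul_left_cancel₀ (Nat.cast_ne_zero.mpr (pow_ne_zero _ two_ne_zero)) h2).symm
      obtain ⟨z, hz1, hz2⟩ := exists_real_avg hM hζ (Q χ χ) hreal
      rw [hQ χ χ hχ hχ] at hz2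
      exact ⟨z, fun _ => ⟨hz1, hz2⟩⟩
    · exact ⟨0, fun h => absurd h hχ⟩
  choose z hz using hzex
  have hrow : ∀ χ ∈ S, ((2 ^ q : ℕ) : ℝ) * (((2 ^ ht χ : ℕ) : ℝ) * ((z χ : ℝ) * m)) =
      ∑ ψ ∈ S, ∑ w ∈ primitiveRoots n ℂ, Complex.normSq (aeval w (P χ ψ)) := by
    intro χ hχ
    rw [Finset.sum_comm]
    apply Complex.ofReal_injective
    push_cast
    rw [← (hz χ hχ).1, Finset.mul_sum, Finset.mul_sum]
    refine Finset.sum_congr rfl fun w hw => ?_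
    have hw' := (mem_primitiveRoots hn0).mp hw
    have h0 : aeval ζ (∑ ψ ∈ S, P χ ψ * P ψ χ -
        Polynomial.C ((2 ^ q : ℕ) : ℤ) * P χ χ) = 0 := by
      rw [map_sub, map_sum, map_mul, Polynomial.aeval_C, map_natCast,
        ← hrowζ χ hχ, sub_eq_zero]
      refine Finset.sum_congr rfl fun ψ _ => ?_
      rw [map_mul, hconj ζ hζ χ ψ]
    have h1 := aeval_eq_zero_of_primitive hn0 hζ hw' _ h0
    rw [map_sub, map_sum, map_mul, Polynomial.aeval_C, map_natCast, sub_eq_zero,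
      hscale χ hχ χ hχ w hw] at h1
    push_cast at h1
    rw [← h1]
    refine Finset.sum_congr rfl fun ψ _ => ?_
    rw [map_mul, hconj w hw' χ ψ, Complex.mul_conj]
  have hzpos : ∀ χ ∈ S, 0 < z χ := by
    intro χ hχ
    have hP0 : aeval ζ (P χ χ₀) ≠ 0 := by
      rw [(hY χ hχ χ₀ hχ₀).2]
      exact mul_ne_zero (Nat.cast_ne_zero.mpr (pow_ne_zero _ two_ne_zero))
        (ne_zero_of_not_memIdeal hM (hne χ hχ χ₀ hχ₀ hχ₀h))
    have h1 : (m : ℝ) ≤ ((2 ^ q : ℕ) : ℝ) * (((2 ^ ht χ : ℕ) : ℝ) * ((z χ : ℝ) * m)) := by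
      rw [hrow χ hχ]
      exact (card_le_sum_normSq hn0 hζ _ hP0).trans
        (Finset.single_le_sum (f := fun ψ => ∑ w ∈ primitiveRoots n ℂ,
          Complex.normSq (aeval w (P χ ψ)))
          (fun _ _ => Finset.sum_nonneg fun _ _ => Complex.normSq_nonneg _) hχ₀)
    by_contra hle
    push Not at hle
    have h2 : ((2 ^ q : ℕ) : ℝ) * (((2 ^ ht χ : ℕ) : ℝ) * ((z χ : ℝ) * m)) ≤ 0 :=
      mul_nonpos_of_nonneg_of_nonpos (Nat.cast_nonneg _)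
        (mul_nonpos_of_nonneg_of_nonpos (Nat.cast_nonneg _)
          (mul_nonpos_of_nonpos_of_nonneg (by exact_mod_cast hle) (Nat.cast_nonneg _)))
    have : (0 : ℝ) < m := by exact_mod_cast hmpos
    linarith
  have hsum : ∑ χ ∈ S, ((2 ^ ht χ : ℕ) : ℤ) * z χ = ((2 ^ q * r : ℕ) : ℤ) := by
    have h0 : aeval ζ (∑ χ ∈ S, P χ χ - Polynomial.C (((2 ^ q * r : ℕ)) : ℤ)) = 0 := by
      rw [map_sub, map_sum, Polynomial.aeval_C, map_natCast, sub_eq_zero, htr]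
    have h1 : ∑ χ ∈ S, (((2 ^ ht χ : ℕ) : ℂ) * (z χ : ℂ) * m) =
        ((2 ^ q * r : ℕ) : ℂ) * m := by
      rw [Finset.sum_congr rfl fun χ hχ => by
          rw [mul_assoc, ← (hz χ hχ).1, Finset.mul_sum],
        Finset.sum_comm,
        Finset.sum_congr rfl (g := fun _ => ((2 ^ q * r : ℕ) : ℂ)) fun w hw => ?_,
        Finset.sum_const, nsmul_eq_mul, mul_comm]
      have h2 := aeval_eq_zero_of_primitive hn0 hζ ((mem_primitiveRoots hn0).mp hw) _ h0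
      rw [map_sub, map_sum, Polynomial.aeval_C, map_natCast, sub_eq_zero] at h2
      rw [← h2]
      exact Finset.sum_congr rfl fun χ hχ => (hscale χ hχ χ hχ w hw).symm
    rw [← Finset.sum_mul] at h1
    exact_mod_cast mul_right_cancel₀ (Nat.cast_ne_zero.mpr hmpos.ne') h1
  set B0 := S.filter fun χ => ht χ = 0 with hB0
  set B1 := S.filter fun χ => ¬ ht χ = 0 with hB1
  by_cases hone : ∃ χ ∈ B0, z χ = 1
  · obtain ⟨χ, hχB, hz1⟩ := hone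
    obtain ⟨hχ, hχm⟩ := Finset.mem_filter.mp hχB
    have h1 := hrow χ hχ
    rw [hχm, hz1, pow_zero, Nat.cast_one, Int.cast_one, one_mul, one_mul,
      ← Finset.sum_filter_add_sum_filter_not S (fun ψ => ht ψ = 0)] at h1
    have hlow0 : (B0.card : ℝ) * m ≤
        ∑ ψ ∈ B0, ∑ w ∈ primitiveRoots n ℂ, Complex.normSq (aeval w (P χ ψ)) := by
      rw [← nsmul_eq_mul]
      refine Finset.card_nsmul_le_sum _ _ _ fun ψ hψ => card_le_sum_normSq hn0 hζ _ fun h0 => ?_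
      obtain ⟨hψ', hψm⟩ := Finset.mem_filter.mp hψ
      exact h00 χ hχ hχm ψ hψ' hψm (by rw [h0]; exact memIdeal_zero hM)
    have hlow1 : ((∑ ψ ∈ B1, (2 ^ ht ψ) ^ 2 : ℕ) : ℝ) * m ≤
        ∑ ψ ∈ B1, ∑ w ∈ primitiveRoots n ℂ, Complex.normSq (aeval w (P χ ψ)) := by
      rw [Nat.cast_sum, Finset.sum_mul]
      refine Finset.sum_le_sum fun ψ hψ => ?_
      obtain ⟨hψ, hψm⟩ := Finset.mem_filter.mp hψ
      have hQ0 : aeval ζ (Q ψ χ) ≠ 0 := by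
        rw [hQ ψ χ hψ hχ]
        exact ne_zero_of_not_memIdeal hM (hne ψ hψ χ hχ hχm)
      have hterm : ∀ w ∈ primitiveRoots n ℂ, Complex.normSq (aeval w (P χ ψ)) =
          ((2 ^ ht ψ : ℕ) : ℝ) ^ 2 * Complex.normSq (aeval w (Q ψ χ)) := by
        intro w hw
        rw [hconj w ((mem_primitiveRoots hn0).mp hw) ψ χ, Complex.normSq_conj,
          hscale ψ hψ χ hχ w hw, Complex.normSq_mul, Complex.normSq_natCast, sq]
      rw [Finset.sum_congr rfl hterm, ← Finset.mul_sum, Nat.cast_pow]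
      exact mul_le_mul_of_nonneg_left (card_le_sum_normSq hn0 hζ _ hQ0) (sq_nonneg _)
    have h2 : ((B0.card + ∑ ψ ∈ B1, (2 ^ ht ψ) ^ 2 : ℕ) : ℝ) ≤ ((2 ^ q : ℕ) : ℝ) := by
      refine le_of_mul_le_mul_right ?_ (by exact_mod_cast hmpos : (0 : ℝ) < m)
      rw [Nat.cast_add, add_mul]
      linarith
    have h3 : B0.card + ∑ ψ ∈ B1, (2 ^ ht ψ) ^ 2 ≤ 2 ^ q := by exact_mod_cast h2
    have h4 : ∑ ψ ∈ B1, 2 ^ ht ψ ≤ ∑ ψ ∈ B1, (2 ^ ht ψ) ^ 2 :=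
      Finset.sum_le_sum fun ψ _ => Nat.le_self_pow two_ne_zero _
    omega
  · push Not at hone
    have hlow : (3 : ℤ) * B0.card + 2 * ((∑ ψ ∈ B1, 2 ^ ht ψ : ℕ) : ℤ) ≤
        ∑ χ ∈ S, ((2 ^ ht χ : ℕ) : ℤ) * z χ := by
      rw [← Finset.sum_filter_add_sum_filter_not S (fun ψ => ht ψ = 0)]
      refine add_le_add ?_ ?_
      · rw [mul_comm, ← nsmul_eq_mul]
        refine Finset.card_nsmul_le_sum _ _ _ fun χ hχB => ?_
        obtain ⟨hχ, hχm⟩ := Finset.mem_filter.mp hχB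
        have hodd' : ¬ (2 : ℤ) ∣ z χ := fun h2 => by
          refine h00 χ hχ hχm χ hχ hχm ?_
          rw [hY0 χ hχ hχm χ hχ]
          have := memIdeal_add hM (hz χ hχ).2 ((memIdeal_intCast_iff hM _).mpr h2)
          rwa [sub_add_cancel] at this
        have := hzpos χ hχ
        have := hone χ hχB
        rw [hχm]
        push_cast
        omega
      · push_cast
        rw [Finset.mul_sum]
        refine Finset.sum_le_sum fun χ hχB => ?_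
        obtain ⟨hχ, hχm⟩ := Finset.mem_filter.mp hχB
        have heven : (2 : ℤ) ∣ z χ := by
          refine (memIdeal_intCast_iff hM _).mp ?_
          have := memIdeal_sub hM (hYdiag χ hχ hχm) (hz χ hχ).2
          rwa [sub_sub_cancel] at this
        obtain ⟨c, hc⟩ := heven
        have := hzpos χ hχ
        have hc1 : 1 ≤ c := by omega
        rw [hc]
        have : (0 : ℤ) ≤ 2 ^ ht χ := by positivity
        nlinarith
    rw [hsum] at hlow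
    have h5 : ((2 ^ q * r : ℕ) : ℤ) ≤ ((3 * 2 ^ q : ℕ) : ℤ) := by
      rw [Nat.mul_comm 3]
      exact_mod_cast Nat.mul_le_mul_left (2 ^ q) hr
    exact_mod_cast hlow.trans h5

end CfsgLib.BlockRank
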