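import Cfsg.Agent.Lib.BlockRank.TwoPower

/-!
# Integral traces of the contributions of a `2`-subsection
-/

set_option autoImplicit false

open scoped ComplexConjugate
open Polynomial

namespace CfsgLib.BlockRank

universe u

variable {G : Type u} [Group G] [Fintype G] {M : Ideal Cfsg.AlgInt}

open CfsgLib.BlockReg in
/-- The averaged diagonal contributions of a `2`-subsection. -/
theorem exists_two_traces (hM : Cfsg.IsPModular 2 M) {C : Subgroup G} {x : G}
    (hC : C = Subgroup.centralizer {x}) {k : ℕ} (hx : orderOf x = 2 ^ k) [Fintype C]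
    {e : Set (Cfsg.IrrCharacter C)} {B : Set (Cfsg.IrrCharacter G)} [Fintype B]
    (hind : Cfsg.IsInducedBlock M C e B) {q : ℕ}
    (hq : q + minExp 2 e = (Nat.card C).factorization 2) :
    ∃ T : Cfsg.IrrCharacter G → ℤ,
      (∀ χ ∈ B, 0 ≤ T χ) ∧
      (∀ χ ∈ B, (Cfsg.charDegree (χ : G → ℂ)).factorization 2 = minExp 2 B →
        ¬ 2 ∣ T χ ∧ (Nat.card {ψ : Cfsg.IrrCharacter G // ψ ∈ B ∧
          (Cfsg.charDegree (ψ : G → ℂ)).factorization 2 = minExp 2 B} : ℤ) ≤
            ((2 ^ q : ℕ) : ℤ) * T χ) ∧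
      ∑ χ ∈ B.toFinset, T χ = ((2 ^ q * Cfsg.blockRank 2 e : ℕ) : ℤ) := by
  classical
  have : Fact (Nat.Prime 2) := ⟨Nat.prime_two⟩
  have := Fintype.ofFinite e
  set n := 2 ^ k with hn
  have hn0 : 0 < n := Nat.pow_pos (by norm_num)
  let ζ := Complex.exp (2 * Real.pi * Complex.I / n)
  have hζ : IsPrimitiveRoot ζ n := Complex.isPrimitiveRoot_exp n hn0.ne'
  obtain ⟨a, i, Z, hZ, hform, hodd⟩ :=
    exists_contrib_form (ζ := ζ) hM hC (by rw [hx]; exact hζ) hind hq
  choose T hT hTpar using fun χ : Cfsg.IrrCharacter G =>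
    exists_avg_form k e.toFinset hZ (a χ) (i χ)
  set m := (primitiveRoots n ℂ).card with hm
  have hmpos : 0 < m := Finset.card_pos.mpr ⟨ζ, (mem_primitiveRoots hn0).mpr hζ⟩
  let P : Cfsg.IrrCharacter G → Cfsg.IrrCharacter G → ℤ[X] := fun χ ψ =>
    cycloPoly n e.toFinset Z (a χ) (a ψ) (i χ) (i ψ)
  have hP : ∀ w, IsPrimitiveRoot w n → ∀ χ ψ,
      aeval w (P χ ψ) = cycloForm e.toFinset Z (a χ) (a ψ) (i χ) (i ψ) w := fun w hw χ ψ =>
    aeval_cycloPoly hn0 hw.pow_eq_one _ _ _ _ _ _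
  have hrow : ∀ χ, ∀ w ∈ primitiveRoots n ℂ,
      ((∑ ψ ∈ B.toFinset, Complex.normSq (aeval w (P χ ψ)) : ℝ) : ℂ) =
        ((2 ^ q : ℕ) : ℂ) * aeval w (P χ χ) := by
    intro χ w hw
    have hconj : ∀ v, IsPrimitiveRoot v n → ∀ ψ,
        aeval v (P ψ χ) = conj (aeval v (P χ ψ)) := fun v hv ψ => by
      rw [hP v hv, hP v hv, conj_cycloForm _ hZ]
    have h0 : aeval ζ (∑ ψ ∈ B.toFinset, P χ ψ * P ψ χ -
        Polynomial.C ((2 ^ q : ℕ) : ℤ) * P χ χ) = 0 := by
      rw [map_sub, map_sum, map_mul, Polynomial.aeval_C, map_natCast,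
        hP ζ hζ χ χ, ← hform χ χ, ← sum_contrib_mul_conj hM hC ⟨k, hx⟩ hind q χ, sub_eq_zero]
      refine Finset.sum_congr rfl fun ψ _ => ?_
      rw [map_mul, hconj ζ hζ, hP ζ hζ, ← hform]
    have hw' := (mem_primitiveRoots hn0).mp hw
    have h1 := aeval_eq_zero_of_primitive hn0 hζ hw' _ h0
    rw [map_sub, map_sum, map_mul, Polynomial.aeval_C, map_natCast, sub_eq_zero] at h1
    rw [← h1, Complex.ofReal_sum]
    refine Finset.sum_congr rfl fun ψ _ => ?_
    rw [map_mul, hconj w hw', Complex.mul_conj]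
  have hbound : ∀ χ, ((2 ^ q : ℕ) : ℝ) * ((T χ : ℝ) * m) =
      ∑ ψ ∈ B.toFinset, ∑ w ∈ primitiveRoots n ℂ, Complex.normSq (aeval w (P χ ψ)) := by
    intro χ
    rw [Finset.sum_comm]
    apply Complex.ofReal_injective
    rw [Complex.ofReal_sum, Finset.sum_congr rfl (hrow χ), ← Finset.mul_sum]
    push_cast
    rw [Finset.sum_congr rfl fun w hw => hP w ((mem_primitiveRoots hn0).mp hw) χ χ, hT χ]
  have hnn : ∀ χ, 0 ≤ T χ := by
    intro χ
    have h1 : 0 ≤ ((2 ^ q : ℕ) : ℝ) * ((T χ : ℝ) * m) := by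
      rw [hbound]
      exact Finset.sum_nonneg fun _ _ => Finset.sum_nonneg fun _ _ => Complex.normSq_nonneg _
    have h2 := nonneg_of_mul_nonneg_right h1 (by exact_mod_cast Nat.pow_pos (by norm_num : 0 < 2))
    exact_mod_cast nonneg_of_mul_nonneg_left h2 (by exact_mod_cast hmpos)
  refine ⟨T, fun χ _ => hnn χ, fun χ hχ hh => ⟨fun h2 => ?_, ?_⟩, ?_⟩
  · exact hodd χ hχ χ hχ hh hh (by simpa using (dvd_sub h2 (hTpar χ)))
  · have hne : ∀ ψ ∈ B.toFinset.filter (fun ψ : Cfsg.IrrCharacter G =>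
        (Cfsg.charDegree (ψ : G → ℂ)).factorization 2 = minExp 2 B), aeval ζ (P χ ψ) ≠ 0 := by
      intro ψ hψ h0
      rw [Finset.mem_filter, Set.mem_toFinset] at hψ
      have hone : IsPrimitiveRoot ζ n := hζ
      refine hodd χ hχ ψ hψ.1 hh hψ.2 ((memIdeal_intCast_iff hM _).mp ?_)
      have hsub : Cfsg.MemLocalIdeal M (aeval ζ (P χ ψ) -
          ((∑ φ ∈ e.toFinset, ∑ θ ∈ e.toFinset, (a χ φ : ℤ) * (a ψ θ : ℤ) * Z φ θ : ℤ) : ℂ)) := by
        simp only [P, cycloPoly, map_sum, map_mul, aeval_X_pow, map_natCast,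
          map_intCast, Int.cast_sum, ← Finset.sum_sub_distrib, eq_intCast]
        refine memIdeal_sum hM _ fun φ _ => memIdeal_sum hM _ fun θ _ => ?_
        have hω : ∀ j : ℕ, Cfsg.MemLocalIdeal M (ζ ^ j - 1) := by
          intro j
          have : M.IsPrime := hM.2.1.isPrime
          have : M.IsMaximal := hM.2.1
          have hR : ζ ^ j ∈ CfsgLib.Blocks.locRing M :=
            memRing_algInt hM ((hone.isIntegral hn0).pow j)
          rw [← OneMemClass.coe_one (CfsgLib.Blocks.locRing M),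
            CfsgLib.Blocks.memLocalIdeal_sub_iff (x := ⟨ζ ^ j, hR⟩), map_one]
          refine CfsgLib.Blocks.red_eq_one_of_pow_prime_pow hM.1 hM.2.2 (k := k) (Subtype.ext ?_)
          show (ζ ^ j) ^ 2 ^ k = 1
          rw [← pow_mul, mul_comm, pow_mul, ← hn, hone.pow_eq_one, one_pow]
        have h3 := memIdeal_mul_left hM
          (memRing_intCast hM ((a χ φ : ℤ) * (a ψ θ : ℤ) * Z φ θ))
          (hω (i χ φ + (n - 1) * i ψ θ))
        convert h3 using 1
        push_cast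
        ring
      rw [h0, zero_sub] at hsub
      simpa using memIdeal_neg hsub
    have h1 : (((B.toFinset.filter fun ψ : Cfsg.IrrCharacter G =>
        (Cfsg.charDegree (ψ : G → ℂ)).factorization 2 = minExp 2 B).card : ℕ) : ℝ) * m ≤
        ((2 ^ q : ℕ) : ℝ) * ((T χ : ℝ) * m) := by
      rw [hbound, ← nsmul_eq_mul, ← Finset.sum_const]
      exact (Finset.sum_le_sum fun ψ hψ => card_le_sum_normSq hn0 hζ _ (hne ψ hψ)).trans
        (Finset.sum_le_sum_of_subset_of_nonneg (Finset.filter_subset _ _)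
          fun _ _ _ => Finset.sum_nonneg fun _ _ => Complex.normSq_nonneg _)
    rw [← mul_assoc] at h1
    have h2 := le_of_mul_le_mul_right h1 (by exact_mod_cast hmpos)
    rw [Nat.card_eq_fintype_card, Fintype.card_subtype]
    rw [show (Finset.univ.filter fun ψ : Cfsg.IrrCharacter G => ψ ∈ B ∧
        (Cfsg.charDegree (ψ : G → ℂ)).factorization 2 = minExp 2 B) =
        B.toFinset.filter (fun ψ : Cfsg.IrrCharacter G =>
          (Cfsg.charDegree (ψ : G → ℂ)).factorization 2 = minExp 2 B) by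
      ext ψ; simp]
    exact_mod_cast h2
  · have h0 : aeval ζ (∑ χ ∈ B.toFinset, P χ χ -
        Polynomial.C (((2 ^ q * Cfsg.blockRank 2 e : ℕ)) : ℤ)) = 0 := by
      rw [map_sub, map_sum, Polynomial.aeval_C, map_natCast, sub_eq_zero, Nat.cast_mul,
        ← sum_contrib_self hM hC ⟨k, hx⟩ hind q]
      exact Finset.sum_congr rfl fun χ _ => by rw [hP ζ hζ, hform]
    have h1 : ∑ χ ∈ B.toFinset, ((T χ : ℂ) * m) =
        ((2 ^ q * Cfsg.blockRank 2 e : ℕ) : ℂ) * m := by
      rw [Finset.sum_congr rfl fun χ _ => (hT χ).symm, Finset.sum_comm,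
        Finset.sum_congr rfl (g := fun _ => ((2 ^ q * Cfsg.blockRank 2 e : ℕ) : ℂ)) fun w hw => ?_,
        Finset.sum_const, nsmul_eq_mul, mul_comm]
      have hw' := (mem_primitiveRoots hn0).mp hw
      have h2 := aeval_eq_zero_of_primitive hn0 hζ hw' _ h0
      rw [map_sub, map_sum, Polynomial.aeval_C, map_natCast, sub_eq_zero] at h2
      rw [← h2]
      exact Finset.sum_congr rfl fun χ _ => (hP w hw' χ χ).symm
    rw [← Finset.sum_mul] at h1
    exact_mod_cast mul_right_cancel₀ (Nat.cast_ne_zero.mpr hmpos.ne') h1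

/-- The counting argument for the bound on the characters of height zero. -/
theorem two_count {ι : Type*} (S : Finset ι) (T : ι → ℤ) (Q l : ℕ)
    (hT : ∀ a ∈ S, ¬ 2 ∣ T a ∧ (S.card : ℤ) ≤ (Q : ℤ) * T a)
    (hsum : ∑ a ∈ S, T a ≤ ((Q * l : ℕ) : ℤ)) :
    (Odd (Nat.sqrt l) → S.card ≤ Nat.sqrt l * Q) ∧
      (¬ Odd (Nat.sqrt l) → (Nat.sqrt l + 1) * S.card ≤ l * Q) := by
  have hs1 := Nat.sqrt_le l
  have hs2 := Nat.lt_succ_sqrt l
  rw [Nat.succ_eq_add_one] at hs2
  set s := Nat.sqrt l with hs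
  rcases Nat.eq_zero_or_pos Q with rfl | hQ
  · have hz : S.card = 0 := by
      by_contra h
      obtain ⟨a, ha⟩ := Finset.card_ne_zero.mp h
      have := (hT a ha).2
      simp at this
      simp [this] at ha
    simp [hz]
  have hlow : ∀ c : ℤ, (∀ a ∈ S, c ≤ T a) → c * S.card ≤ ((Q * l : ℕ) : ℤ) := fun c hc => by
    have := (Finset.card_nsmul_le_sum S T c hc).trans hsum
    rw [nsmul_eq_mul] at this
    linarith
  constructor
  · rintro ⟨r, hr⟩
    by_contra hcon
    have hc : ((s : ℤ) + 2) * S.card ≤ ((Q * l : ℕ) : ℤ) := hlow _ fun a ha => by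
      obtain ⟨h2, hb⟩ := hT a ha
      have : (s : ℤ) < T a := by
        by_contra hle
        have : (Q : ℤ) * T a ≤ (Q : ℤ) * s := by gcongr; omega
        have : (S.card : ℤ) ≤ ((s * Q : ℕ) : ℤ) := by push_cast; linarith
        exact hcon (by exact_mod_cast this)
      omega
    have h3 : ((s : ℤ) * Q) + 1 ≤ S.card := by
      have : s * Q + 1 ≤ S.card := by omega
      exact_mod_cast this
    have h4 : (l : ℤ) ≤ (s : ℤ) * s + 2 * s := by
      have : l ≤ s * s + 2 * s := by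
        have : (s + 1) * (s + 1) = s * s + 2 * s + 1 := by ring
        omega
      exact_mod_cast this
    push_cast at hc
    nlinarith
  · intro hev
    rw [Nat.not_odd_iff_even] at hev
    obtain ⟨r, hr⟩ := hev
    by_contra hcon
    have hcon' : ((l : ℤ) * Q) < ((s : ℤ) + 1) * S.card := by exact_mod_cast not_le.mp hcon
    have hc : ((s : ℤ) + 1) * S.card ≤ ((Q * l : ℕ) : ℤ) := hlow _ fun a ha => by
      obtain ⟨h2, hb⟩ := hT a ha
      have : (s : ℤ) - 1 < T a := by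
        by_contra hle
        have h5 : (Q : ℤ) * T a ≤ (Q : ℤ) * ((s : ℤ) - 1) := by gcongr; omega
        have h6 : (s : ℤ) * s ≤ l := by exact_mod_cast hs1
        have h7 : (S.card : ℤ) ≤ (Q : ℤ) * ((s : ℤ) - 1) := hb.trans h5
        nlinarith
      omega
    push_cast at hc
    nlinarith

end CfsgLib.BlockRank
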