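import Cfsg.Agent.Lib.BlockRank.TwoAbstract

/-!
# Major subsections of `2`-blocks with at most three characters more than Brauer characters
-/

set_option autoImplicit false

open scoped ComplexConjugate
open Polynomial

namespace CfsgLib.BlockRank

universe u

variable {G : Type u} [Group G] [Fintype G] {M : Ideal Cfsg.AlgInt}

open CfsgLib.BlockReg in
/-- If `k(B) ≤ l(e) + 3` for a major subsection of a `2`-block then `k(B) ≤ 2 ^ d`. -/
theorem card_le_two_pow_of_le_rank_add_three (hM : Cfsg.IsPModular 2 M) {C : Subgroup G} {x : G}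
    (hC : C = Subgroup.centralizer {x}) {k : ℕ} (hx : orderOf x = 2 ^ k) [Fintype C]
    {e : Set (Cfsg.IrrCharacter C)} {B : Set (Cfsg.IrrCharacter G)} [Fintype B]
    (hB : Cfsg.IsPBlock M B) (hind : Cfsg.IsInducedBlock M C e B) {q : ℕ}
    (hq : q + minExp 2 e = (Nat.card C).factorization 2)
    (hqB : q + minExp 2 B = (Nat.card G).factorization 2)
    (hcard : B.toFinset.card ≤ Cfsg.blockRank 2 e + 3) : B.toFinset.card ≤ 2 ^ q := by
  classical
  have : Fact (Nat.Prime 2) := ⟨Nat.prime_two⟩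
  have := Fintype.ofFinite e
  set n := 2 ^ k with hn
  have hn0 : 0 < n := Nat.pow_pos (by norm_num)
  let ζ := Complex.exp (2 * Real.pi * Complex.I / n)
  have hζ : IsPrimitiveRoot ζ n := Complex.isPrimitiveRoot_exp n hn0.ne'
  have hζx : IsPrimitiveRoot ζ (orderOf x) := by rw [hx]; exact hζ
  obtain ⟨a, i, Z, hZ, hform, hodd⟩ := exists_contrib_form (ζ := ζ) hM hC hζx hind hq
  obtain ⟨Y, hY, hYiff⟩ := exists_contrib_divisible hM hC hx hζx hB hind hq hqB
  set m := (primitiveRoots n ℂ).card with hm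
  have hmpos : 0 < m := Finset.card_pos.mpr ⟨ζ, (mem_primitiveRoots hn0).mpr hζ⟩
  let P : Cfsg.IrrCharacter G → Cfsg.IrrCharacter G → ℤ[X] := fun χ ψ =>
    cycloPoly n e.toFinset Z (a χ) (a ψ) (i χ) (i ψ)
  have hP : ∀ w, IsPrimitiveRoot w n → ∀ χ ψ,
      aeval w (P χ ψ) = cycloForm e.toFinset Z (a χ) (a ψ) (i χ) (i ψ) w := fun w hw χ ψ =>
    aeval_cycloPoly hn0 hw.pow_eq_one _ _ _ _ _ _
  have hconj : ∀ v, IsPrimitiveRoot v n → ∀ χ ψ,
      aeval v (P ψ χ) = conj (aeval v (P χ ψ)) := fun v hv χ ψ => by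
    rw [hP v hv, hP v hv, conj_cycloForm _ hZ]
  have hPc : ∀ χ ψ, aeval ζ (P χ ψ) = contrib 2 q x e χ ψ := fun χ ψ => by
    rw [hP ζ hζ, hform]
  obtain ⟨ht : Cfsg.IrrCharacter G → ℕ, htdef⟩ :
      ∃ ht : Cfsg.IrrCharacter G → ℕ, ∀ χ,
        ht χ = (Cfsg.charDegree (χ : G → ℂ)).factorization 2 - minExp 2 B := ⟨_, fun _ => rfl⟩
  simp only [← htdef] at hY
  have hht : ∀ χ ∈ B, ht χ = 0 → (Cfsg.charDegree (χ : G → ℂ)).factorization 2 = minExp 2 B :=
    fun χ hχ h => by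
      have := minExp_le (p := 2) hχ
      rw [htdef] at h
      omega
  obtain ⟨χ₀, hχ₀, hχ₀m⟩ := exists_minExp (p := 2) (block_nonempty hM hB)
  have hχ₀h : ht χ₀ = 0 := by rw [htdef, hχ₀m, Nat.sub_self]
  have hY00 : ∀ χ ∈ B, ht χ = 0 → ∀ ψ ∈ B, ht ψ = 0 →
      ¬ Cfsg.MemLocalIdeal M (aeval ζ (P χ ψ)) := by
    intro χ hχ hχm ψ hψ hψm hmem
    refine hodd χ hχ ψ hψ (hht χ hχ hχm) (hht ψ hψ hψm) ((memIdeal_intCast_iff hM _).mp ?_)
    have hω : ∀ j : ℕ, Cfsg.MemLocalIdeal M (ζ ^ j - 1) := by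
      intro j
      have : M.IsPrime := hM.2.1.isPrime
      have : M.IsMaximal := hM.2.1
      have hR : ζ ^ j ∈ CfsgLib.Blocks.locRing M :=
        memRing_algInt hM ((hζ.isIntegral hn0).pow j)
      rw [← OneMemClass.coe_one (CfsgLib.Blocks.locRing M),
        CfsgLib.Blocks.memLocalIdeal_sub_iff (x := ⟨ζ ^ j, hR⟩), map_one]
      refine CfsgLib.Blocks.red_eq_one_of_pow_prime_pow hM.1 hM.2.2 (k := k) (Subtype.ext ?_)
      show (ζ ^ j) ^ 2 ^ k = 1
      rw [← pow_mul, mul_comm, pow_mul, ← hn, hζ.pow_eq_one, one_pow]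
    have hsub : Cfsg.MemLocalIdeal M (aeval ζ (P χ ψ) -
        ((∑ φ ∈ e.toFinset, ∑ θ ∈ e.toFinset, (a χ φ : ℤ) * (a ψ θ : ℤ) * Z φ θ : ℤ) : ℂ)) := by
      simp only [P, cycloPoly, map_sum, map_mul, aeval_X_pow, map_natCast,
        map_intCast, Int.cast_sum, ← Finset.sum_sub_distrib, eq_intCast]
      refine memIdeal_sum hM _ fun φ _ => memIdeal_sum hM _ fun θ _ => ?_
      have h3 := memIdeal_mul_left hM
        (memRing_intCast hM ((a χ φ : ℤ) * (a ψ θ : ℤ) * Z φ θ))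
        (hω (i χ φ + (n - 1) * i ψ θ))
      convert h3 using 1
      push_cast
      ring
    have h4 := memIdeal_sub hM hmem hsub
    rwa [sub_sub_cancel] at h4
  -- the row relation at every conjugate
  have hrow : ∀ χ ∈ B, ∀ w ∈ primitiveRoots n ℂ,
      ∑ ψ ∈ B.toFinset, Complex.normSq (aeval w (P χ ψ)) =
        ((2 ^ q : ℕ) : ℝ) * (aeval w (P χ χ)).re := by
    intro χ hχ w hw
    have hw' := (mem_primitiveRoots hn0).mp hw
    have h0 : aeval ζ (∑ ψ ∈ B.toFinset, P χ ψ * P ψ χ -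
        Polynomial.C ((2 ^ q : ℕ) : ℤ) * P χ χ) = 0 := by
      rw [map_sub, map_sum, map_mul, Polynomial.aeval_C, map_natCast,
        hPc χ χ, ← sum_contrib_mul_conj hM hC ⟨k, hx⟩ hind q χ, sub_eq_zero]
      refine Finset.sum_congr rfl fun ψ _ => ?_
      rw [map_mul, hconj ζ hζ χ ψ, hPc]
    have h1 := aeval_eq_zero_of_primitive hn0 hζ hw' _ h0
    rw [map_sub, map_sum, map_mul, Polynomial.aeval_C, map_natCast, sub_eq_zero] at h1
    have h2 := congrArg Complex.re h1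
    rw [Complex.re_sum, Complex.mul_re, Complex.natCast_re, Complex.natCast_im, zero_mul,
      sub_zero] at h2
    rw [← h2]
    refine Finset.sum_congr rfl fun ψ _ => ?_
    rw [map_mul, hconj w hw' χ ψ, Complex.mul_conj, Complex.ofReal_re]
  have hnorm : ∀ χ w, (aeval w (P χ χ)).re ^ 2 ≤ Complex.normSq (aeval w (P χ χ)) := fun χ w => by
    rw [Complex.normSq_apply, sq]
    exact le_add_of_nonneg_right (mul_self_nonneg _)
  rcases Nat.eq_zero_or_pos q with hq0 | hqpos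
  · -- defect zero
    have hall : ∀ χ ∈ B, ht χ = 0 := fun χ hχ => by
      have := factorization_deg_le (p := 2) χ
      rw [htdef]
      omega
    have hlow : (B.toFinset.card : ℝ) * m ≤
        ∑ ψ ∈ B.toFinset, ∑ w ∈ primitiveRoots n ℂ, Complex.normSq (aeval w (P χ₀ ψ)) := by
      rw [← nsmul_eq_mul]
      refine Finset.card_nsmul_le_sum _ _ _ fun ψ hψ => card_le_sum_normSq hn0 hζ _ fun h0 => ?_
      exact hY00 χ₀ hχ₀ hχ₀h ψ (Set.mem_toFinset.mp hψ) (hall ψ (Set.mem_toFinset.mp hψ))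
        (by rw [h0]; exact memIdeal_zero hM)
    rw [Finset.sum_comm] at hlow
    have hup : ∑ w ∈ primitiveRoots n ℂ, ∑ ψ ∈ B.toFinset,
        Complex.normSq (aeval w (P χ₀ ψ)) ≤ (m : ℝ) := by
      rw [hm, Finset.card_eq_sum_ones, Nat.cast_sum]
      refine Finset.sum_le_sum fun w hw => ?_
      rw [hrow χ₀ hχ₀ w hw, hq0, pow_zero, Nat.cast_one, one_mul]
      have h1 := Finset.single_le_sum (f := fun ψ => Complex.normSq (aeval w (P χ₀ ψ)))
        (fun ψ _ => Complex.normSq_nonneg _) (Set.mem_toFinset.mpr hχ₀)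
      rw [hrow χ₀ hχ₀ w hw, hq0, pow_zero, Nat.cast_one, one_mul] at h1
      nlinarith [hnorm χ₀ w]
    have : (B.toFinset.card : ℝ) ≤ 1 := by
      have hm' : (0 : ℝ) < m := by exact_mod_cast hmpos
      exact le_of_mul_le_mul_right (by linarith) hm'
    rw [hq0, pow_zero]
    exact_mod_cast this
  -- the heights are below the defect
  have hlt : ∀ χ ∈ B, ht χ < q := by
    intro χ hχ
    by_contra hge
    push Not at hge
    have hne : χ ≠ χ₀ := fun h => by rw [h, hχ₀h] at hge; omega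
    obtain ⟨Q, hQ⟩ := exists_divided hM hζ (ht χ) (P χ χ₀) (hY χ hχ χ₀).1 (by
      rw [hPc, (hY χ hχ χ₀).2]
      push_cast
      rfl)
    have hQ0 : aeval ζ Q ≠ 0 := by
      rw [hQ]
      refine ne_zero_of_not_memIdeal hM fun h => hY00 χ₀ hχ₀ hχ₀h χ₀ hχ₀ hχ₀h ?_
      rw [hPc, (hY χ₀ hχ₀ χ₀).2, hχ₀h, pow_zero, Nat.cast_one, one_mul]
      exact hYiff χ hχ χ₀ hχ₀ χ₀ h
    have hlow := card_le_sum_normSq hn0 hζ Q hQ0
    have hup : ∀ w ∈ primitiveRoots n ℂ,
        4 * (((2 ^ ht χ : ℕ) : ℝ) ^ 2 * Complex.normSq (aeval w Q)) ≤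
          ((2 ^ q : ℕ) : ℝ) ^ 2 := by
      intro w hw
      have hval : Complex.normSq (aeval w (P χ χ₀)) =
          ((2 ^ ht χ : ℕ) : ℝ) ^ 2 * Complex.normSq (aeval w Q) := by
        rw [aeval_scale_of_primitive hn0 hζ ((mem_primitiveRoots hn0).mp hw) _ Q (2 ^ ht χ) (by
          rw [hPc, hQ, (hY χ hχ χ₀).2]), Complex.normSq_mul, Complex.normSq_natCast, sq]
      have h1 : Complex.normSq (aeval w (P χ χ)) + Complex.normSq (aeval w (P χ χ₀)) ≤
          ((2 ^ q : ℕ) : ℝ) * (aeval w (P χ χ)).re := by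
        rw [← hrow χ hχ w hw, ← Finset.sum_pair (f := fun ψ =>
          Complex.normSq (aeval w (P χ ψ))) hne]
        refine Finset.sum_le_sum_of_subset_of_nonneg ?_ fun ψ _ _ => Complex.normSq_nonneg _
        intro ψ hψ
        rcases Finset.mem_insert.mp hψ with rfl | hψ
        · exact Set.mem_toFinset.mpr hχ
        · rw [Finset.mem_singleton.mp hψ]; exact Set.mem_toFinset.mpr hχ₀
      rw [← hval]
      nlinarith [hnorm χ w, sq_nonneg (2 * (aeval w (P χ χ)).re - ((2 ^ q : ℕ) : ℝ))]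
    have h2 := Finset.sum_le_card_nsmul _ _ _ hup
    rw [nsmul_eq_mul, ← Finset.mul_sum, ← Finset.mul_sum] at h2
    have h3 : ((2 ^ q : ℕ) : ℝ) ≤ ((2 ^ ht χ : ℕ) : ℝ) := by
      exact_mod_cast Nat.pow_le_pow_right (by norm_num) hge
    have h4 : (0 : ℝ) < ((2 ^ q : ℕ) : ℝ) := by exact_mod_cast Nat.two_pow_pos q
    have h5 : ((2 ^ q : ℕ) : ℝ) ^ 2 * (m : ℝ) ≤
        ((2 ^ ht χ : ℕ) : ℝ) ^ 2 * ∑ w ∈ primitiveRoots n ℂ, Complex.normSq (aeval w Q) :=
      mul_le_mul (pow_le_pow_left₀ h4.le h3 2) hlow (Nat.cast_nonneg _) (sq_nonneg _)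
    have h6 : (0 : ℝ) < ((2 ^ q : ℕ) : ℝ) ^ 2 * (m : ℝ) := by
      have : (0 : ℝ) < m := by exact_mod_cast hmpos
      positivity
    rw [← hm] at h2
    linarith
  -- the complementary matrix
  let P' : Cfsg.IrrCharacter G → Cfsg.IrrCharacter G → ℤ[X] := fun χ ψ =>
    (if χ = ψ then Polynomial.C ((2 ^ q : ℕ) : ℤ) else 0) - P χ ψ
  let Y' : Cfsg.IrrCharacter G → Cfsg.IrrCharacter G → ℂ := fun χ ψ =>
    (if χ = ψ then ((2 ^ (q - ht χ) : ℕ) : ℂ) else 0) - Y χ ψ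
  have hP' : ∀ (w : ℂ) χ ψ, aeval w (P' χ ψ) =
      (if χ = ψ then ((2 ^ q : ℕ) : ℂ) else 0) - aeval w (P χ ψ) := fun w χ ψ => by
    simp only [P', map_sub]
    split_ifs
    · rw [aeval_C, map_natCast]
    · rw [map_zero]
  have hY' : ∀ χ ∈ B, ∀ ψ, IsIntegral ℤ (Y' χ ψ) ∧
      aeval ζ (P' χ ψ) = ((2 ^ ht χ : ℕ) : ℂ) * Y' χ ψ := by
    intro χ hχ ψ
    refine ⟨?_, ?_⟩
    · simp only [Y']
      split_ifs
      · exact (isIntegral_natCast _).sub (hY χ hχ ψ).1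
      · exact isIntegral_zero.sub (hY χ hχ ψ).1
    · rw [hP', hPc, (hY χ hχ ψ).2]
      simp only [Y', mul_sub, mul_ite, mul_zero, ← Nat.cast_mul, ← pow_add,
        Nat.add_sub_cancel' (hlt χ hχ).le]
  have hYmem : ∀ χ ∈ B, ∀ ψ, Cfsg.MemLocalIdeal M (Y' χ ψ) ↔ Cfsg.MemLocalIdeal M (Y χ ψ) := by
    intro χ hχ ψ
    have hsum : Cfsg.MemLocalIdeal M (Y' χ ψ + Y χ ψ) := by
      simp only [Y', sub_add_cancel]
      split_ifs
      · exact (memIdeal_natCast_iff hM _).mpr (dvd_pow_self 2 (by have := hlt χ hχ; omega))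
      · exact memIdeal_zero hM
    exact ⟨fun h => by simpa using memIdeal_sub hM hsum h,
      fun h => by simpa using memIdeal_sub hM hsum h⟩
  have hre : ∀ χ ∈ B, (contrib 2 q x e χ χ).re ≤ ((2 ^ q : ℕ) : ℝ) := by
    intro χ hχ
    rw [← hPc]
    have h1 := Finset.single_le_sum (f := fun ψ => Complex.normSq (aeval ζ (P χ ψ)))
      (fun ψ _ => Complex.normSq_nonneg _) (Set.mem_toFinset.mpr hχ)
    rw [hrow χ hχ ζ ((mem_primitiveRoots hn0).mpr hζ)] at h1
    have h2 : (0 : ℝ) < ((2 ^ q : ℕ) : ℝ) := by exact_mod_cast Nat.two_pow_pos q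
    nlinarith [hnorm χ ζ]
  have hle : Cfsg.blockRank 2 e ≤ B.toFinset.card := by
    have h1 := congrArg Complex.re (sum_contrib_self hM hC ⟨k, hx⟩ hind q)
    rw [Complex.re_sum, Complex.mul_re, Complex.natCast_re, Complex.natCast_im, zero_mul,
      sub_zero, Complex.natCast_re] at h1
    have h2 := Finset.sum_le_card_nsmul B.toFinset _ _
      fun χ hχ => hre χ (Set.mem_toFinset.mp hχ)
    rw [nsmul_eq_mul, h1, mul_comm] at h2
    exact_mod_cast le_of_mul_le_mul_right h2 (by exact_mod_cast Nat.two_pow_pos q)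
  have hmain := two_bound_abstract (q := q) (r := B.toFinset.card - Cfsg.blockRank 2 e) hM hζ
    B.toFinset ht P' Y'
    (fun w hw χ ψ => by
      rw [hP', hP', map_sub, ← hconj w hw χ ψ]
      by_cases h : χ = ψ
      · subst h; simp only [if_true, map_natCast]
      · simp [h, Ne.symm h])
    (fun χ hχ ψ _ => hY' χ (Set.mem_toFinset.mp hχ) ψ)
    (fun χ hχ χ' hχ' ψ _ h => (hYmem χ' (Set.mem_toFinset.mp hχ') ψ).mpr
      (hYiff χ (Set.mem_toFinset.mp hχ) χ' (Set.mem_toFinset.mp hχ') ψ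
        ((hYmem χ (Set.mem_toFinset.mp hχ) ψ).mp h)))
    (fun χ hχ hh ψ hψ hh' h => by
      have hχ' := Set.mem_toFinset.mp hχ
      refine hY00 χ hχ' hh ψ (Set.mem_toFinset.mp hψ) hh' ?_
      rw [(hY' χ hχ' ψ).2, hh, pow_zero, Nat.cast_one, one_mul] at h
      rw [hPc, (hY χ hχ' ψ).2, hh, pow_zero, Nat.cast_one, one_mul]
      exact (hYmem χ hχ' ψ).mp h)
    (Set.mem_toFinset.mpr hχ₀) hχ₀h
    (fun χ hχ => by
      have hterm : ∀ ψ, aeval ζ (P' χ ψ) * conj (aeval ζ (P' χ ψ)) =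
          (if χ = ψ then ((2 ^ q : ℕ) : ℂ) *
            (((2 ^ q : ℕ) : ℂ) - 2 * contrib 2 q x e χ χ) else 0) +
          contrib 2 q x e χ ψ * conj (contrib 2 q x e χ ψ) := by
        intro ψ
        rw [hP', hPc]
        split_ifs with h
        · subst h
          rw [map_sub, map_natCast, show conj (contrib 2 q x e χ χ) = contrib 2 q x e χ χ by
            rw [← hPc, ← hconj ζ hζ χ χ]]
          ring
        · rw [zero_sub, map_neg]
          ring
      rw [Finset.sum_congr rfl fun ψ _ => hterm ψ, Finset.sum_add_distrib, Finset.sum_ite_eq,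
        if_pos hχ, sum_contrib_mul_conj hM hC ⟨k, hx⟩ hind q χ, hP', if_pos rfl, hPc]
      ring)
    (by
      simp only [hP', hPc, if_true, Finset.sum_sub_distrib, Finset.sum_const, nsmul_eq_mul]
      rw [sum_contrib_self hM hC ⟨k, hx⟩ hind q, Nat.cast_mul, Nat.cast_sub hle]
      ring)
    (by omega)
  have h2 : 2 * (B.toFinset.filter fun χ => ¬ ht χ = 0).card ≤
      ∑ χ ∈ B.toFinset.filter (fun χ => ¬ ht χ = 0), 2 ^ ht χ := by
    rw [mul_comm, ← smul_eq_mul]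
    exact Finset.card_nsmul_le_sum _ _ _ fun χ hχ =>
      Nat.le_self_pow (Finset.mem_filter.mp hχ).2 2
  have h3 := Finset.card_filter_add_card_filter_not (s := B.toFinset) (fun χ => ht χ = 0)
  omega

end CfsgLib.BlockRank
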