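import Cfsg.Agent.Lib.BlockRank.TwoBlocks
import Cfsg.Agent.Lib.BlockRank.CycloTwo
import Cfsg.Agent.Lib.BlockRank.MajorDivisible

/-!
# Major subsections of `2`-blocks of rank at most three
-/

set_option autoImplicit false

open scoped ComplexConjugate
open Polynomial

namespace CfsgLib.BlockRank

universe u

variable {G : Type u} [Group G] [Fintype G] {M : Ideal Cfsg.AlgInt}

theorem aeval_scale_of_primitive {n : ℕ} (hn : 0 < n) {ζ w : ℂ} (hζ : IsPrimitiveRoot ζ n)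
    (hw : IsPrimitiveRoot w n) (P Q : ℤ[X]) (c : ℕ) (h : aeval ζ P = (c : ℂ) * aeval ζ Q) :
    aeval w P = (c : ℂ) * aeval w Q := by
  have h0 := aeval_eq_zero_of_primitive hn hζ hw (P - Polynomial.C (c : ℤ) * Q) (by
    rw [map_sub, map_mul, aeval_C, map_natCast, h, sub_self])
  rwa [map_sub, map_mul, aeval_C, map_natCast, sub_eq_zero] at h0

open CfsgLib.BlockReg in
/-- Robinson's bound for a major subsection of a `2`-block with at most three Brauer characters. -/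
theorem major_two_bound (hM : Cfsg.IsPModular 2 M) {C : Subgroup G} {x : G}
    (hC : C = Subgroup.centralizer {x}) {k : ℕ} (hx : orderOf x = 2 ^ k) [Fintype C]
    {e : Set (Cfsg.IrrCharacter C)} {B : Set (Cfsg.IrrCharacter G)} [Fintype B]
    (hB : Cfsg.IsPBlock M B) (hind : Cfsg.IsInducedBlock M C e B) {q : ℕ}
    (hq : q + minExp 2 e = (Nat.card C).factorization 2)
    (hqB : q + minExp 2 B = (Nat.card G).factorization 2) (hl : Cfsg.blockRank 2 e ≤ 3) :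
    3 * (B.toFinset.filter fun χ : Cfsg.IrrCharacter G =>
          (Cfsg.charDegree (χ : G → ℂ)).factorization 2 = minExp 2 B).card +
        2 * ∑ χ ∈ B.toFinset.filter (fun χ : Cfsg.IrrCharacter G =>
            ¬ (Cfsg.charDegree (χ : G → ℂ)).factorization 2 = minExp 2 B),
          2 ^ ((Cfsg.charDegree (χ : G → ℂ)).factorization 2 - minExp 2 B) ≤ 3 * 2 ^ q := by
  classical
  have : Fact (Nat.Prime 2) := ⟨Nat.prime_two⟩
  have := Fintype.ofFinite e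
  set n := 2 ^ k with hn
  have hn0 : 0 < n := Nat.pow_pos (by norm_num)
  let ζ := Complex.exp (2 * Real.pi * Complex.I / n)
  have hζ : IsPrimitiveRoot ζ n := Complex.isPrimitiveRoot_exp n hn0.ne'
  have hζx : IsPrimitiveRoot ζ (orderOf x) := by rw [hx]; exact hζ
  obtain ⟨a, i, Z, hZ, hform, hodd⟩ := exists_contrib_form (ζ := ζ) hM hC hζx hind hq
  obtain ⟨Y, hY, hYiff⟩ := exists_contrib_divisible hM hC hx hζx hB hind hq hqB
  set m := (primitiveRoots n ℂ).card with hm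
  have hmpos : 0 < m := Finset.card_pos.mpr ⟨ζ, (mem_primitiveRoots hn0).mpr hζ⟩
  let P : Cfsg.IrrCharacter G → Cfsg.IrrCharacter G → ℤ[X] := fun χ ψ =>
    cycloPoly n e.toFinset Z (a χ) (a ψ) (i χ) (i ψ)
  have hP : ∀ w, IsPrimitiveRoot w n → ∀ χ ψ,
      aeval w (P χ ψ) = cycloForm e.toFinset Z (a χ) (a ψ) (i χ) (i ψ) w := fun w hw χ ψ =>
    aeval_cycloPoly hn0 hw.pow_eq_one _ _ _ _ _ _
  have hconj : ∀ v, IsPrimitiveRoot v n → ∀ χ ψ,
      aeval v (P ψ χ) = conj (aeval v (P χ ψ)) := fun v hv χ ψ => by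
    rw [hP v hv, hP v hv, conj_cycloForm _ hZ]
  have hPc : ∀ χ ψ, aeval ζ (P χ ψ) = contrib 2 q x e χ ψ := fun χ ψ => by
    rw [hP ζ hζ, hform]
  obtain ⟨ht : Cfsg.IrrCharacter G → ℕ, htdef⟩ :
      ∃ ht : Cfsg.IrrCharacter G → ℕ, ∀ χ,
        ht χ = (Cfsg.charDegree (χ : G → ℂ)).factorization 2 - minExp 2 B := ⟨_, fun _ => rfl⟩
  simp only [← htdef] at hY ⊢
  obtain ⟨χ₀, hχ₀, hχ₀m⟩ := exists_minExp (p := 2) (block_nonempty hM hB)
  have hh₀ : ∀ χ : Cfsg.IrrCharacter G,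
      (Cfsg.charDegree (χ : G → ℂ)).factorization 2 = minExp 2 B → ht χ = 0 := fun χ h => by
    rw [htdef, h, Nat.sub_self]
  have hY00 : ∀ χ ∈ B, (Cfsg.charDegree (χ : G → ℂ)).factorization 2 = minExp 2 B →
      ∀ ψ ∈ B, (Cfsg.charDegree (ψ : G → ℂ)).factorization 2 = minExp 2 B →
        ¬ Cfsg.MemLocalIdeal M (contrib 2 q x e χ ψ) := by
    intro χ hχ hχm ψ hψ hψm hmem
    refine hodd χ hχ ψ hψ hχm hψm ((memIdeal_intCast_iff hM _).mp ?_)
    rw [← hPc] at hmem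
    have hω : ∀ j : ℕ, Cfsg.MemLocalIdeal M (ζ ^ j - 1) := by
      intro j
      have : M.IsPrime := hM.2.1.isPrime
      have : M.IsMaximal := hM.2.1
      have hR : ζ ^ j ∈ CfsgLib.Blocks.locRing M :=
        memRing_algInt hM ((hζ.isIntegral hn0).pow j)
      rw [← OneMemClass.coe_one (CfsgLib.Blocks.locRing M),
        CfsgLib.Blocks.memLocalIdeal_sub_iff (x := ⟨ζ ^ j, hR⟩), map_one]
      refine CfsgLib.Blocks.red_eq_one_of_pow_prime_pow hM.1 hM.2.2 (k := k) (Subtype.ext ?_)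
      show (ζ ^ j) ^ 2 ^ k = 1
      rw [← pow_mul, mul_comm, pow_mul, ← hn, hζ.pow_eq_one, one_pow]
    have hsub : Cfsg.MemLocalIdeal M (aeval ζ (P χ ψ) -
        ((∑ φ ∈ e.toFinset, ∑ θ ∈ e.toFinset, (a χ φ : ℤ) * (a ψ θ : ℤ) * Z φ θ : ℤ) : ℂ)) := by
      simp only [P, cycloPoly, map_sum, map_mul, aeval_X_pow, map_natCast,
        map_intCast, Int.cast_sum, ← Finset.sum_sub_distrib, eq_intCast]
      refine memIdeal_sum hM _ fun φ _ => memIdeal_sum hM _ fun θ _ => ?_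
      have h3 := memIdeal_mul_left hM
        (memRing_intCast hM ((a χ φ : ℤ) * (a ψ θ : ℤ) * Z φ θ))
        (hω (i χ φ + (n - 1) * i ψ θ))
      convert h3 using 1
      push_cast
      ring
    have h4 := memIdeal_sub hM hmem hsub
    rwa [sub_sub_cancel] at h4
  have hY0 : ∀ χ ∈ B, (Cfsg.charDegree (χ : G → ℂ)).factorization 2 = minExp 2 B → ∀ ψ,
      contrib 2 q x e χ ψ = Y χ ψ := fun χ hχ hχm ψ => by
    rw [(hY χ hχ ψ).2, hh₀ χ hχm, pow_zero, Nat.cast_one, one_mul]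
  -- a member of positive height has quotients in `M`, and a unit against height zero
  have hne : ∀ χ ∈ B, ¬ Cfsg.MemLocalIdeal M (Y χ χ₀) := fun χ hχ h =>
    hY00 χ₀ hχ₀ hχ₀m χ₀ hχ₀ hχ₀m (by
      rw [hY0 χ₀ hχ₀ hχ₀m]
      exact hYiff χ hχ χ₀ hχ₀ χ₀ h)
  have hYdiag : ∀ χ ∈ B, (Cfsg.charDegree (χ : G → ℂ)).factorization 2 ≠ minExp 2 B →
      Cfsg.MemLocalIdeal M (Y χ χ) := by
    intro χ hχ hχm
    have hpos : 0 < ht χ := by
      have := minExp_le (p := 2) hχ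
      rw [htdef]
      omega
    refine hYiff χ₀ hχ₀ χ hχ χ ?_
    rw [← hY0 χ₀ hχ₀ hχ₀m, ← hPc, hconj ζ hζ χ χ₀, hPc, (hY χ hχ χ₀).2, map_mul, map_natCast,
      show ht χ = (ht χ - 1) + 1 by omega, pow_succ', Nat.cast_mul, mul_assoc]
    refine memIdeal_mul_right hM ((memIdeal_natCast_iff hM 2).mpr dvd_rfl) (memRing_algInt hM ?_)
    exact (isIntegral_natCast _).mul ((hY χ hχ χ₀).1.map (RingHom.toIntAlgHom (starRingEnd ℂ)))
  -- integral quotients, as polynomial values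
  have hQex : ∀ χ ψ, ∃ Q : ℤ[X], χ ∈ B → aeval ζ Q = Y χ ψ := by
    intro χ ψ
    by_cases hχ : χ ∈ B
    · obtain ⟨Q, hQ⟩ := exists_divided hM hζ (ht χ) (P χ ψ) (hY χ hχ ψ).1 (by
        rw [hPc, (hY χ hχ ψ).2]
        push_cast
        rfl)
      exact ⟨Q, fun _ => hQ⟩
    · exact ⟨0, fun h => absurd h hχ⟩
  choose Q hQ using hQex
  have hscale : ∀ χ ∈ B, ∀ ψ, ∀ w ∈ primitiveRoots n ℂ,
      aeval w (P χ ψ) = ((2 ^ ht χ : ℕ) : ℂ) * aeval w (Q χ ψ) := fun χ hχ ψ w hw =>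
    aeval_scale_of_primitive hn0 hζ ((mem_primitiveRoots hn0).mp hw) _ _ _ (by
      rw [hPc, hQ χ ψ hχ, (hY χ hχ ψ).2])
  -- the averaged diagonal
  have hzex : ∀ χ, ∃ z : ℤ, χ ∈ B →
      ∑ w ∈ primitiveRoots n ℂ, aeval w (Q χ χ) = (z : ℂ) * m ∧
        Cfsg.MemLocalIdeal M (Y χ χ - (z : ℂ)) := by
    intro χ
    by_cases hχ : χ ∈ B
    · have hreal : conj (aeval ζ (Q χ χ)) = aeval ζ (Q χ χ) := by
        have h1 := hscale χ hχ χ ζ ((mem_primitiveRoots hn0).mpr hζ)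
        have h2 := hconj ζ hζ χ χ
        rw [h1, map_mul, map_natCast] at h2
        exact (mul_left_cancel₀ (Nat.cast_ne_zero.mpr (pow_ne_zero _ two_ne_zero)) h2).symm
      obtain ⟨z, hz1, hz2⟩ := exists_real_avg hM hζ (Q χ χ) hreal
      rw [hQ χ χ hχ] at hz2
      exact ⟨z, fun _ => ⟨hz1, hz2⟩⟩
    · exact ⟨0, fun h => absurd h hχ⟩
  choose z hz using hzex
  have hrow : ∀ χ ∈ B, ((2 ^ q : ℕ) : ℝ) * (((2 ^ ht χ : ℕ) : ℝ) * ((z χ : ℝ) * m)) =
      ∑ ψ ∈ B.toFinset, ∑ w ∈ primitiveRoots n ℂ, Complex.normSq (aeval w (P χ ψ)) := by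
    intro χ hχ
    rw [Finset.sum_comm]
    apply Complex.ofReal_injective
    push_cast
    rw [← (hz χ hχ).1, Finset.mul_sum, Finset.mul_sum]
    refine Finset.sum_congr rfl fun w hw => ?_
    have hw' := (mem_primitiveRoots hn0).mp hw
    have h0 : aeval ζ (∑ ψ ∈ B.toFinset, P χ ψ * P ψ χ -
        Polynomial.C ((2 ^ q : ℕ) : ℤ) * P χ χ) = 0 := by
      rw [map_sub, map_sum, map_mul, Polynomial.aeval_C, map_natCast,
        hPc χ χ, ← sum_contrib_mul_conj hM hC ⟨k, hx⟩ hind q χ, sub_eq_zero]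
      refine Finset.sum_congr rfl fun ψ _ => ?_
      rw [map_mul, hconj ζ hζ χ ψ, hPc]
    have h1 := aeval_eq_zero_of_primitive hn0 hζ hw' _ h0
    rw [map_sub, map_sum, map_mul, Polynomial.aeval_C, map_natCast, sub_eq_zero,
      hscale χ hχ χ w hw] at h1
    push_cast at h1
    rw [← h1]
    refine Finset.sum_congr rfl fun ψ _ => ?_
    rw [map_mul, hconj w hw' χ ψ, Complex.mul_conj]
  have hzpos : ∀ χ ∈ B, 0 < z χ := by
    intro χ hχ
    have hP0 : aeval ζ (P χ χ₀) ≠ 0 := by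
      rw [hPc, (hY χ hχ χ₀).2]
      exact mul_ne_zero (Nat.cast_ne_zero.mpr (pow_ne_zero _ two_ne_zero))
        (ne_zero_of_not_memIdeal hM (hne χ hχ))
    have h1 : (m : ℝ) ≤ ((2 ^ q : ℕ) : ℝ) * (((2 ^ ht χ : ℕ) : ℝ) * ((z χ : ℝ) * m)) := by
      rw [hrow χ hχ]
      exact (card_le_sum_normSq hn0 hζ _ hP0).trans
        (Finset.single_le_sum (f := fun ψ => ∑ w ∈ primitiveRoots n ℂ,
          Complex.normSq (aeval w (P χ ψ)))
          (fun _ _ => Finset.sum_nonneg fun _ _ => Complex.normSq_nonneg _)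
          (Set.mem_toFinset.mpr hχ₀))
    by_contra hle
    push Not at hle
    have h2 : ((2 ^ q : ℕ) : ℝ) * (((2 ^ ht χ : ℕ) : ℝ) * ((z χ : ℝ) * m)) ≤ 0 :=
      mul_nonpos_of_nonneg_of_nonpos (Nat.cast_nonneg _)
        (mul_nonpos_of_nonneg_of_nonpos (Nat.cast_nonneg _)
          (mul_nonpos_of_nonpos_of_nonneg (by exact_mod_cast hle) (Nat.cast_nonneg _)))
    have : (0 : ℝ) < m := by exact_mod_cast hmpos
    linarith
  have hsum : ∑ χ ∈ B.toFinset, ((2 ^ ht χ : ℕ) : ℤ) * z χ =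
      ((2 ^ q * Cfsg.blockRank 2 e : ℕ) : ℤ) := by
    have h0 : aeval ζ (∑ χ ∈ B.toFinset, P χ χ -
        Polynomial.C (((2 ^ q * Cfsg.blockRank 2 e : ℕ)) : ℤ)) = 0 := by
      rw [map_sub, map_sum, Polynomial.aeval_C, map_natCast, sub_eq_zero, Nat.cast_mul,
        ← sum_contrib_self hM hC ⟨k, hx⟩ hind q]
      exact Finset.sum_congr rfl fun χ _ => hPc χ χ
    have h1 : ∑ χ ∈ B.toFinset, (((2 ^ ht χ : ℕ) : ℂ) * (z χ : ℂ) * m) =
        ((2 ^ q * Cfsg.blockRank 2 e : ℕ) : ℂ) * m := by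
      rw [Finset.sum_congr rfl fun χ hχ => by
          rw [mul_assoc, ← (hz χ (Set.mem_toFinset.mp hχ)).1, Finset.mul_sum],
        Finset.sum_comm,
        Finset.sum_congr rfl (g := fun _ => ((2 ^ q * Cfsg.blockRank 2 e : ℕ) : ℂ)) fun w hw => ?_,
        Finset.sum_const, nsmul_eq_mul, mul_comm]
      have h2 := aeval_eq_zero_of_primitive hn0 hζ ((mem_primitiveRoots hn0).mp hw) _ h0
      rw [map_sub, map_sum, Polynomial.aeval_C, map_natCast, sub_eq_zero] at h2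
      rw [← h2]
      exact Finset.sum_congr rfl fun χ hχ => (hscale χ (Set.mem_toFinset.mp hχ) χ w hw).symm
    rw [← Finset.sum_mul] at h1
    exact_mod_cast mul_right_cancel₀ (Nat.cast_ne_zero.mpr hmpos.ne') h1
  set B0 := B.toFinset.filter fun χ : Cfsg.IrrCharacter G =>
    (Cfsg.charDegree (χ : G → ℂ)).factorization 2 = minExp 2 B with hB0
  set B1 := B.toFinset.filter fun χ : Cfsg.IrrCharacter G =>
    ¬ (Cfsg.charDegree (χ : G → ℂ)).factorization 2 = minExp 2 B with hB1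
  by_cases hone : ∃ χ ∈ B0, z χ = 1
  · -- a diagonal entry one: Galois norms in its row
    obtain ⟨χ, hχB, hz1⟩ := hone
    obtain ⟨hχ', hχm⟩ := Finset.mem_filter.mp hχB
    have hχ := Set.mem_toFinset.mp hχ'
    have h1 := hrow χ hχ
    rw [hh₀ χ hχm, hz1, pow_zero, Nat.cast_one, Int.cast_one, one_mul, one_mul,
      ← Finset.sum_filter_add_sum_filter_not B.toFinset
        (fun ψ : Cfsg.IrrCharacter G =>
          (Cfsg.charDegree (ψ : G → ℂ)).factorization 2 = minExp 2 B)] at h1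
    have hlow0 : (B0.card : ℝ) * m ≤
        ∑ ψ ∈ B0, ∑ w ∈ primitiveRoots n ℂ, Complex.normSq (aeval w (P χ ψ)) := by
      rw [← nsmul_eq_mul]
      refine Finset.card_nsmul_le_sum _ _ _ fun ψ hψ => card_le_sum_normSq hn0 hζ _ fun h0 => ?_
      obtain ⟨hψ', hψm⟩ := Finset.mem_filter.mp hψ
      rw [hPc] at h0
      exact hY00 χ hχ hχm ψ (Set.mem_toFinset.mp hψ') hψm (by rw [h0]; exact memIdeal_zero hM)
    have hlow1 : ((∑ ψ ∈ B1, (2 ^ ht ψ) ^ 2 : ℕ) : ℝ) * m ≤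
        ∑ ψ ∈ B1, ∑ w ∈ primitiveRoots n ℂ, Complex.normSq (aeval w (P χ ψ)) := by
      rw [Nat.cast_sum, Finset.sum_mul]
      refine Finset.sum_le_sum fun ψ hψ => ?_
      obtain ⟨hψ', hψm⟩ := Finset.mem_filter.mp hψ
      have hψ := Set.mem_toFinset.mp hψ'
      have hQ0 : aeval ζ (Q ψ χ) ≠ 0 := by
        rw [hQ ψ χ hψ]
        refine ne_zero_of_not_memIdeal hM fun h => ?_
        refine hY00 χ₀ hχ₀ hχ₀m χ hχ hχm ?_
        rw [hY0 χ₀ hχ₀ hχ₀m]
        exact hYiff ψ hψ χ₀ hχ₀ χ h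
      have hterm : ∀ w ∈ primitiveRoots n ℂ, Complex.normSq (aeval w (P χ ψ)) =
          ((2 ^ ht ψ : ℕ) : ℝ) ^ 2 * Complex.normSq (aeval w (Q ψ χ)) := by
        intro w hw
        rw [hconj w ((mem_primitiveRoots hn0).mp hw) ψ χ, Complex.normSq_conj,
          hscale ψ hψ χ w hw, Complex.normSq_mul, Complex.normSq_natCast, sq]
      rw [Finset.sum_congr rfl hterm, ← Finset.mul_sum, Nat.cast_pow]
      exact mul_le_mul_of_nonneg_left (card_le_sum_normSq hn0 hζ _ hQ0) (sq_nonneg _)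
    have h2 : ((B0.card + ∑ ψ ∈ B1, (2 ^ ht ψ) ^ 2 : ℕ) : ℝ) ≤ ((2 ^ q : ℕ) : ℝ) := by
      refine le_of_mul_le_mul_right ?_ (by exact_mod_cast hmpos : (0 : ℝ) < m)
      rw [Nat.cast_add, add_mul]
      linarith
    have h3 : B0.card + ∑ ψ ∈ B1, (2 ^ ht ψ) ^ 2 ≤ 2 ^ q := by exact_mod_cast h2
    have h4 : ∑ ψ ∈ B1, 2 ^ ht ψ ≤ ∑ ψ ∈ B1, (2 ^ ht ψ) ^ 2 :=
      Finset.sum_le_sum fun ψ _ => Nat.le_self_pow two_ne_zero _
    omega
  · push Not at hone
    have hlow : (3 : ℤ) * B0.card + 2 * ((∑ ψ ∈ B1, 2 ^ ht ψ : ℕ) : ℤ) ≤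
        ∑ χ ∈ B.toFinset, ((2 ^ ht χ : ℕ) : ℤ) * z χ := by
      rw [← Finset.sum_filter_add_sum_filter_not B.toFinset
        (fun ψ : Cfsg.IrrCharacter G =>
          (Cfsg.charDegree (ψ : G → ℂ)).factorization 2 = minExp 2 B)]
      refine add_le_add ?_ ?_
      · rw [mul_comm, ← nsmul_eq_mul]
        refine Finset.card_nsmul_le_sum _ _ _ fun χ hχB => ?_
        obtain ⟨hχ', hχm⟩ := Finset.mem_filter.mp hχB
        have hχ := Set.mem_toFinset.mp hχ'
        have hodd' : ¬ (2 : ℤ) ∣ z χ := fun h2 => by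
          refine hY00 χ hχ hχm χ hχ hχm ?_
          rw [hY0 χ hχ hχm]
          have := memIdeal_add hM (hz χ hχ).2 ((memIdeal_intCast_iff hM _).mpr h2)
          rwa [sub_add_cancel] at this
        have := hzpos χ hχ
        have := hone χ hχB
        rw [hh₀ χ hχm]
        push_cast
        omega
      · push_cast
        rw [Finset.mul_sum]
        refine Finset.sum_le_sum fun χ hχB => ?_
        obtain ⟨hχ', hχm⟩ := Finset.mem_filter.mp hχB
        have hχ := Set.mem_toFinset.mp hχ'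
        have heven : (2 : ℤ) ∣ z χ := by
          refine (memIdeal_intCast_iff hM _).mp ?_
          have := memIdeal_sub hM (hYdiag χ hχ hχm) (hz χ hχ).2
          rwa [sub_sub_cancel] at this
        obtain ⟨c, hc⟩ := heven
        have := hzpos χ hχ
        have hc1 : 1 ≤ c := by omega
        rw [hc]
        have : (0 : ℤ) ≤ 2 ^ ht χ := by positivity
        nlinarith
    rw [hsum] at hlow
    have h5 : ((2 ^ q * Cfsg.blockRank 2 e : ℕ) : ℤ) ≤ ((3 * 2 ^ q : ℕ) : ℤ) := by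
      rw [Nat.mul_comm 3]
      exact_mod_cast Nat.mul_le_mul_left (2 ^ q) hl
    exact_mod_cast hlow.trans h5

end CfsgLib.BlockRank
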