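import Cfsg.Agent.Lib.BlockRank.Contribution
import Mathlib.Data.ZMod.Basic

/-!
# Averages over the Galois conjugates of a `2`-power root of unity
-/

set_option autoImplicit false

open scoped ComplexConjugate
open Polynomial

namespace CfsgLib.BlockRank

/-- The powers of the primitive `2 ^ k`-th roots of unity average to integers. -/
theorem exists_avg_pow (k j : ℕ) :
    ∃ z : ℤ, ∑ w ∈ primitiveRoots (2 ^ k) ℂ, w ^ j =
      (z : ℂ) * ((primitiveRoots (2 ^ k) ℂ).card : ℂ) := by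
  classical
  set n := 2 ^ k with hn
  have hn0 : 0 < n := Nat.pow_pos (by norm_num)
  let ζ := Complex.exp (2 * Real.pi * Complex.I / n)
  have hζ : IsPrimitiveRoot ζ n := Complex.isPrimitiveRoot_exp n hn0.ne'
  have : NeZero n := ⟨hn0.ne'⟩
  have hord : orderOf (ζ ^ j) ∣ 2 ^ k := by
    apply orderOf_dvd_of_pow_eq_one
    rw [← pow_mul, mul_comm, pow_mul, ← hn, hζ.pow_eq_one, one_pow]
  obtain ⟨i, hik, hi⟩ := (Nat.dvd_prime_pow Nat.prime_two).1 hord
  have hprim : ∀ w : ℂ, IsPrimitiveRoot w n → ∃ c : ℕ, c.Coprime n ∧ ζ ^ c = w := fun w hw => by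
    obtain ⟨c, -, hcw⟩ := hζ.eq_pow_of_pow_eq_one hw.pow_eq_one
    exact ⟨c, (hζ.pow_iff_coprime hn0 c).1 (hcw ▸ hw), hcw⟩
  have hodd : ∀ c : ℕ, c.Coprime n → 1 ≤ k → c % 2 = 1 := fun c hc hk => by
    have h2 : c.Coprime 2 := Nat.Coprime.coprime_dvd_right (dvd_pow_self 2 (by omega)) hc
    exact Nat.odd_iff.mp (Nat.coprime_two_right.mp h2)
  rcases Nat.lt_or_ge i 2 with hsmall | hbig
  · have hconst : ∀ w ∈ primitiveRoots n ℂ, w ^ j = ζ ^ j := by
      intro w hw
      obtain ⟨c, hc, rfl⟩ := hprim w ((mem_primitiveRoots hn0).mp hw)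
      rw [← pow_mul, mul_comm, pow_mul, ← pow_mod_orderOf, hi]
      rcases Nat.le_one_iff_eq_zero_or_eq_one.mp (Nat.lt_succ_iff.mp hsmall) with rfl | rfl
      · have h1 : ζ ^ j = 1 := orderOf_eq_one_iff.mp hi
        rw [h1, one_pow]
      · rw [pow_one, hodd c hc (by omega), pow_one]
    have hsq : (ζ ^ j) ^ 2 = 1 :=
      orderOf_dvd_iff_pow_eq_one.mp (hi ▸ pow_dvd_pow 2 (Nat.lt_succ_iff.mp hsmall))
    rw [Finset.sum_congr rfl hconst, Finset.sum_const, nsmul_eq_mul]
    rcases sq_eq_one_iff.mp hsq with h | h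
    · exact ⟨1, by rw [h]; push_cast; ring⟩
    · exact ⟨-1, by rw [h]; push_cast; ring⟩
  · refine ⟨0, ?_⟩
    rw [Int.cast_zero, zero_mul]
    set c := 1 + 2 ^ (i - 1) with hc
    have hc2 : c.Coprime n := by
      rw [hn]
      refine Nat.Coprime.pow_right _ (Nat.coprime_two_right.mpr ?_)
      rw [Nat.odd_iff, hc, show i - 1 = (i - 2) + 1 by omega, pow_succ]
      omega
    have hneg : ∀ w ∈ primitiveRoots n ℂ, (w ^ c) ^ j = -(w ^ j) := by
      intro w hw
      obtain ⟨e, he, rfl⟩ := hprim w ((mem_primitiveRoots hn0).mp hw)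
      have hhalf : (ζ ^ j) ^ 2 ^ (i - 1) = -1 := by
        have h2 : ((ζ ^ j) ^ 2 ^ (i - 1)) ^ 2 = 1 := by
          rw [← pow_mul, ← pow_succ, Nat.sub_add_cancel (by omega), ← hi, pow_orderOf_eq_one]
        refine (sq_eq_one_iff.mp h2).resolve_left fun h1 => ?_
        have h3 := orderOf_dvd_of_pow_eq_one h1
        rw [hi, Nat.pow_dvd_pow_iff_le_right (by norm_num)] at h3
        omega
      have hke : e % 2 = 1 := hodd e he (by omega)
      calc (((ζ ^ e) ^ c) ^ j) = (((ζ ^ j) ^ 2 ^ (i - 1)) ^ e) * (ζ ^ e) ^ j := by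
            simp only [hc, ← pow_mul, ← pow_add]
            congr 1
            ring
        _ = -((ζ ^ e) ^ j) := by
            rw [hhalf, Odd.neg_one_pow (Nat.odd_iff.mpr hke), neg_one_mul]
    have hperm : ∑ w ∈ primitiveRoots n ℂ, (w ^ c) ^ j = ∑ w ∈ primitiveRoots n ℂ, w ^ j := by
      refine Finset.sum_bij (fun w _ => w ^ c) (fun w hw => ?_) (fun a ha b hb h => ?_)
        (fun w hw => ?_) fun w _ => rfl
      · exact (mem_primitiveRoots hn0).mpr (((mem_primitiveRoots hn0).mp hw).pow_of_coprime c hc2)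
      · obtain ⟨ea, -, rfl⟩ := hprim a ((mem_primitiveRoots hn0).mp ha)
        obtain ⟨eb, -, rfl⟩ := hprim b ((mem_primitiveRoots hn0).mp hb)
        rw [← pow_mul, ← pow_mul, ← pow_mod_orderOf, ← pow_mod_orderOf ζ (eb * c),
          ← hζ.eq_orderOf] at h
        have h' := hζ.pow_inj (Nat.mod_lt _ hn0) (Nat.mod_lt _ hn0) h
        rw [← pow_mod_orderOf, ← pow_mod_orderOf ζ eb, ← hζ.eq_orderOf]
        congr 1
        exact Nat.ModEq.cancel_right_of_coprime hc2.symm h'
      · have hp := (hζ.pow_of_coprime c hc2)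
        obtain ⟨e, -, he⟩ := hp.eq_pow_of_pow_eq_one ((mem_primitiveRoots hn0).mp hw).pow_eq_one
        refine ⟨ζ ^ e, (mem_primitiveRoots hn0).mpr ?_, by rw [← he, ← pow_mul, ← pow_mul, mul_comm]⟩
        have hw' := (mem_primitiveRoots hn0).mp hw
        rw [← he, hp.pow_iff_coprime hn0] at hw'
        exact hζ.pow_of_coprime e hw'
    rw [Finset.sum_congr rfl hneg, Finset.sum_neg_distrib] at hperm
    linear_combination (-1/2 : ℂ) * hperm

/-- A symmetric form with zero diagonal has even sum. -/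
theorem two_dvd_sum_sum {κ : Type*} (T : Finset κ) (F : κ → κ → ℤ) (hF : ∀ a b, F a b = F b a)
    (h0 : ∀ a, F a a = 0) : (2 : ℤ) ∣ ∑ a ∈ T, ∑ b ∈ T, F a b := by
  classical
  induction T using Finset.induction_on with
  | empty => simp
  | insert c T hc ih =>
    rw [Finset.sum_insert hc, Finset.sum_insert hc, h0, zero_add,
      Finset.sum_congr rfl fun a _ => Finset.sum_insert hc, Finset.sum_add_distrib,
      Finset.sum_congr rfl fun a _ => hF a c, ← add_assoc, ← two_mul]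
    exact dvd_add (dvd_mul_right _ _) ih

/-- The average of a symmetric cyclotomic form is an integer of the parity of its coefficient
sum. -/
theorem exists_avg_form {κ : Type*} (k : ℕ) (T : Finset κ) {Z : κ → κ → ℤ}
    (hZ : ∀ φ θ, Z φ θ = Z θ φ) (a i : κ → ℕ) :
    ∃ t : ℤ, ∑ w ∈ primitiveRoots (2 ^ k) ℂ, cycloForm T Z a a i i w =
        (t : ℂ) * ((primitiveRoots (2 ^ k) ℂ).card : ℂ) ∧
      2 ∣ t - ∑ φ ∈ T, ∑ θ ∈ T, (a φ : ℤ) * (a θ : ℤ) * Z φ θ := by
  classical
  set n := 2 ^ k with hn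
  have hn0 : 0 < n := Nat.pow_pos (by norm_num)
  set m := (primitiveRoots n ℂ).card with hm
  let ζ := Complex.exp (2 * Real.pi * Complex.I / n)
  have hζ : IsPrimitiveRoot ζ n := Complex.isPrimitiveRoot_exp n hn0.ne'
  have hm0 : (m : ℂ) ≠ 0 :=
    Nat.cast_ne_zero.mpr (Finset.card_ne_zero.mpr ⟨ζ, (mem_primitiveRoots hn0).mpr hζ⟩)
  choose τ hτ using fun φ θ : κ => exists_avg_pow k (i φ + (n - 1) * i θ)
  have hpair : ∀ φ θ, ∑ w ∈ primitiveRoots n ℂ, w ^ i φ * conj (w ^ i θ) = (τ φ θ : ℂ) * m := by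
    intro φ θ
    rw [← hτ φ θ]
    refine Finset.sum_congr rfl fun w hw => ?_
    have hw1 := ((mem_primitiveRoots hn0).mp hw).pow_eq_one
    rw [pow_add, map_pow, ← Complex.inv_eq_conj (Complex.norm_eq_one_of_pow_eq_one hw1 hn0.ne'),
      pow_mul]
    congr 2
    refine (eq_inv_of_mul_eq_one_left ?_).symm
    rw [← pow_succ, Nat.sub_add_cancel hn0, hw1]
  have hsymm : ∀ φ θ, τ φ θ = τ θ φ := by
    intro φ θ
    have h := congrArg conj (hpair φ θ)
    simp only [map_sum, map_mul, Complex.conj_conj, map_intCast, map_natCast] at h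
    rw [Finset.sum_congr rfl fun w _ => mul_comm _ _, hpair θ φ] at h
    exact_mod_cast (mul_right_cancel₀ hm0 h).symm
  have hdiag : ∀ φ, τ φ φ = 1 := by
    intro φ
    have h := hpair φ φ
    rw [Finset.sum_congr rfl fun w hw => by
      rw [Complex.mul_conj, Complex.normSq_eq_norm_sq, norm_pow,
        Complex.norm_eq_one_of_pow_eq_one ((mem_primitiveRoots hn0).mp hw).pow_eq_one hn0.ne',
        one_pow, one_pow, Complex.ofReal_one], Finset.sum_const, nsmul_eq_mul, mul_one, ← hm] at h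
    exact_mod_cast (mul_eq_right₀ hm0).mp h.symm
  refine ⟨∑ φ ∈ T, ∑ θ ∈ T, (a φ : ℤ) * (a θ : ℤ) * Z φ θ * τ φ θ, ?_, ?_⟩
  · simp only [cycloForm, Int.cast_sum, Finset.sum_mul]
    rw [Finset.sum_comm]
    refine Finset.sum_congr rfl fun φ _ => ?_
    rw [Finset.sum_comm]
    refine Finset.sum_congr rfl fun θ _ => ?_
    rw [← Finset.mul_sum, hpair]
    push_cast
    ring
  · rw [← Finset.sum_sub_distrib]
    simp only [← Finset.sum_sub_distrib]
    refine two_dvd_sum_sum T _ (fun φ θ => ?_) fun φ => ?_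
    · rw [hsymm φ θ, hZ φ θ]
      ring
    · rw [hdiag]
      ring

end CfsgLib.BlockRank
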